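/-
The group `(S₃ × S₅)⁺` on the points `{0, ..., 4} ⊕ {5, 6, 7}` and its decidable facts.
-/
import Cfsg.Agent.EqLemmas
import Mathlib.GroupTheory.Perm.Fin
import Mathlib.GroupTheory.SpecificGroups.Alternating

set_option autoImplicit false
set_option maxRecDepth 100000
set_option synthInstance.maxSize 4000
set_option synthInstance.maxHeartbeats 400000

namespace Cfsg.Agent.AltEightThree

open Equiv Equiv.Perm

/-- Pairs of permutations whose signs agree. -/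
abbrev Pairs : Subgroup (Perm (Fin 3) × Perm (Fin 5)) :=
  (((Equiv.Perm.sign).comp (MonoidHom.fst (Equiv.Perm (Fin 3)) (Equiv.Perm (Fin 5)))) *
    ((Equiv.Perm.sign).comp (MonoidHom.snd (Equiv.Perm (Fin 3)) (Equiv.Perm (Fin 5))))).ker

theorem mem_pairs {p : Perm (Fin 3) × Perm (Fin 5)} : p ∈ Pairs ↔ sign p.1 * sign p.2 = 1 :=
  MonoidHom.mem_ker

/-- An element of `Pairs`. -/
abbrev mk (p : Perm (Fin 3) × Perm (Fin 5)) (h : sign p.1 * sign p.2 = 1) : Pairs :=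
  ⟨p, mem_pairs.2 h⟩

/-- The three-cycle on `Fin 3`. -/
def c3 : Perm (Fin 3) := swap 0 2 * swap 0 1

/-- The three-cycle `(0 1 2)` on `Fin 5`. -/
def w5 : Perm (Fin 5) := swap 0 2 * swap 0 1

/-- The element `(5 6 7)`. -/
def zP : Pairs := mk (c3, 1) (by decide)
/-- The element `(0 1 2)`. -/
def wP : Pairs := mk (1, w5) (by decide)
/-- The element `(0 2)(3 4)`. -/
def aP : Pairs := mk (1, swap 0 2 * swap 3 4) (by decide)
/-- The element `(5 7)(3 4)`. -/
def bP : Pairs := mk (swap 0 2, swap 3 4) (by decide)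
/-- The element `(0 1)(2 3)`. -/
def tP : Pairs := mk (1, swap 0 1 * swap 2 3) (by decide)
/-- The element `(0 2)(1 3)`. -/
def uP : Pairs := mk (1, swap 0 2 * swap 1 3) (by decide)
/-- The element `(0 1)(5 6)`. -/
def eP : Pairs := mk (swap 0 1, swap 0 1) (by decide)
/-- The element `(5 6)(3 4)`. -/
def hP : Pairs := mk (swap 0 1, swap 3 4) (by decide)
/-- The element `(0 1 2 3 4)`. -/
def fP : Pairs := mk (1, finRotate 5) (by decide)

/-- The four-group on `{0, 1, 2, 3}`. -/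
def fourA : List Pairs := [1, tP, uP, tP * uP]

/-- The four-group on `{0, 1, 2, 4}`. -/
def fourB : List Pairs :=
  [1, mk (1, swap 0 1 * swap 2 4) (by decide), mk (1, swap 0 2 * swap 1 4) (by decide),
    mk (1, swap 0 4 * swap 1 2) (by decide)]

/-- Words in `x` and its conjugates under `wP`. -/
def threeWords (x : Pairs) : List Pairs :=
  let x₁ := wP * x * wP⁻¹
  let x₂ := wP * x₁ * wP⁻¹
  [x, x ^ 2, x ^ 5, x * x₁, x * x₂, x * x₁ * (x * x₂), x * (x * x₁), x ^ 3 * (wP * x ^ 3 * wP⁻¹)]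

theorem cent_cw : ∀ x : Pairs, x * zP = zP * x → x * wP = wP * x →
    ∃ i < 3, ∃ j < 3, x = zP ^ i * wP ^ j := by
  decide +kernel

theorem three_word : ∀ x : Pairs, x * zP = zP * x →
    x ∈ fourA ∨ x ∈ fourB ∨ ∃ q ∈ threeWords x, q ^ 3 = 1 ∧ q ≠ 1 := by
  decide +kernel

theorem cent_ct : ∀ x : Pairs, x * zP = zP * x → x * tP = tP * x →
    ∃ i < 3, ∃ v ∈ fourA, x = zP ^ i * v := by
  decide +kernel

theorem cent_four : ∀ x : Pairs, x * tP = tP * x → x * uP = uP * x →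
    ∃ i < 3, ∃ v ∈ fourA, x = zP ^ i * v := by
  decide +kernel

theorem fourA_orbit : ∀ x ∈ fourA, x ≠ 1 → ∀ y ∈ fourA,
    y = 1 ∨ y = x ∨ y = wP * x * wP⁻¹ ∨ y = wP * (wP * x * wP⁻¹) * wP⁻¹ := by
  decide +kernel

theorem fourB_orbit : ∀ x ∈ fourB, x ≠ 1 → ∀ y ∈ fourB,
    y = 1 ∨ y = x ∨ y = wP * x * wP⁻¹ ∨ y = wP * (wP * x * wP⁻¹) * wP⁻¹ := by
  decide +kernel

theorem fourA_fourB : ∀ x ∈ fourA, ∀ y ∈ fourB, x ≠ 1 → y ≠ 1 → x * y ∉ fourA ∧ x * y ∉ fourB := by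
  decide +kernel

theorem four_isConj : ∀ x ∈ fourA ++ fourB, x ≠ 1 → ∃ g : Pairs, g * tP * g⁻¹ = x := by
  decide +kernel

theorem four_sq : ∀ x ∈ fourA ++ fourB, x * x = 1 ∧ x * zP = zP * x := by
  decide +kernel

end Cfsg.Agent.AltEightThree
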