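/-
`(S₃ × S₅)⁺` inside the alternating group on eight points, and the three-cycles `(0 1 i)`.
-/
import Cfsg.Agent.Lib.AltEightThree.Perms
import Cfsg.Agent.Lib.AltPresent.Carmichael

set_option autoImplicit false
set_option maxRecDepth 100000
set_option synthInstance.maxSize 4000
set_option synthInstance.maxHeartbeats 400000

namespace Cfsg.Agent.AltEightThree

open Equiv Equiv.Perm

/-- The alternating group on eight points. -/
abbrev A8 : Subgroup (Perm (Fin 8)) := alternatingGroup (Fin 8)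

/-- An element of `A8`. -/
abbrev mk8 (p : Perm (Fin 8)) (h : sign p = 1) : A8 := ⟨p, h⟩

/-- The three-cycle `(0 1 i+2)`. -/
def cyc8 (i : Fin 6) : A8 :=
  mk8 (swap (0 : Fin 8) ⟨2 + i, by omega⟩ * swap 0 1) (by revert i; decide +kernel)

/-- Carmichael's presentation for eight points. -/
theorem exists_hom8 {G : Type*} [Group G] (x : Fin 6 → G) (h3 : ∀ i, x i ^ 3 = 1)
    (h2 : ∀ i j, i ≠ j → (x i * x j) ^ 2 = 1) :
    ∃ φ : A8 →* G, (∀ i, φ (cyc8 i) = x i) ∧ φ.range = Subgroup.closure (Set.range x) := by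
  obtain ⟨φ, hφ, hr⟩ := AltPresent.exists_hom x h3 h2
  set e := Equiv.altCongrHom (finSumFinEquiv : Fin 2 ⊕ Fin 6 ≃ Fin 8)
  refine ⟨φ.comp e.symm.toMonoidHom, fun i => ?_, ?_⟩
  · rw [← hφ i, MonoidHom.comp_apply]
    refine congrArg φ ?_
    rw [MulEquiv.coe_toMonoidHom, MulEquiv.symm_apply_eq]
    revert i
    decide +kernel
  · rw [← hr, MonoidHom.range_eq_map, MonoidHom.range_eq_map φ, ← Subgroup.map_map,
      Subgroup.map_top_of_surjective _ e.symm.surjective]

/-- The pairs as permutations of eight points. -/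
def embHom : Pairs →* Perm (Fin 8) where
  toFun x := (finSumFinEquiv (m := 5) (n := 3)).permCongr (Equiv.sumCongr x.1.2 x.1.1)
  map_one' := by decide +kernel
  map_mul' x y := by
    ext i
    simp only [Subgroup.coe_mul, Prod.fst_mul, Prod.snd_mul, Perm.mul_apply, Equiv.permCongr_apply,
      Equiv.symm_apply_apply]
    cases (finSumFinEquiv (m := 5) (n := 3)).symm i <;> rfl

theorem sign_embHom (x : Pairs) : sign (embHom x) = 1 := by
  show sign ((finSumFinEquiv (m := 5) (n := 3)).permCongr (Equiv.sumCongr x.1.2 x.1.1)) = 1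
  rw [sign_permCongr, sign_sumCongr, mul_comm]
  exact mem_pairs.1 x.2

/-- The pairs as even permutations of eight points. -/
def emb : Pairs →* A8 := embHom.codRestrict A8 sign_embHom

/-- The three-cycle `(0 1 i+2)`, `i < 3`. -/
def cycP (i : Fin 3) : Pairs :=
  mk (1, swap (0 : Fin 5) ⟨2 + i, by omega⟩ * swap 0 1) (by revert i; decide +kernel)

/-- The element `(0 1)(6 7)`. -/
def e6P : Pairs := mk (swap 1 2, swap 0 1) (by decide)

theorem emb_cycP : ∀ i : Fin 3, emb (cycP i) = cyc8 ⟨i, by omega⟩ := by decide +kernel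

theorem pairs_split : ∀ x : Pairs, ∃ g ∈ [1, eP, e6P, eP * e6P, e6P * eP, eP * e6P * eP],
    ∃ i < 5, ∃ v ∈ fourA, ∃ k < 3, x = g * (fP ^ i * v * wP ^ k) := by
  decide +kernel

/-- Generation of the pairs. -/
theorem pairs_eq_top (H : Subgroup Pairs) (hc : ∀ i, cycP i ∈ H) (h5 : eP ∈ H) (h6 : e6P ∈ H) :
    H = ⊤ := by
  have hw : wP ∈ H := (by decide +kernel : cycP 0 = wP) ▸ hc 0
  have ht : tP ∈ H := by
    rw [show tP = cycP 0 * cycP 1 * cycP 1 * cycP 0 by decide +kernel]
    exact H.mul_mem (H.mul_mem (H.mul_mem (hc 0) (hc 1)) (hc 1)) (hc 0)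
  have hu : uP ∈ H := by
    rw [show uP = cycP 0 * cycP 1 by decide +kernel]
    exact H.mul_mem (hc 0) (hc 1)
  have hf : fP ∈ H := by
    rw [show fP = cycP 2 * cycP 1 * cycP 1 * cycP 0 by decide +kernel]
    exact H.mul_mem (H.mul_mem (H.mul_mem (hc 2) (hc 1)) (hc 1)) (hc 0)
  refine eq_top_iff.2 fun x _ => ?_
  obtain ⟨g, hg, i, -, v, hv, k, -, rfl⟩ := pairs_split x
  refine H.mul_mem ?_ (H.mul_mem (H.mul_mem (H.pow_mem hf i) ?_) (H.pow_mem hw k))
  · simp only [List.mem_cons, List.not_mem_nil, or_false] at hg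
    rcases hg with rfl | rfl | rfl | rfl | rfl | rfl
    exacts [H.one_mem, h5, h6, H.mul_mem h5 h6, H.mul_mem h6 h5, H.mul_mem (H.mul_mem h5 h6) h5]
  · simp only [fourA, List.mem_cons, List.not_mem_nil, or_false] at hv
    rcases hv with rfl | rfl | rfl | rfl
    exacts [H.one_mem, ht, hu, H.mul_mem ht hu]

end Cfsg.Agent.AltEightThree
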