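/-
A backtracking search over the lists of images of the permutations of eight points intertwining
given permutations.
-/
import Cfsg.Agent.EqLemmas
import Mathlib.GroupTheory.Perm.Fin

set_option autoImplicit false

namespace Cfsg.Agent.AltEightThree

open Equiv Equiv.Perm

/-- The list of images of a permutation. -/
def imgs (π : Perm (Fin 8)) : List ℕ := List.ofFn fun i => (π i).val

/-- The entry of a list of images. -/
def at' (l : List ℕ) (i : ℕ) : ℕ := l.getD i 0

/-- Equality of lists of images. -/
def eqL : List ℕ → List ℕ → Bool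
  | [], [] => true
  | a :: l, b :: m => Nat.beq a b && eqL l m
  | _, _ => false

/-- The intertwining condition on a partial list of images. -/
def okPrefix (cs : List (List ℕ × List ℕ)) (l : List ℕ) : Bool :=
  cs.all fun p => (List.range l.length).all fun i =>
    if at' p.1 i < l.length then Nat.beq (at' l (at' p.1 i)) (at' p.2 (at' l i)) else true

/-- The admissible lists of the first `n` images. -/
def searchPrefix (cs : List (List ℕ × List ℕ)) : ℕ → List (List ℕ)
  | 0 => [[]]
  | n + 1 => (searchPrefix cs n).flatMap fun l =>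
      (((List.range 8).filter fun a => !(l.any (Nat.beq a))).map fun a => l ++ [a]).filter (okPrefix cs)

/-- The pairs of points. -/
def pairList : List (ℕ × ℕ) :=
  (List.range 8).flatMap fun i => (List.range i).map fun j => (i, j)

/-- Evenness of a list of images. -/
def evenL (l : List ℕ) : Bool :=
  Nat.beq ((pairList.countP fun p => decide (at' l p.1 ≤ at' l p.2)) % 2) 0

/-- The check of a predicate on all even intertwining permutations. -/
def searchAll (cs : List (List ℕ × List ℕ)) (Q : List ℕ → Bool) : Bool :=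
  (searchPrefix cs 8).all fun l => !evenL l || Q l

theorem eqL_eq : ∀ {l m : List ℕ}, eqL l m = true → l = m
  | [], [], _ => rfl
  | a :: l, b :: m, h => by
    rw [eqL, Bool.and_eq_true] at h
    rw [Nat.eq_of_beq_eq_true h.1, eqL_eq h.2]
  | [], _ :: _, h => by simp [eqL] at h
  | _ :: _, [], h => by simp [eqL] at h

theorem eqL_refl : ∀ l : List ℕ, eqL l l = true
  | [] => rfl
  | a :: l => by rw [eqL, Nat.beq_refl, eqL_refl l]; rfl

theorem at'_imgs (π : Perm (Fin 8)) (i : Fin 8) : at' (imgs π) i.val = (π i).val := by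
  rw [at', imgs, List.getD_eq_getElem?_getD, List.getElem?_ofFn, dif_pos i.2]
  rfl

theorem at'_take (π : Perm (Fin 8)) {n : ℕ} (i : Fin 8) (hi : i.val < n) :
    at' ((imgs π).take n) i.val = (π i).val := by
  rw [at', List.getD_eq_getElem?_getD, List.getElem?_take_of_lt hi, imgs, List.getElem?_ofFn,
    dif_pos i.2]
  rfl

theorem imgs_injective : Function.Injective imgs := fun a b h =>
  Equiv.ext fun i => Fin.ext (by rw [← at'_imgs, h, at'_imgs])

theorem take_mem_searchPrefix {cs : List (List ℕ × List ℕ)} {π : Perm (Fin 8)}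
    (hc : ∀ p ∈ cs, ∃ σ τ : Perm (Fin 8), p = (imgs σ, imgs τ) ∧ π * σ = τ * π) :
    ∀ n ≤ 8, (imgs π).take n ∈ searchPrefix cs n := by
  intro n
  induction n with
  | zero => intro _; simp [searchPrefix]
  | succ n ih =>
    intro hn
    have hn' : n < 8 := hn
    have hlen : ∀ m ≤ 8, ((imgs π).take m).length = m := fun m hm => by
      rw [List.length_take, imgs, List.length_ofFn]; omega
    rw [searchPrefix, List.mem_flatMap]
    refine ⟨_, ih (Nat.le_of_lt hn'), List.mem_filter.2 ⟨List.mem_map.2 ⟨(π ⟨n, hn'⟩).val,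
      List.mem_filter.2 ⟨List.mem_range.2 (π ⟨n, hn'⟩).2, ?_⟩, ?_⟩, ?_⟩⟩
    · rw [Bool.not_eq_true', Bool.eq_false_iff, Ne, List.any_eq_true]
      rintro ⟨b, hb, hbe⟩
      obtain rfl := Nat.eq_of_beq_eq_true hbe
      obtain ⟨j, hj, hje⟩ := List.getElem_of_mem hb
      rw [hlen n (by omega)] at hj
      simp only [imgs, List.getElem_take, List.getElem_ofFn] at hje
      have := congrArg Fin.val (π.injective (Fin.ext hje))
      simp only at this
      omega
    · rw [List.take_add_one, imgs, List.getElem?_ofFn, dif_pos hn', Option.toList_some]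
    · rw [okPrefix, List.all_eq_true]
      intro p hp
      obtain ⟨σ, τ, rfl, h⟩ := hc p hp
      rw [List.all_eq_true, hlen (n + 1) hn]
      intro i hi
      rw [List.mem_range] at hi
      split_ifs with h'
      · have e1 : at' (imgs σ) i = (σ ⟨i, by omega⟩).val := at'_imgs σ ⟨i, by omega⟩
        have e2 : at' ((imgs π).take (n + 1)) i = (π ⟨i, by omega⟩).val :=
          at'_take π ⟨i, by omega⟩ hi
        simp only at h' ⊢
        rw [e2, at'_imgs, e1, at'_take π _ (e1 ▸ h'),
          show π (σ ⟨i, by omega⟩) = τ (π ⟨i, by omega⟩) from DFunLike.congr_fun h _]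
        exact Nat.beq_refl _
      · rfl

theorem pairList_eq : (pairList.map fun p => ((⟨p.1 % 8, Nat.mod_lt _ (by norm_num)⟩,
      ⟨p.2 % 8, Nat.mod_lt _ (by norm_num)⟩) : Fin 8 × Fin 8)).map
      (fun p => (⟨p.1, p.2⟩ : Σ _ : Fin 8, Fin 8)) =
      (List.finRange 8).flatMap fun i => ((List.finRange 8).filter (· < i)).map fun j => ⟨i, j⟩ := by
  decide +kernel

theorem evenL_of_sign {π : Perm (Fin 8)} (h : sign π = 1) : evenL (imgs π) = true := by
  let s : Perm (Fin 8) →* ℤˣ := MonoidHom.mk' signAux signAux_mul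
  have hs : s = sign := eq_sign_of_surjective_hom fun x => by
    rcases Int.units_eq_one_or x with rfl | rfl
    · exact ⟨1, map_one _⟩
    · exact ⟨swap 0 1, (by decide +kernel : signAux (swap (0 : Fin 8) 1) = -1)⟩
  have h' : signAux π = 1 := by rw [← h, ← hs]; rfl
  set L : List (Σ _ : Fin 8, Fin 8) :=
    (List.finRange 8).flatMap fun i => ((List.finRange 8).filter (· < i)).map fun j => ⟨i, j⟩
  have hL : finPairsLT 8 = L.toFinset := by decide +kernel
  have hnd : L.Nodup := by decide +kernel
  have hcount : ∀ (M : List (Σ _ : Fin 8, Fin 8)) (b : (Σ _ : Fin 8, Fin 8) → Prop) [DecidablePred b],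
      (M.map fun x => if b x then (-1 : ℤˣ) else 1).prod = (-1) ^ (M.countP fun x => decide (b x)) := by
    intro M b _
    induction M with
    | nil => rfl
    | cons a M ih =>
      rw [List.map_cons, List.prod_cons, ih, List.countP_cons]
      by_cases hb : b a <;> simp [hb, pow_succ]
  have key : (-1 : ℤˣ) ^ (L.countP fun x => decide (π x.1 ≤ π x.2)) = 1 := by
    rw [← hcount, ← List.prod_toFinset _ hnd, ← hL]
    exact h'
  rw [show L = _ from pairList_eq.symm, List.countP_map, List.countP_map] at key
  rw [evenL]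
  rw [List.countP_congr (q := fun p => decide (at' (imgs π) p.1 ≤ at' (imgs π) p.2))
    (fun p hp => ?_)] at key
  · rcases Nat.even_or_odd (pairList.countP fun p => decide (at' (imgs π) p.1 ≤ at' (imgs π) p.2))
      with he | ho
    · rw [Nat.even_iff.1 he]; rfl
    · rw [ho.neg_one_pow] at key
      exact absurd key (by decide)
  · have hlt : ∀ q ∈ pairList, q.1 < 8 ∧ q.2 < 8 := by decide +kernel
    obtain ⟨h1, h2⟩ := hlt p hp
    have e1 := at'_imgs π ⟨p.1, h1⟩
    have e2 := at'_imgs π ⟨p.2, h2⟩
    simp only at e1 e2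
    simp only [Function.comp_apply, Nat.mod_eq_of_lt h1, Nat.mod_eq_of_lt h2, e1, e2,
      Fin.val_fin_le]

theorem of_searchAll {cs : List (List ℕ × List ℕ)} {Q : List ℕ → Bool} (h : searchAll cs Q = true)
    (π : Perm (Fin 8)) (hsign : sign π = 1)
    (hc : ∀ p ∈ cs, ∃ σ τ : Perm (Fin 8), p = (imgs σ, imgs τ) ∧ π * σ = τ * π) :
    Q (imgs π) = true := by
  rw [searchAll, List.all_eq_true] at h
  have hm := take_mem_searchPrefix hc 8 le_rfl
  rw [List.take_of_length_le (by rw [imgs, List.length_ofFn])] at hm
  simpa [evenL_of_sign hsign] using h _ hm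

end Cfsg.Agent.AltEightThree
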