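/-
Computations in the alternating group on eight points.
-/
import Cfsg.Agent.Lib.AltEightThree.Emb
import Cfsg.Agent.Lib.AltEightThree.Search

set_option autoImplicit false
set_option maxRecDepth 100000
set_option synthInstance.maxSize 4000
set_option synthInstance.maxHeartbeats 400000

namespace Cfsg.Agent.AltEightThree

open Equiv Equiv.Perm

/-- The permutation with given lists of images and preimages. -/
def ofImg (a b : List ℕ)
    (h : ∀ i : Fin 8, b.getD (a.getD i.val 0 % 8) 0 % 8 = i.val ∧ a.getD (b.getD i.val 0 % 8) 0 % 8 = i.val) :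
    Perm (Fin 8) where
  toFun i := ⟨a.getD i.val 0 % 8, Nat.mod_lt _ (by norm_num)⟩
  invFun i := ⟨b.getD i.val 0 % 8, Nat.mod_lt _ (by norm_num)⟩
  left_inv i := Fin.ext (h i).1
  right_inv i := Fin.ext (h i).2

/-- The element `(0 1)(2 3)`. -/
def T8 : A8 :=
  mk8 (ofImg [1, 0, 3, 2, 4, 5, 6, 7] [1, 0, 3, 2, 4, 5, 6, 7] (by decide +kernel))
    (by decide +kernel)
/-- The element `(0 2)(1 3)`. -/
def U8 : A8 :=
  mk8 (ofImg [2, 3, 0, 1, 4, 5, 6, 7] [2, 3, 0, 1, 4, 5, 6, 7] (by decide +kernel))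
    (by decide +kernel)
/-- The element `(0 1)(5 6)`. -/
def E8' : A8 :=
  mk8 (ofImg [1, 0, 2, 3, 4, 6, 5, 7] [1, 0, 2, 3, 4, 6, 5, 7] (by decide +kernel))
    (by decide +kernel)
/-- The element `(0 1)(4 7)`. -/
def F8 : A8 :=
  mk8 (ofImg [1, 0, 2, 3, 7, 5, 6, 4] [1, 0, 2, 3, 7, 5, 6, 4] (by decide +kernel))
    (by decide +kernel)
/-- The element `(4 5)(6 7)`. -/
def S8 : A8 :=
  mk8 (ofImg [0, 1, 2, 3, 5, 4, 7, 6] [0, 1, 2, 3, 5, 4, 7, 6] (by decide +kernel))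
    (by decide +kernel)
/-- The element `(4 6)(5 7)`. -/
def R8 : A8 :=
  mk8 (ofImg [0, 1, 2, 3, 6, 7, 4, 5] [0, 1, 2, 3, 6, 7, 4, 5] (by decide +kernel))
    (by decide +kernel)
/-- The element `(0 1)(2 3)(4 5)(6 7)`. -/
def J8 : A8 :=
  mk8 (ofImg [1, 0, 3, 2, 5, 4, 7, 6] [1, 0, 3, 2, 5, 4, 7, 6] (by decide +kernel))
    (by decide +kernel)
/-- The element `(0 2 4)(1 3 5)`. -/
def Y8 : A8 :=
  mk8 (ofImg [2, 3, 4, 5, 0, 1, 6, 7] [4, 5, 0, 1, 2, 3, 6, 7] (by decide +kernel))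
    (by decide +kernel)
/-- The element `(0 1)(4 5)`. -/
def W8 : A8 :=
  mk8 (ofImg [1, 0, 2, 3, 5, 4, 6, 7] [1, 0, 2, 3, 5, 4, 6, 7] (by decide +kernel))
    (by decide +kernel)
/-- The element `(0 1)(6 7)`. -/
def W8' : A8 :=
  mk8 (ofImg [1, 0, 2, 3, 4, 5, 7, 6] [1, 0, 2, 3, 4, 5, 7, 6] (by decide +kernel))
    (by decide +kernel)
/-- The element `(0 2)(1 3)(4 6)(5 7)`. -/
def P8 : A8 :=
  mk8 (ofImg [2, 3, 0, 1, 6, 7, 4, 5] [2, 3, 0, 1, 6, 7, 4, 5] (by decide +kernel))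
    (by decide +kernel)
/-- The element `(0 4)(1 5)(2 6)(3 7)`. -/
def P8' : A8 :=
  mk8 (ofImg [4, 5, 6, 7, 0, 1, 2, 3] [4, 5, 6, 7, 0, 1, 2, 3] (by decide +kernel))
    (by decide +kernel)
/-- The element `(4 5 6)`. -/
def C8 : A8 :=
  mk8 (ofImg [0, 1, 2, 3, 5, 6, 4, 7] [0, 1, 2, 3, 6, 4, 5, 7] (by decide +kernel))
    (by decide +kernel)

/-- The product of the three pair swaps `T8`, `W8`, `W8'`. -/
def baseList : List A8 :=
  [1, T8, W8, W8', T8 * W8, T8 * W8', W8 * W8', T8 * W8 * W8']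

/-- The preimage of the maximal normal two-subgroup of the centralizer of `J8` modulo `⟨J8⟩`. -/
def qList : List A8 :=
  baseList ++ baseList.map (· * P8) ++ baseList.map (· * P8') ++ baseList.map (· * (P8 * P8'))

/-- The conjugates of `(0 1)(5 6)` by the even permutations of `{4, 5, 6, 7}`. -/
def fList : List A8 :=
  [1, C8, C8 * C8, R8, R8 * C8, R8 * C8 * C8].flatMap fun g => [g, S8 * g]

/-- Membership of a list of images in a list of lists of images. -/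
def memL (l : List ℕ) (L : List (List ℕ)) : Bool := L.any (eqL l)

/-- Support of size four. -/
def fourL (l : List ℕ) : Bool :=
  Nat.beq ((List.range 8).countP fun i => Nat.beq (at' l i) i) 4

/-- The images of the elements of `qList`. -/
def qImg : List (List ℕ) :=
  [[0, 1, 2, 3, 4, 5, 6, 7],
    [1, 0, 3, 2, 4, 5, 6, 7],
    [1, 0, 2, 3, 5, 4, 6, 7],
    [1, 0, 2, 3, 4, 5, 7, 6],
    [0, 1, 3, 2, 5, 4, 6, 7],
    [0, 1, 3, 2, 4, 5, 7, 6],
    [0, 1, 2, 3, 5, 4, 7, 6],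
    [1, 0, 3, 2, 5, 4, 7, 6],
    [2, 3, 0, 1, 6, 7, 4, 5],
    [3, 2, 1, 0, 6, 7, 4, 5],
    [2, 3, 1, 0, 6, 7, 5, 4],
    [2, 3, 1, 0, 7, 6, 4, 5],
    [3, 2, 0, 1, 6, 7, 5, 4],
    [3, 2, 0, 1, 7, 6, 4, 5],
    [2, 3, 0, 1, 7, 6, 5, 4],
    [3, 2, 1, 0, 7, 6, 5, 4],
    [4, 5, 6, 7, 0, 1, 2, 3],
    [4, 5, 6, 7, 1, 0, 3, 2],
    [5, 4, 6, 7, 1, 0, 2, 3],
    [4, 5, 7, 6, 1, 0, 2, 3],
    [5, 4, 6, 7, 0, 1, 3, 2],
    [4, 5, 7, 6, 0, 1, 3, 2],
    [5, 4, 7, 6, 0, 1, 2, 3],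
    [5, 4, 7, 6, 1, 0, 3, 2],
    [6, 7, 4, 5, 2, 3, 0, 1],
    [6, 7, 4, 5, 3, 2, 1, 0],
    [6, 7, 5, 4, 2, 3, 1, 0],
    [7, 6, 4, 5, 2, 3, 1, 0],
    [6, 7, 5, 4, 3, 2, 0, 1],
    [7, 6, 4, 5, 3, 2, 0, 1],
    [7, 6, 5, 4, 2, 3, 0, 1],
    [7, 6, 5, 4, 3, 2, 1, 0]]

/-- The images of the involutions occurring in `normV_small`. -/
def fImg : List (List ℕ) :=
  [[2, 3, 0, 1, 4, 5, 6, 7],
    [3, 2, 1, 0, 4, 5, 6, 7],
    [1, 0, 2, 3, 4, 6, 5, 7],
    [1, 0, 2, 3, 7, 5, 6, 4],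
    [1, 0, 2, 3, 6, 5, 4, 7],
    [1, 0, 2, 3, 4, 7, 6, 5],
    [1, 0, 2, 3, 5, 4, 6, 7],
    [1, 0, 2, 3, 5, 4, 6, 7],
    [1, 0, 2, 3, 7, 5, 6, 4],
    [1, 0, 2, 3, 4, 6, 5, 7],
    [1, 0, 2, 3, 6, 5, 4, 7],
    [1, 0, 2, 3, 4, 7, 6, 5],
    [1, 0, 2, 3, 4, 5, 7, 6],
    [1, 0, 2, 3, 4, 5, 7, 6],
    [0, 1, 3, 2, 4, 6, 5, 7],
    [0, 1, 3, 2, 7, 5, 6, 4],
    [0, 1, 3, 2, 6, 5, 4, 7],
    [0, 1, 3, 2, 4, 7, 6, 5],
    [0, 1, 3, 2, 5, 4, 6, 7],
    [0, 1, 3, 2, 5, 4, 6, 7],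
    [0, 1, 3, 2, 7, 5, 6, 4],
    [0, 1, 3, 2, 4, 6, 5, 7],
    [0, 1, 3, 2, 6, 5, 4, 7],
    [0, 1, 3, 2, 4, 7, 6, 5],
    [0, 1, 3, 2, 4, 5, 7, 6],
    [0, 1, 3, 2, 4, 5, 7, 6]]

/-- The images of the centralizer of `J8` and `Y8`. -/
def yImg : List (List ℕ) :=
  [[0, 1, 2, 3, 4, 5, 6, 7],
    [2, 3, 4, 5, 0, 1, 6, 7],
    [4, 5, 0, 1, 2, 3, 6, 7],
    [1, 0, 3, 2, 5, 4, 7, 6],
    [3, 2, 5, 4, 1, 0, 7, 6],
    [5, 4, 1, 0, 3, 2, 7, 6]]

theorem qImg_eq : qList.map (fun q : A8 => imgs (q : Perm (Fin 8))) = qImg := by decide +kernel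

theorem fImg_eq : ([U8, T8 * U8] ++ fList.map (fun g => g * E8' * g⁻¹) ++
    fList.map (fun g => T8 * (g * E8' * g⁻¹))).map (fun q : A8 => imgs (q : Perm (Fin 8))) = fImg := by
  decide +kernel

theorem yImg_eq : [1, Y8, Y8 * Y8, J8, J8 * Y8, J8 * (Y8 * Y8)].map
    (fun q : A8 => imgs (q : Perm (Fin 8))) = yImg := by
  decide +kernel

theorem mem_of_memL {π : A8} {L : List A8} {L' : List (List ℕ)}
    (hL : L.map (fun q : A8 => imgs (q : Perm (Fin 8))) = L') (h : memL (imgs π) L' = true) : π ∈ L := by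
  rw [memL, List.any_eq_true] at h
  obtain ⟨l, hl, he⟩ := h
  rw [← hL, List.mem_map] at hl
  obtain ⟨q, hq, rfl⟩ := hl
  rwa [show π = q from Subtype.ext (imgs_injective (eqL_eq he))]

theorem qList_one : (1 : A8) ∈ qList := by simp [qList, baseList]

/-- The composition of lists of images. -/
def compL (a b : List ℕ) : List ℕ := (List.range 8).map fun i => at' a (at' b i)

theorem compL_imgs (a b : Perm (Fin 8)) : compL (imgs a) (imgs b) = imgs (a * b) := by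
  refine List.ext_getElem (by simp [compL, imgs]) fun i h _ => ?_
  have hi : i < 8 := by simpa [compL] using h
  simp only [compL, List.getElem_map, List.getElem_range, imgs, List.getElem_ofFn, Perm.mul_apply]
  exact (congrArg (at' (imgs a)) (at'_imgs b ⟨i, hi⟩)).trans (at'_imgs a _)

theorem qList_mul : ∀ a ∈ qList, ∀ b ∈ qList, a * b ∈ qList := fun a ha b hb => by
  have h : (qImg.all fun a => qImg.all fun b => memL (compL a b) qImg) = true := by decide +kernel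
  rw [List.all_eq_true] at h
  have ha' : imgs (a : Perm (Fin 8)) ∈ qImg := qImg_eq ▸ List.mem_map.2 ⟨a, ha, rfl⟩
  have hb' : imgs (b : Perm (Fin 8)) ∈ qImg := qImg_eq ▸ List.mem_map.2 ⟨b, hb, rfl⟩
  have h' := List.all_eq_true.1 (h _ ha') _ hb'
  rw [compL_imgs] at h'
  exact mem_of_memL qImg_eq (π := a * b) h'

theorem qList_inv : ∀ a ∈ qList, a⁻¹ ∈ qList := fun a ha => by
  have hpow : ∀ n : ℕ, a ^ n ∈ qList := fun n => by
    induction n with
    | zero => rw [pow_zero]; exact qList_one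
    | succ n ih => rw [pow_succ]; exact qList_mul _ ih _ ha
  obtain ⟨k, hk⟩ : a⁻¹ ∈ Submonoid.powers a :=
    mem_powers_iff_mem_zpowers.2 (Subgroup.inv_mem _ (Subgroup.mem_zpowers a))
  exact hk ▸ hpow k

/-- The subgroup with elements `qList`. -/
def q32 : Subgroup A8 where
  carrier := {x | x ∈ qList}
  mul_mem' := fun ha hb => qList_mul _ ha _ hb
  one_mem' := qList_one
  inv_mem' := fun ha => qList_inv _ ha

theorem img_T : imgs (T8 : Perm (Fin 8)) = [1, 0, 3, 2, 4, 5, 6, 7] := by decide +kernel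
theorem img_U : imgs (U8 : Perm (Fin 8)) = [2, 3, 0, 1, 4, 5, 6, 7] := by decide +kernel
theorem img_TU : imgs ((T8 * U8 : A8) : Perm (Fin 8)) = [3, 2, 1, 0, 4, 5, 6, 7] := by decide +kernel
theorem img_S : imgs (S8 : Perm (Fin 8)) = [0, 1, 2, 3, 5, 4, 7, 6] := by decide +kernel
theorem img_R : imgs (R8 : Perm (Fin 8)) = [0, 1, 2, 3, 6, 7, 4, 5] := by decide +kernel
theorem img_J : imgs (J8 : Perm (Fin 8)) = [1, 0, 3, 2, 5, 4, 7, 6] := by decide +kernel
theorem img_Y : imgs (Y8 : Perm (Fin 8)) = [2, 3, 4, 5, 0, 1, 6, 7] := by decide +kernel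
theorem img_W : imgs (W8 : Perm (Fin 8)) = [1, 0, 2, 3, 5, 4, 6, 7] := by decide +kernel
theorem img_WJ : imgs ((W8 * J8 : A8) : Perm (Fin 8)) = [0, 1, 3, 2, 4, 5, 7, 6] := by decide +kernel

theorem cs_two {π a b a' b' : A8} (h : π * a = b * π) (h' : π * a' = b' * π) :
    ∀ p ∈ [(imgs (a : Perm (Fin 8)), imgs (b : Perm (Fin 8))),
        (imgs (a' : Perm (Fin 8)), imgs (b' : Perm (Fin 8)))],
      ∃ σ τ : Perm (Fin 8), p = (imgs σ, imgs τ) ∧ (π : Perm (Fin 8)) * σ = τ * π := by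
  intro p hp
  simp only [List.mem_cons, List.not_mem_nil, or_false] at hp
  rcases hp with rfl | rfl
  exacts [⟨a, b, rfl, congrArg Subtype.val h⟩, ⟨a', b', rfl, congrArg Subtype.val h'⟩]

theorem cs_three {π a b a' b' a'' b'' : A8} (h : π * a = b * π) (h' : π * a' = b' * π)
    (h'' : π * a'' = b'' * π) :
    ∀ p ∈ [(imgs (a : Perm (Fin 8)), imgs (b : Perm (Fin 8))),
        (imgs (a' : Perm (Fin 8)), imgs (b' : Perm (Fin 8))),
        (imgs (a'' : Perm (Fin 8)), imgs (b'' : Perm (Fin 8)))],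
      ∃ σ τ : Perm (Fin 8), p = (imgs σ, imgs τ) ∧ (π : Perm (Fin 8)) * σ = τ * π := by
  intro p hp
  simp only [List.mem_cons, List.not_mem_nil, or_false] at hp
  rcases hp with rfl | rfl | rfl
  exacts [⟨a, b, rfl, congrArg Subtype.val h⟩, ⟨a', b', rfl, congrArg Subtype.val h'⟩,
    ⟨a'', b'', rfl, congrArg Subtype.val h''⟩]

/-- An involution of small support whose product with `T8` has small support. -/
def smallL (l : List ℕ) : Bool :=
  ((List.range 8).all fun i => Nat.beq (at' l (at' l i)) i) && fourL l &&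
    fourL (compL [1, 0, 3, 2, 4, 5, 6, 7] l)

theorem smallL_of {π : A8} (h2 : π * π = 1) (hf : fourL (imgs (π : Perm (Fin 8))) = true)
    (hf' : fourL (imgs ((T8 * π : A8) : Perm (Fin 8))) = true) :
    smallL (imgs (π : Perm (Fin 8))) = true := by
  rw [smallL, Bool.and_eq_true, Bool.and_eq_true, List.all_eq_true, ← img_T, compL_imgs]
  refine ⟨⟨fun i hi => ?_, hf⟩, hf'⟩
  rw [List.mem_range] at hi
  have e1 := at'_imgs (π : Perm (Fin 8)) ⟨i, hi⟩
  simp only at e1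
  rw [e1, at'_imgs, show (π : Perm (Fin 8)) ((π : Perm (Fin 8)) ⟨i, hi⟩) = ⟨i, hi⟩ from
    DFunLike.congr_fun (congrArg Subtype.val h2) _]
  exact Nat.beq_refl _

/-- The check in `four_small`. -/
def fourCheck (l : List ℕ) : Bool :=
  !smallL l || memL l [[2, 3, 0, 1, 4, 5, 6, 7], [3, 2, 1, 0, 4, 5, 6, 7]]

/-- The involutions of the centralizer of the four-group on `{0, 1, 2, 3}` of small support. -/
theorem four_small {π : A8} (hT : π * T8 = T8 * π) (hU : π * U8 = U8 * π) (h2 : π * π = 1)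
    (hf : fourL (imgs (π : Perm (Fin 8))) = true)
    (hf' : fourL (imgs ((T8 * π : A8) : Perm (Fin 8))) = true) :
    π = U8 ∨ π = T8 * U8 := by
  have hcs := cs_two hT hU
  rw [img_T, img_U] at hcs
  have h := of_searchAll (Q := fourCheck) (by decide +kernel) _ π.2 hcs
  rw [fourCheck, smallL_of h2 hf hf'] at h
  simpa using mem_of_memL (L := [U8, T8 * U8])
    (L' := [[2, 3, 0, 1, 4, 5, 6, 7], [3, 2, 1, 0, 4, 5, 6, 7]])
    (by decide +kernel) (by simpa using h)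

/-- The check in `normV_small`. -/
def normCheck (l : List ℕ) : Bool := !smallL l || memL l fImg

/-- The involutions of small support normalizing `⟨T8, U8⟩`. -/
theorem normV_small {π : A8} (hT : π * T8 = T8 * π)
    (hU : π * U8 = U8 * π ∨ π * U8 = T8 * U8 * π) (h2 : π * π = 1)
    (hf : fourL (imgs (π : Perm (Fin 8))) = true)
    (hf' : fourL (imgs ((T8 * π : A8) : Perm (Fin 8))) = true) :
    (π = U8 ∨ π = T8 * U8) ∨
      ∃ g ∈ fList, g * T8 = T8 * g ∧ (π = g * E8' * g⁻¹ ∨ π = T8 * (g * E8' * g⁻¹)) := by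
  have h : normCheck (imgs (π : Perm (Fin 8))) = true := by
    rcases hU with hU | hU
    · have hcs := cs_two hT hU
      rw [img_T, img_U] at hcs
      exact of_searchAll (by decide +kernel) _ π.2 hcs
    · have hcs := cs_two hT hU
      rw [img_T, img_U, img_TU] at hcs
      exact of_searchAll (by decide +kernel) _ π.2 hcs
  rw [normCheck, smallL_of h2 hf hf'] at h
  have hm := mem_of_memL fImg_eq (by simpa using h)
  have hcT : ∀ g ∈ fList, g * T8 = T8 * g := fun g hg => by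
    have h : fList.map (fun g : A8 => imgs ((g * T8 : A8) : Perm (Fin 8))) =
        fList.map (fun g : A8 => imgs ((T8 * g : A8) : Perm (Fin 8))) := by decide +kernel
    exact Subtype.ext (imgs_injective (List.map_inj_left.1 h g hg))
  simp only [List.mem_append, List.mem_cons, List.not_mem_nil, or_false, List.mem_map] at hm
  rcases hm with (h | ⟨g, hg, rfl⟩) | ⟨g, hg, rfl⟩
  · exact Or.inl h
  · exact Or.inr ⟨g, hg, hcT g hg, Or.inl rfl⟩
  · exact Or.inr ⟨g, hg, hcT g hg, Or.inr rfl⟩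

/-- The eighth power of a list of images is the identity. -/
def twoL (l : List ℕ) : Bool :=
  let l2 := compL l l
  let l4 := compL l2 l2
  eqL (compL l4 l4) (List.range 8)

theorem imgs_one : imgs (1 : Perm (Fin 8)) = List.range 8 := by decide +kernel

theorem twoL_iff {π : A8} : twoL (imgs (π : Perm (Fin 8))) = true ↔ π ^ 8 = 1 := by
  have e : (π : Perm (Fin 8)) * π * ((π : Perm (Fin 8)) * π) *
      ((π : Perm (Fin 8)) * π * ((π : Perm (Fin 8)) * π)) = ((π ^ 8 : A8) : Perm (Fin 8)) := by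
    simp only [pow_succ, pow_zero, one_mul, mul_assoc, Subgroup.coe_mul]
  rw [twoL]
  simp only [compL_imgs, e]
  constructor
  · intro h
    exact Subtype.ext (imgs_injective ((eqL_eq h).trans imgs_one.symm))
  · intro h
    rw [h, show ((1 : A8) : Perm (Fin 8)) = 1 from rfl, imgs_one]
    exact eqL_refl _

/-- The stabilizer of `{T8}`, `⟨T8, U8⟩` and `S8` is a two-group. -/
theorem normV_two {π : A8} (hT : π * T8 = T8 * π) (hU : π * U8 = U8 * π ∨ π * U8 = T8 * U8 * π)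
    (hS : π * S8 = S8 * π) : π ^ 8 = 1 := by
  refine twoL_iff.1 ?_
  rcases hU with hU | hU
  · have hcs := cs_three hT hU hS
    rw [img_T, img_U, img_S] at hcs
    exact of_searchAll (by decide +kernel) _ π.2 hcs
  · have hcs := cs_three hT hU hS
    rw [img_T, img_U, img_TU, img_S] at hcs
    exact of_searchAll (by decide +kernel) _ π.2 hcs

/-- The stabilizer of `T8` and `W8` modulo `J8` in the centralizer of `J8`. -/
theorem stab_W {π : A8} (hJ : π * J8 = J8 * π) (hT : π * T8 = T8 * π ∨ π * T8 = S8 * π)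
    (hW : π * W8 = W8 * π ∨ π * W8 = W8 * J8 * π) : π ∈ qList := by
  refine mem_of_memL qImg_eq ?_
  rcases hT with hT | hT <;> rcases hW with hW | hW
  all_goals
    have hcs := cs_three hJ hT hW
    simp only [img_J, img_T, img_S, img_W, img_WJ] at hcs
    exact of_searchAll (Q := (memL · qImg)) (by decide +kernel) _ π.2 hcs

/-- The sixty-fourth power of a list of images is the identity. -/
def twoL64 (l : List ℕ) : Bool :=
  let l2 := compL l l
  let l4 := compL l2 l2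
  twoL (compL l4 l4)

theorem twoL64_iff {π : A8} : twoL64 (imgs (π : Perm (Fin 8))) = true ↔ π ^ 64 = 1 := by
  have e : (π : Perm (Fin 8)) * π * ((π : Perm (Fin 8)) * π) *
      ((π : Perm (Fin 8)) * π * ((π : Perm (Fin 8)) * π)) = ((π ^ 8 : A8) : Perm (Fin 8)) := by
    simp only [pow_succ, pow_zero, one_mul, mul_assoc, Subgroup.coe_mul]
  rw [twoL64]
  simp only [compL_imgs, e]
  rw [twoL_iff, ← pow_mul]

/-- The check in `stab_Y`. -/
def yCheck (l : List ℕ) : Bool :=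
  !(twoL64 l && twoL64 (compL l (compL [2, 3, 4, 5, 0, 1, 6, 7]
    (compL l [4, 5, 0, 1, 2, 3, 6, 7])))) || memL l qImg

/-- Two-elements of the stabilizer of `T8` modulo `J8` whose product with the conjugate by `Y8` is a
two-element. -/
theorem stab_Y {π : A8} (hJ : π * J8 = J8 * π) (hT : π * T8 = T8 * π ∨ π * T8 = S8 * π)
    (h8 : π ^ 64 = 1) (h8' : (π * (Y8 * π * Y8⁻¹)) ^ 64 = 1) : π ∈ qList := by
  have h : yCheck (imgs (π : Perm (Fin 8))) = true := by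
    rcases hT with hT | hT
    all_goals
      have hcs := cs_two hJ hT
      simp only [img_J, img_T, img_S] at hcs
      exact of_searchAll (by decide +kernel) _ π.2 hcs
  have hinv : imgs ((Y8⁻¹ : A8) : Perm (Fin 8)) = [4, 5, 0, 1, 2, 3, 6, 7] := by decide +kernel
  rw [yCheck, ← img_Y, ← hinv] at h
  simp only [compL_imgs] at h
  rw [twoL64_iff.2 h8, show (π : Perm (Fin 8)) * ((Y8 : Perm (Fin 8)) * ((π : Perm (Fin 8)) *
    ((Y8⁻¹ : A8) : Perm (Fin 8)))) = ((π * (Y8 * π * Y8⁻¹) : A8) : Perm (Fin 8)) by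
      simp only [Subgroup.coe_mul, mul_assoc], twoL64_iff.2 h8'] at h
  exact mem_of_memL qImg_eq (by simpa using h)

/-- The centralizer of `J8` and `Y8`. -/
theorem cent_JY {π : A8} (hJ : π * J8 = J8 * π) (hY : π * Y8 = Y8 * π) :
    π ∈ [1, Y8, Y8 * Y8, J8, J8 * Y8, J8 * (Y8 * Y8)] := by
  have hcs := cs_two hJ hY
  rw [img_J, img_Y] at hcs
  exact mem_of_memL yImg_eq (of_searchAll (Q := (memL · yImg)) (by decide +kernel) _ π.2 hcs)

theorem tt_imgs : (qImg.all fun q => !(fourL q && fourL (compL q [1, 0, 3, 2, 5, 4, 7, 6])) ||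
    memL q [[1, 0, 3, 2, 4, 5, 6, 7], [1, 0, 2, 3, 5, 4, 6, 7], [1, 0, 2, 3, 4, 5, 7, 6],
      [0, 1, 2, 3, 5, 4, 7, 6], [0, 1, 3, 2, 4, 5, 7, 6], [0, 1, 3, 2, 5, 4, 6, 7]]) = true := by
  decide +kernel

/-- The elements of the two-group which are of small support on both preimages. -/
theorem tt_classes {q : A8} (hq : q ∈ qList) (hf : fourL (imgs (q : Perm (Fin 8))) = true)
    (hf' : fourL (imgs ((q * J8 : A8) : Perm (Fin 8))) = true) :
    ∃ v ∈ [T8, W8, W8'], q = v ∨ q = v * J8 := by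
  have h := List.all_eq_true.1 tt_imgs _ (qImg_eq ▸ List.mem_map.2 ⟨q, hq, rfl⟩)
  rw [hf, ← img_J, compL_imgs, ← Subgroup.coe_mul, hf'] at h
  have hm := mem_of_memL (L := [T8, W8, W8', T8 * J8, W8 * J8, W8' * J8]) (π := q)
    (L' := [[1, 0, 3, 2, 4, 5, 6, 7], [1, 0, 2, 3, 5, 4, 6, 7], [1, 0, 2, 3, 4, 5, 7, 6],
      [0, 1, 2, 3, 5, 4, 7, 6], [0, 1, 3, 2, 4, 5, 7, 6], [0, 1, 3, 2, 5, 4, 6, 7]])
    (by decide +kernel) (by simpa using h)
  simp only [List.mem_cons, List.not_mem_nil, or_false] at hm ⊢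
  rcases hm with rfl | rfl | rfl | rfl | rfl | rfl
  exacts [⟨_, Or.inl rfl, Or.inl rfl⟩, ⟨_, Or.inr (Or.inl rfl), Or.inl rfl⟩,
    ⟨_, Or.inr (Or.inr rfl), Or.inl rfl⟩, ⟨_, Or.inl rfl, Or.inr rfl⟩,
    ⟨_, Or.inr (Or.inl rfl), Or.inr rfl⟩, ⟨_, Or.inr (Or.inr rfl), Or.inr rfl⟩]

end Cfsg.Agent.AltEightThree
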