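/-
Six elements permuted, up to inversion, like the three-cycles `(0 1 i)` by five automorphisms
satisfying braid relations.
-/
import Cfsg.Agent.EqLemmas
import Mathlib.GroupTheory.Perm.Basic
import Mathlib.Algebra.Group.End

set_option autoImplicit false

namespace Cfsg.Agent.AltEightThree

variable {G : Type*} [Group G]

/-- The braid and commutation relations, and the action on the first three elements. -/
structure Braid (A2 A3 A4 A5 A6 : MulAut G) (x2 x3 x4 : G) : Prop where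
  s2 : ∀ g, A2 (A2 g) = g
  s3 : ∀ g, A3 (A3 g) = g
  s4 : ∀ g, A4 (A4 g) = g
  s5 : ∀ g, A5 (A5 g) = g
  s6 : ∀ g, A6 (A6 g) = g
  b34 : ∀ g, A3 (A4 (A3 g)) = A4 (A3 (A4 g))
  b45 : ∀ g, A4 (A5 (A4 g)) = A5 (A4 (A5 g))
  b56 : ∀ g, A5 (A6 (A5 g)) = A6 (A5 (A6 g))
  c24 : ∀ g, A2 (A4 g) = A4 (A2 g)
  c25 : ∀ g, A2 (A5 g) = A5 (A2 g)
  c26 : ∀ g, A2 (A6 g) = A6 (A2 g)
  c35 : ∀ g, A3 (A5 g) = A5 (A3 g)
  c36 : ∀ g, A3 (A6 g) = A6 (A3 g)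
  c46 : ∀ g, A4 (A6 g) = A6 (A4 g)
  a22 : A2 x2 = x3⁻¹
  a24 : A2 x4 = x4⁻¹
  a32 : A3 x2 = x2⁻¹
  a33 : A3 x3 = x4⁻¹
  a42 : A4 x2 = x2⁻¹
  a52 : A5 x2 = x2⁻¹
  a53 : A5 x3 = x3⁻¹
  a54 : A5 x4 = x4⁻¹
  a62 : A6 x2 = x2⁻¹
  a63 : A6 x3 = x3⁻¹
  a64 : A6 x4 = x4⁻¹
  cube : x2 ^ 3 = 1
  pair : (x2 * x3) ^ 2 = 1

variable (A4 A5 A6 : MulAut G) (x2 x3 x4 : G)

/-- The six elements. -/
def braidX : Fin 6 → G :=
  ![x2, x3, x4, (A4 x4)⁻¹, A5 (A4 x4), (A6 (A5 (A4 x4)))⁻¹]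

variable {A2 A3 : MulAut G} {A4 A5 A6 x2 x3 x4} (h : Braid A2 A3 A4 A5 A6 x2 x3 x4)
include h

theorem Braid.acts_four : A4 x3 = x3⁻¹ := by
  have h3 : x3 = (A2 x2)⁻¹ := by rw [h.a22, inv_inv]
  rw [h3, map_inv, ← h.c24, h.a42, map_inv]

theorem Braid.x4_eq : x4 = (A3 x3)⁻¹ := by rw [h.a33, inv_inv]

theorem Braid.acts :
    (∀ i, A2 (braidX A4 A5 A6 x2 x3 x4 i) = (braidX A4 A5 A6 x2 x3 x4 (Equiv.swap 0 1 i))⁻¹) ∧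
    (∀ i, A3 (braidX A4 A5 A6 x2 x3 x4 i) = (braidX A4 A5 A6 x2 x3 x4 (Equiv.swap 1 2 i))⁻¹) ∧
    (∀ i, A4 (braidX A4 A5 A6 x2 x3 x4 i) = (braidX A4 A5 A6 x2 x3 x4 (Equiv.swap 2 3 i))⁻¹) ∧
    (∀ i, A5 (braidX A4 A5 A6 x2 x3 x4 i) = (braidX A4 A5 A6 x2 x3 x4 (Equiv.swap 3 4 i))⁻¹) ∧
    (∀ i, A6 (braidX A4 A5 A6 x2 x3 x4 i) = (braidX A4 A5 A6 x2 x3 x4 (Equiv.swap 4 5 i))⁻¹) := by
  have a23 : A2 x3 = x2⁻¹ := by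
    have := congrArg (fun g => (A2 g)⁻¹) h.a22
    simp only [map_inv, h.s2, inv_inv] at this
    exact this.symm
  have a34 : A3 x4 = x3⁻¹ := by rw [h.x4_eq, map_inv, h.s3]
  refine ⟨?_, ?_, ?_, ?_, ?_⟩ <;> intro i <;> fin_cases i
  · exact h.a22
  · exact a23
  · exact h.a24
  · show A2 (A4 x4)⁻¹ = ((A4 x4)⁻¹)⁻¹
    rw [map_inv, h.c24, h.a24, map_inv]
  · show A2 (A5 (A4 x4)) = (A5 (A4 x4))⁻¹
    rw [h.c25, h.c24, h.a24, map_inv, map_inv]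
  · show A2 (A6 (A5 (A4 x4)))⁻¹ = ((A6 (A5 (A4 x4)))⁻¹)⁻¹
    rw [map_inv, h.c26, h.c25, h.c24, h.a24, map_inv, map_inv, map_inv]
  · exact h.a32
  · exact h.a33
  · exact a34
  · show A3 (A4 x4)⁻¹ = ((A4 x4)⁻¹)⁻¹
    have e : A3 (A4 x4) = (A4 x4)⁻¹ := by
      rw [h.x4_eq, map_inv, map_inv, h.b34, h.acts_four, map_inv, map_inv]
    rw [map_inv, e]
  · show A3 (A5 (A4 x4)) = (A5 (A4 x4))⁻¹
    rw [h.c35, h.x4_eq, map_inv, map_inv, h.b34, h.acts_four]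
    simp only [map_inv]
  · show A3 (A6 (A5 (A4 x4)))⁻¹ = ((A6 (A5 (A4 x4)))⁻¹)⁻¹
    rw [map_inv, h.c36, h.c35, h.x4_eq, map_inv, map_inv, h.b34, h.acts_four]
    simp only [map_inv]
  · exact h.a42
  · exact h.acts_four
  · show A4 x4 = ((A4 x4)⁻¹)⁻¹
    rw [inv_inv]
  · show A4 (A4 x4)⁻¹ = x4⁻¹
    rw [map_inv, h.s4]
  · show A4 (A5 (A4 x4)) = (A5 (A4 x4))⁻¹
    rw [h.b45, h.a54, map_inv, map_inv]
  · show A4 (A6 (A5 (A4 x4)))⁻¹ = ((A6 (A5 (A4 x4)))⁻¹)⁻¹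
    rw [map_inv, h.c46, h.b45, h.a54, map_inv, map_inv, map_inv]
  · exact h.a52
  · exact h.a53
  · exact h.a54
  · show A5 (A4 x4)⁻¹ = (A5 (A4 x4))⁻¹
    rw [map_inv]
  · show A5 (A5 (A4 x4)) = ((A4 x4)⁻¹)⁻¹
    rw [h.s5, inv_inv]
  · show A5 (A6 (A5 (A4 x4)))⁻¹ = ((A6 (A5 (A4 x4)))⁻¹)⁻¹
    rw [map_inv, h.b56, ← h.c46, h.a64, map_inv, map_inv, map_inv]
  · exact h.a62
  · exact h.a63
  · exact h.a64
  · show A6 (A4 x4)⁻¹ = ((A4 x4)⁻¹)⁻¹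
    rw [map_inv, ← h.c46, h.a64, map_inv]
  · show A6 (A5 (A4 x4)) = ((A6 (A5 (A4 x4)))⁻¹)⁻¹
    rw [inv_inv]
  · show A6 (A6 (A5 (A4 x4)))⁻¹ = (A5 (A4 x4))⁻¹
    rw [map_inv, h.s6]

theorem Braid.rels : (∀ i, braidX A4 A5 A6 x2 x3 x4 i ^ 3 = 1) ∧
    ∀ i j, i ≠ j → (braidX A4 A5 A6 x2 x3 x4 i * braidX A4 A5 A6 x2 x3 x4 j) ^ 2 = 1 := by
  obtain ⟨r2, r3, r4, r5, r6⟩ := h.acts
  set X := braidX A4 A5 A6 x2 x3 x4 with hX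
  have tr : ∀ (A : MulAut G) (σ : Equiv.Perm (Fin 6)), (∀ i, A (X i) = (X (σ i))⁻¹) →
      (∀ i, X i ^ 3 = 1 → X (σ i) ^ 3 = 1) ∧
      (∀ i j, (X i * X j) ^ 2 = 1 → (X (σ i) * X (σ j)) ^ 2 = 1) := by
    intro A σ hA
    refine ⟨fun i hi => ?_, fun i j hij => ?_⟩
    · have := congrArg A hi
      rwa [map_pow, hA, map_one, inv_pow, inv_eq_one] at this
    · have h1 : ((X (σ j) * X (σ i)) ^ 2)⁻¹ = 1 := by
        have := congrArg A hij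
        rwa [map_pow, map_mul, hA, hA, map_one, ← mul_inv_rev, inv_pow] at this
      rw [inv_eq_one] at h1
      calc (X (σ i) * X (σ j)) ^ 2
          = X (σ i) * (X (σ j) * X (σ i)) ^ 2 * (X (σ i))⁻¹ := by rw [pow_two, pow_two]; group
        _ = 1 := by rw [h1, mul_one, mul_inv_cancel]
  have sym : ∀ i j, (X i * X j) ^ 2 = 1 → (X j * X i) ^ 2 = 1 := fun i j hij => by
    calc (X j * X i) ^ 2 = (X i)⁻¹ * (X i * X j) ^ 2 * X i := by rw [pow_two, pow_two]; group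
      _ = 1 := by rw [hij, mul_one, inv_mul_cancel]
  have q0 : X 0 ^ 3 = 1 := h.cube
  have q1 := (tr A2 _ r2).1 0 q0
  have q2 := (tr A3 _ r3).1 1 q1
  have q3 := (tr A4 _ r4).1 2 q2
  have q4 := (tr A5 _ r5).1 3 q3
  have q5 := (tr A6 _ r6).1 4 q4
  have p01 : (X 0 * X 1) ^ 2 = 1 := h.pair
  have p02 := (tr A3 _ r3).2 0 1 p01
  have p03 := (tr A4 _ r4).2 0 2 p02
  have p04 := (tr A5 _ r5).2 0 3 p03
  have p05 := (tr A6 _ r6).2 0 4 p04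
  have p12 := (tr A2 _ r2).2 0 2 p02
  have p13 := (tr A2 _ r2).2 0 3 p03
  have p14 := (tr A2 _ r2).2 0 4 p04
  have p15 := (tr A2 _ r2).2 0 5 p05
  have p23 := (tr A3 _ r3).2 1 3 p13
  have p24 := (tr A3 _ r3).2 1 4 p14
  have p25 := (tr A3 _ r3).2 1 5 p15
  have p34 := (tr A4 _ r4).2 2 4 p24
  have p35 := (tr A4 _ r4).2 2 5 p25
  have p45 := (tr A5 _ r5).2 3 5 p35
  refine ⟨fun i => ?_, fun i j hij => ?_⟩
  · fin_cases i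
    exacts [q0, q1, q2, q3, q4, q5]
  · fin_cases i <;> fin_cases j <;> first
      | exact absurd rfl hij
      | assumption
      | (apply sym; assumption)

end Cfsg.Agent.AltEightThree
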