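/-
The three-local data of the recognition of `A₈` and their first consequences.
-/
import Cfsg.Agent.Lib.AltEightThree.Perms
import Cfsg.Agent.Lib.Coprime.Generation

set_option autoImplicit false
set_option maxRecDepth 100000
set_option linter.unusedSectionVars false
set_option synthInstance.maxSize 4000
set_option synthInstance.maxHeartbeats 400000

namespace Cfsg.Agent.AltEightThree

theorem orderOf_conj_eq {H : Type*} [Group H] (g x : H) : orderOf (g * x * g⁻¹) = orderOf x :=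
  (MulAut.conj g).orderOf_eq x

/-- An embedding of `(S₃ × S₅)⁺` onto the normalizer of `⟨(5 6 7)⟩`, and an involution exchanging
`(5 6 7)` and `(0 1 2)`. -/
structure Cfg (G : Type*) [Group G] where
  ψ : Pairs →* G
  inj : Function.Injective ψ
  mem_range : ∀ g : G, g * ψ zP * g⁻¹ = ψ zP ∨ g * ψ zP * g⁻¹ = (ψ zP)⁻¹ → g ∈ ψ.range
  j : G
  j_sq : j * j = 1
  j_z : j * ψ zP * j = ψ wP
  j_a : j * ψ aP * j = ψ bP
  card_zw : Nat.card (Subgroup.centralizer ({ψ (zP * wP)} : Set G)) = 18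
  not27 : ¬ 27 ∣ Nat.card G

namespace Cfg

variable {G : Type*} [Group G] (c : Cfg G)

/-- The image of `(5 6 7)`. -/
abbrev z : G := c.ψ zP
/-- The image of `(0 1 2)`. -/
abbrev w : G := c.ψ wP
/-- The image of `(0 1)(2 3)`. -/
abbrev t : G := c.ψ tP
/-- The image of `(0 2)(1 3)`. -/
abbrev u : G := c.ψ uP

theorem commute_iff {x y : Pairs} : Commute (c.ψ x) (c.ψ y) ↔ x * y = y * x :=
  ⟨fun h => c.inj (by rw [map_mul, map_mul]; exact h.eq), fun h => Commute.map (show Commute x y from h) c.ψ⟩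

theorem j_inv : c.j⁻¹ = c.j := inv_eq_of_mul_eq_one_right c.j_sq

theorem j_cancel (g : G) : c.j * (c.j * g * c.j) * c.j = g := by
  calc c.j * (c.j * g * c.j) * c.j = (c.j * c.j) * g * (c.j * c.j) := by group
    _ = g := by rw [c.j_sq, one_mul, mul_one]

theorem j_mul (g h : G) : c.j * (g * h) * c.j = (c.j * g * c.j) * (c.j * h * c.j) := by
  calc c.j * (g * h) * c.j = c.j * g * 1 * h * c.j := by group
    _ = (c.j * g * c.j) * (c.j * h * c.j) := by rw [← c.j_sq]; group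

theorem j_w : c.j * c.w * c.j = c.z := by
  rw [show c.w = c.j * c.z * c.j from c.j_z.symm, c.j_cancel]

theorem j_b : c.j * c.ψ bP * c.j = c.ψ aP := by
  rw [← c.j_a, c.j_cancel]

theorem j_commute {g h : G} (hgh : Commute g h) : Commute (c.j * g * c.j) (c.j * h * c.j) := by
  show _ * _ = _ * _
  rw [← c.j_mul, ← c.j_mul, hgh.eq]

theorem j_isConj (g : G) : IsConj g (c.j * g * c.j) :=
  isConj_iff.2 ⟨c.j, by rw [c.j_inv]⟩

theorem mem_of_commute {g : G} (h : Commute g c.z) : g ∈ c.ψ.range :=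
  c.mem_range g (Or.inl (by rw [h.eq, mul_inv_cancel_right]))

theorem exists_of_commute_w {g : G} (h : Commute g c.w) : ∃ x, g = c.j * c.ψ x * c.j := by
  obtain ⟨x, hx⟩ := c.mem_of_commute (c.j_w ▸ c.j_commute h)
  exact ⟨x, by rw [hx, c.j_cancel]⟩

theorem cent_D {g : G} (hz : Commute g c.z) (hw : Commute g c.w) :
    ∃ i < 3, ∃ k < 3, g = c.z ^ i * c.w ^ k := by
  obtain ⟨x, rfl⟩ := c.mem_of_commute hz
  obtain ⟨i, hi, k, hk, rfl⟩ := cent_cw x (c.commute_iff.1 hz) (c.commute_iff.1 hw)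
  exact ⟨i, hi, k, hk, by rw [map_mul, map_pow, map_pow]⟩

theorem z_cube : c.z ^ 3 = 1 := by
  rw [← map_pow, show zP ^ 3 = 1 by decide +kernel, map_one]

theorem w_cube : c.w ^ 3 = 1 := by
  rw [← map_pow, show wP ^ 3 = 1 by decide +kernel, map_one]

theorem map_ne_one {x : Pairs} (hx : x ≠ 1) : c.ψ x ≠ 1 :=
  fun h => hx (c.inj (h.trans (map_one c.ψ).symm))

theorem orderOf_z : orderOf c.z = 3 :=
  orderOf_eq_prime c.z_cube (c.map_ne_one (by decide +kernel))

theorem orderOf_t : orderOf c.t = 2 := by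
  refine orderOf_eq_prime ?_ (c.map_ne_one (by decide +kernel))
  rw [← map_pow, show tP ^ 2 = 1 by decide +kernel, map_one]

theorem t_sq : c.t * c.t = 1 := by rw [← pow_two, ← c.orderOf_t, pow_orderOf_eq_one]

theorem tz : Commute c.t c.z := c.commute_iff.2 (by decide +kernel)

theorem zw : Commute c.z c.w := c.commute_iff.2 (by decide +kernel)

theorem four_isConj {x : Pairs} (hx : x ∈ fourA ++ fourB) (h1 : x ≠ 1) :
    IsConj c.t (c.ψ x) := by
  obtain ⟨g, rfl⟩ := AltEightThree.four_isConj x hx h1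
  exact isConj_iff.2 ⟨c.ψ g, by rw [map_mul, map_mul, map_inv]⟩

variable [Finite G]

omit [Finite G] in
theorem isConj_z_inv : IsConj c.z c.z⁻¹ :=
  isConj_iff.2 ⟨c.ψ eP, by
    rw [← map_inv, ← map_inv, ← map_mul, ← map_mul, show eP * zP * eP⁻¹ = zP⁻¹ by decide +kernel]⟩

omit [Finite G] in
theorem not_isConj_z_zw : ¬ IsConj c.z (c.ψ (zP * wP)) := by
  intro h
  obtain ⟨g, hg⟩ := isConj_iff.1 h
  have h5 : orderOf (g * c.ψ fP * g⁻¹) = 5 := by
    rw [orderOf_conj_eq, orderOf_injective _ c.inj]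
    exact orderOf_eq_prime (p := 5) (hp := ⟨by norm_num⟩) (by decide +kernel) (by decide +kernel)
  have hm : g * c.ψ fP * g⁻¹ ∈ Subgroup.centralizer ({c.ψ (zP * wP)} : Set G) := by
    rw [Subgroup.mem_centralizer_singleton_iff, ← hg]
    have h1 : c.ψ fP * c.z = c.z * c.ψ fP := (c.commute_iff.2 (by decide +kernel)).eq
    calc g * c.ψ fP * g⁻¹ * (g * c.z * g⁻¹) = g * (c.ψ fP * c.z) * g⁻¹ := by group
      _ = g * (c.z * c.ψ fP) * g⁻¹ := by rw [h1]
      _ = g * c.z * g⁻¹ * (g * c.ψ fP * g⁻¹) := by group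
  have := Subgroup.orderOf_dvd_natCard _ hm
  rw [h5, c.card_zw] at this
  norm_num at this

/-- A Sylow three-subgroup of the centralizer of `t` has order three. -/
theorem not_nine_dvd_cent_t : ¬ 9 ∣ Nat.card (Subgroup.centralizer ({c.t} : Set G)) := by
  intro h9
  have : Fact (Nat.Prime 3) := ⟨Nat.prime_three⟩
  set C := Subgroup.centralizer ({c.t} : Set G)
  let zc : C := ⟨c.z, Subgroup.mem_centralizer_singleton_iff.2 c.tz.symm.eq⟩
  have hz3 : orderOf zc = 3 := by rw [← orderOf_submonoid]; exact c.orderOf_z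
  have hp : IsPGroup 3 (Subgroup.zpowers zc) :=
    IsPGroup.of_card (n := 1) (by rw [Nat.card_zpowers, hz3, pow_one])
  obtain ⟨R, hR⟩ := hp.exists_le_sylow
  have h27 : ¬ 27 ∣ Nat.card C := fun h => c.not27 (h.trans (Subgroup.card_subgroup_dvd_card C))
  have hR9 : Nat.card R = 3 ^ 2 := by
    rw [R.card_eq_multiplicity]
    congr 1
    refine le_antisymm ?_ ?_
    · by_contra hlt
      exact h27 ((pow_dvd_pow 3 (not_le.1 hlt)).trans (Nat.ordProj_dvd _ 3))
    · exact (Nat.Prime.pow_dvd_iff_le_factorization Nat.prime_three Nat.card_pos.ne').1 h9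
  have hcomm : ∀ a ∈ (R : Subgroup C), a * zc = zc * a := fun a ha => by
    have := (IsPGroup.isMulCommutative_of_card_eq_prime_sq (G := (R : Subgroup C)) hR9).is_comm.comm
      ⟨a, ha⟩ ⟨zc, hR (Subgroup.mem_zpowers zc)⟩
    exact congrArg Subtype.val this
  have hsub : ∀ a ∈ (R : Subgroup C), a ∈ Subgroup.zpowers zc := by
    intro a ha
    have h1 : Commute (a : G) c.z := congrArg Subtype.val (hcomm a ha)
    obtain ⟨x, hx⟩ := c.mem_of_commute h1
    rw [← hx] at h1
    have h2 : Commute (c.ψ x) c.t := hx ▸ Subgroup.mem_centralizer_singleton_iff.1 a.2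
    obtain ⟨i, -, v, hv, rfl⟩ := AltEightThree.cent_ct x (c.commute_iff.1 h1) (c.commute_iff.1 h2)
    have hvz := four_sq v (List.mem_append_left _ hv)
    have hzv : (zP ^ i * v) ^ 9 = v := by
      rw [(Commute.pow_left (show Commute zP v from hvz.2.symm) i).mul_pow, ← pow_mul,
        show i * 9 = 3 * (i * 3) by ring, pow_mul, show zP ^ 3 = 1 by decide +kernel, one_pow,
        one_mul, show v ^ 9 = (v * v) ^ 4 * v by rw [← pow_two, ← pow_mul, ← pow_succ],
        hvz.1, one_pow, one_mul]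
    have ha9 : a ^ 9 = 1 := by
      have := pow_card_eq_one' (x := (⟨a, ha⟩ : (R : Subgroup C)))
      rw [hR9] at this
      exact congrArg Subtype.val this
    have hv1 : v = 1 := by
      rw [← hzv]
      refine c.inj ?_
      rw [map_pow, hx, map_one]
      exact congrArg Subtype.val ha9
    refine ⟨(i : ℤ), Subtype.ext ?_⟩
    rw [hv1, mul_one, map_pow] at hx
    simp only [zpow_natCast, SubmonoidClass.coe_pow]
    exact hx
  have h3 : Nat.card R ≤ 3 := by
    have := Subgroup.card_le_of_le (show (R : Subgroup C) ≤ Subgroup.zpowers zc from hsub)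
    rwa [Nat.card_zpowers, hz3] at this
  omega

/-- The elements of order three commuting with `t` are conjugate to `z`. -/
theorem three_cent_t {x : G} (hx : Commute x c.t) (h3 : orderOf x = 3) : IsConj c.z x := by
  have : Fact (Nat.Prime 3) := ⟨Nat.prime_three⟩
  set C := Subgroup.centralizer ({c.t} : Set G)
  let zc : C := ⟨c.z, Subgroup.mem_centralizer_singleton_iff.2 c.tz.symm.eq⟩
  let xc : C := ⟨x, Subgroup.mem_centralizer_singleton_iff.2 hx.eq⟩
  have hcard : ∀ a : C, orderOf a = 3 → ∃ R : Sylow 3 C, (R : Subgroup C) = Subgroup.zpowers a := by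
    intro a ha
    obtain ⟨R, hR⟩ := (IsPGroup.of_card (n := 1) (show Nat.card (Subgroup.zpowers a) = 3 ^ 1 by
      rw [Nat.card_zpowers, ha, pow_one])).exists_le_sylow
    refine ⟨R, (Subgroup.eq_of_le_of_card_ge hR ?_).symm⟩
    rw [Nat.card_zpowers, ha, R.card_eq_multiplicity]
    refine le_trans (pow_le_pow_right₀ (by norm_num) (?_ : _ ≤ 1)) (le_of_eq (pow_one 3))
    by_contra hlt
    exact c.not_nine_dvd_cent_t ((pow_dvd_pow 3 (not_le.1 hlt)).trans (Nat.ordProj_dvd _ 3))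
  obtain ⟨R, hR⟩ := hcard zc (by rw [← orderOf_submonoid]; exact c.orderOf_z)
  obtain ⟨S, hS⟩ := hcard xc (by rw [← orderOf_submonoid]; exact h3)
  obtain ⟨g, hg⟩ := MulAction.exists_smul_eq C R S
  have hm : g * zc * g⁻¹ ∈ (S : Subgroup C) := by
    rw [← hg, Sylow.coe_subgroup_smul]
    exact ⟨zc, hR ▸ Subgroup.mem_zpowers zc, rfl⟩
  rw [hS] at hm
  obtain ⟨k, hk⟩ := hm
  have hk' : x ^ k = (g : G) * c.z * (g : G)⁻¹ := congrArg Subtype.val hk
  have hx3 : x ^ (3 : ℤ) = 1 := by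
    rw [show (3 : ℤ) = ((3 : ℕ) : ℤ) from rfl, zpow_natCast, ← h3, pow_orderOf_eq_one]
  rw [← Int.emod_add_mul_ediv k 3, zpow_add, zpow_mul, hx3, one_zpow, mul_one] at hk'
  have h0 := Int.emod_nonneg k (show (3 : ℤ) ≠ 0 by norm_num)
  have h1 := Int.emod_lt_of_pos k (show (0 : ℤ) < 3 by norm_num)
  interval_cases hh : k % 3
  · rw [zpow_zero, eq_mul_inv_iff_mul_eq, one_mul, eq_comm, mul_eq_left] at hk'
    exact absurd (orderOf_eq_one_iff.2 hk') (by rw [c.orderOf_z]; norm_num)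
  · rw [zpow_one] at hk'
    exact isConj_iff.2 ⟨g, hk'.symm⟩
  · refine c.isConj_z_inv.trans (isConj_iff.2 ⟨g, ?_⟩)
    rw [← conj_inv, ← hk', zpow_two, inv_eq_iff_mul_eq_one, ← pow_two, ← pow_succ,
      show 2 + 1 = 3 from rfl, ← h3, pow_orderOf_eq_one]

theorem not_isConj_t_j : ¬ IsConj c.t c.j := by
  intro h
  obtain ⟨g, hg⟩ := isConj_iff.1 h
  have hjzw : Commute (c.ψ (zP * wP)) c.j := by
    show _ * _ = _ * _
    have h1 : c.j * c.ψ (zP * wP) * c.j = c.ψ (zP * wP) := by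
      rw [map_mul, c.j_mul, c.j_z, c.j_w, c.zw.symm.eq]
    calc c.ψ (zP * wP) * c.j = c.j * c.ψ (zP * wP) * c.j * c.j := by rw [h1]
      _ = c.j * c.ψ (zP * wP) := by rw [mul_assoc, c.j_sq, mul_one]
  have hc : Commute (g⁻¹ * c.ψ (zP * wP) * g) c.t := by
    have h2 : c.t = g⁻¹ * c.j * g := by rw [← hg]; group
    show _ * _ = _ * _
    rw [h2]
    calc g⁻¹ * c.ψ (zP * wP) * g * (g⁻¹ * c.j * g) = g⁻¹ * (c.ψ (zP * wP) * c.j) * g := by group
      _ = g⁻¹ * (c.j * c.ψ (zP * wP)) * g := by rw [hjzw.eq]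
      _ = g⁻¹ * c.j * g * (g⁻¹ * c.ψ (zP * wP) * g) := by group
  have h3 : orderOf (g⁻¹ * c.ψ (zP * wP) * g) = 3 := by
    have := orderOf_conj_eq g⁻¹ (c.ψ (zP * wP))
    rw [inv_inv] at this
    rw [this, orderOf_injective _ c.inj]
    exact orderOf_eq_prime (by decide +kernel) (by decide +kernel)
  exact c.not_isConj_z_zw ((c.three_cent_t hc h3).trans (isConj_iff.2 ⟨g, by group⟩))

section Invariant

variable {K : Subgroup G} (hz : ∀ k ∈ K, c.z * k * c.z⁻¹ ∈ K) (hw : ∀ k ∈ K, c.w * k * c.w⁻¹ ∈ K)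
  (h3 : ¬ 3 ∣ Nat.card K)
include hz hw h3

theorem inv_cent_eq_one {d k : G} (hd : Nat.card (Subgroup.centralizer ({d} : Set G)) = 18)
    (hdz : Commute c.z d) (hdw : Commute c.w d) (hk : k ∈ K) (hkd : Commute k d) : k = 1 := by
  by_contra hk1
  set M := K ⊓ Subgroup.centralizer ({d} : Set G) with hM
  have hkM : k ∈ M := ⟨hk, Subgroup.mem_centralizer_singleton_iff.2 hkd.eq⟩
  have h18 : Nat.card M ∣ 18 := hd ▸ Subgroup.card_dvd_of_le inf_le_right
  have hK3 : ¬ 3 ∣ Nat.card M := fun h => h3 (h.trans (Subgroup.card_dvd_of_le inf_le_left))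
  have h2 : Nat.card M ∣ 2 := by
    have hc : (Nat.card M).Coprime (3 ^ 2) :=
      Nat.Coprime.pow_right 2 ((Nat.prime_three.coprime_iff_not_dvd.2 hK3).symm)
    exact hc.dvd_of_dvd_mul_right (by simpa using h18)
  have hle : Nat.card M ≤ 2 := Nat.le_of_dvd (by norm_num) h2
  have hor : orderOf k ∣ 2 := (Subgroup.orderOf_dvd_natCard M hkM).trans h2
  have hfix : ∀ e : G, Commute e d → (∀ x ∈ K, e * x * e⁻¹ ∈ K) → Commute e k := by
    intro e he heK
    have hm : e * k * e⁻¹ ∈ M := ⟨heK k hk, Subgroup.mem_centralizer_singleton_iff.2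
      ((he.mul_left hkd).mul_left he.inv_left).eq⟩
    by_contra hne
    have hne1 : (⟨e * k * e⁻¹, hm⟩ : M) ≠ ⟨k, hkM⟩ := fun h => hne
      (mul_inv_eq_iff_eq_mul.1 (congrArg Subtype.val h))
    have hne2 : (⟨e * k * e⁻¹, hm⟩ : M) ≠ 1 := fun h => hk1 (conj_eq_one_iff.1 (congrArg Subtype.val h))
    have hne3 : (⟨k, hkM⟩ : M) ≠ 1 := fun h => hk1 (congrArg Subtype.val h)
    classical
    have := Fintype.ofFinite M
    have : ({1, ⟨k, hkM⟩, ⟨e * k * e⁻¹, hm⟩} : Finset M).card ≤ Fintype.card M := Finset.card_le_univ _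
    rw [Finset.card_insert_of_notMem (by simp [hne3.symm, hne2.symm]),
      Finset.card_insert_of_notMem (by simp [hne1.symm]), Finset.card_singleton,
      ← Nat.card_eq_fintype_card] at this
    omega
  obtain ⟨i, -, l, -, rfl⟩ := c.cent_D (hfix c.z hdz hz).symm (hfix c.w hdw hw).symm
  have h9 : (c.z ^ i * c.w ^ l) ^ 3 = 1 := by
    rw [(c.zw.pow_pow i l).mul_pow, ← pow_mul, ← pow_mul, mul_comm i, mul_comm l, pow_mul,
      pow_mul, c.z_cube, c.w_cube, one_pow, one_pow, one_mul]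
  have := Nat.dvd_gcd hor (orderOf_dvd_of_pow_eq_one h9)
  exact hk1 (orderOf_eq_one_iff.1 (Nat.dvd_one.1 this))

theorem inv_cent_z_mem {x : Pairs} (hx : c.ψ x ∈ K) (hxz : x * zP = zP * x) :
    x ∈ fourA ∨ x ∈ fourB := by
  rcases three_word x hxz with h | h | ⟨q, hq, hq3, hq1⟩
  · exact Or.inl h
  · exact Or.inr h
  exfalso
  let L := K.comap c.ψ
  have h1 : ∀ y : Pairs, y ∈ L → wP * y * wP⁻¹ ∈ L := fun y hy => by
    show c.ψ _ ∈ K
    rw [map_mul, map_mul, map_inv]
    exact hw _ hy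
  have hm : q ∈ L := by
    have a1 := h1 x hx
    have a2 := h1 _ a1
    have a3 := h1 _ (L.pow_mem (n := 3) hx)
    simp only [threeWords, List.mem_cons, List.not_mem_nil, or_false] at hq
    rcases hq with rfl | rfl | rfl | rfl | rfl | rfl | rfl | rfl
    exacts [hx, L.pow_mem hx _, L.pow_mem hx _, L.mul_mem hx a1, L.mul_mem hx a2,
      L.mul_mem (L.mul_mem hx a1) (L.mul_mem hx a2), L.mul_mem hx (L.mul_mem hx a1),
      L.mul_mem (L.pow_mem hx _) a3]
  have hor : orderOf (c.ψ q) = 3 := orderOf_eq_prime (by rw [← map_pow, hq3, map_one]) (c.map_ne_one hq1)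
  exact h3 (hor ▸ Subgroup.orderOf_dvd_natCard K hm)

/-- The fixed points of `z` on an invariant subgroup of order prime to three. -/
theorem inv_cent_z : (∀ k ∈ K, Commute k c.z → k = 1) ∨
    ((∀ k ∈ K, Commute k c.z → ∃ v ∈ fourA, k = c.ψ v) ∧ ∀ v ∈ fourA, c.ψ v ∈ K) ∨
    ((∀ k ∈ K, Commute k c.z → ∃ v ∈ fourB, k = c.ψ v) ∧ ∀ v ∈ fourB, c.ψ v ∈ K) := by
  by_cases h : ∀ k ∈ K, Commute k c.z → k = 1
  · exact Or.inl h
  push Not at h
  obtain ⟨k, hk, hkz, hk1⟩ := h
  obtain ⟨x, rfl⟩ := c.mem_of_commute hkz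
  have hx1 : x ≠ 1 := fun e => hk1 (by rw [e, map_one])
  have hxz := c.commute_iff.1 hkz
  have hall : ∀ k ∈ K, Commute k c.z → ∃ y, (y ∈ fourA ∨ y ∈ fourB) ∧ k = c.ψ y := fun k hk hkz => by
    obtain ⟨y, rfl⟩ := c.mem_of_commute hkz
    exact ⟨y, c.inv_cent_z_mem hz hw h3 hk (c.commute_iff.1 hkz), rfl⟩
  have horb : ∀ v : Pairs, (v = 1 ∨ v = x ∨ v = wP * x * wP⁻¹ ∨
      v = wP * (wP * x * wP⁻¹) * wP⁻¹) → c.ψ v ∈ K := by
    rintro v (rfl | rfl | rfl | rfl)
    · rw [map_one]; exact K.one_mem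
    · exact hk
    · rw [map_mul, map_mul, map_inv]; exact hw _ hk
    · simp only [map_mul, map_inv]; exact hw _ (hw _ hk)
  have hprod : ∀ a ∈ fourA, ∀ b ∈ fourB, c.ψ a ∈ K → c.ψ b ∈ K → a = 1 ∨ b = 1 := by
    intro a ha b hb haK hbK
    by_contra hne
    push Not at hne
    have hc : a * b * zP = zP * (a * b) :=
      (Commute.mul_left (show Commute a zP from (four_sq a (List.mem_append_left _ ha)).2)
        (show Commute b zP from (four_sq b (List.mem_append_right _ hb)).2)).eq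
    rcases c.inv_cent_z_mem hz hw h3 (x := a * b) (by rw [map_mul]; exact K.mul_mem haK hbK) hc with h' | h'
    · exact (fourA_fourB a ha b hb hne.1 hne.2).1 h'
    · exact (fourA_fourB a ha b hb hne.1 hne.2).2 h'
  rcases c.inv_cent_z_mem hz hw h3 hk hxz with hA | hB
  · refine Or.inr (Or.inl ⟨fun k' hk' hk'z => ?_, fun v hv => horb v (fourA_orbit x hA hx1 v hv)⟩)
    obtain ⟨y, hy | hy, rfl⟩ := hall k' hk' hk'z
    · exact ⟨y, hy, rfl⟩
    · rcases hprod x hA y hy hk hk' with e | e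
      · exact absurd e hx1
      · exact ⟨1, List.mem_cons_self, by rw [e]⟩
  · refine Or.inr (Or.inr ⟨fun k' hk' hk'z => ?_, fun v hv => horb v (fourB_orbit x hB hx1 v hv)⟩)
    obtain ⟨y, hy | hy, rfl⟩ := hall k' hk' hk'z
    · rcases hprod y hy x hB hk' hk with e | e
      · exact ⟨1, List.mem_cons_self, by rw [e]⟩
      · exact absurd e hx1
    · exact ⟨y, hy, rfl⟩

/-- An invariant subgroup of order prime to three is generated by the fixed points of `z` and `w`. -/
theorem inv_le {W : Subgroup G} (hWz : ∀ k ∈ K, Commute k c.z → k ∈ W)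
    (hWw : ∀ k ∈ K, Commute k c.w → k ∈ W) : K ≤ W := by
  set A := Subgroup.closure ({c.z, c.w} : Set G) with hA
  have hpair : ∀ a ∈ A, ∃ i k : ℕ, a = c.z ^ i * c.w ^ k := by
    intro a ha
    rw [hA] at ha
    induction ha using Subgroup.closure_induction with
    | mem x hx =>
      rcases hx with rfl | rfl
      · exact ⟨1, 0, by simp⟩
      · exact ⟨0, 1, by simp⟩
    | one => exact ⟨0, 0, by simp⟩
    | mul x y _ _ hx hy =>
      obtain ⟨i, k, rfl⟩ := hx
      obtain ⟨i', k', rfl⟩ := hy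
      refine ⟨i + i', k + k', ?_⟩
      rw [pow_add, pow_add, mul_assoc, ← mul_assoc (c.w ^ k), (c.zw.symm.pow_pow k i').eq]
      group
    | inv x _ hx =>
      obtain ⟨i, k, rfl⟩ := hx
      refine ⟨2 * i, 2 * k, ?_⟩
      rw [inv_eq_iff_mul_eq_one, mul_assoc, ← mul_assoc (c.w ^ k), (c.zw.symm.pow_pow k (2 * i)).eq,
        mul_assoc (c.z ^ (2 * i)), ← mul_assoc, ← pow_add, ← pow_add,
        show i + 2 * i = 3 * i by ring, show k + 2 * k = 3 * k by ring, pow_mul, pow_mul,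
        c.z_cube, c.w_cube, one_pow, one_pow, one_mul]
  have : IsMulCommutative A := ⟨⟨fun a b => Subtype.ext (by
    obtain ⟨i, k, hik⟩ := hpair a a.2
    obtain ⟨i', k', hik'⟩ := hpair b b.2
    show (a : G) * b = b * a
    rw [hik, hik']
    exact ((((Commute.refl c.z).pow_pow i i').mul_right (c.zw.pow_pow i k')).mul_left
      ((c.zw.symm.pow_pow k i').mul_right ((Commute.refl c.w).pow_pow k k'))).eq)⟩⟩
  have hnot : ¬ IsCyclic A := by
    intro hcyc
    obtain ⟨g, hg⟩ := hcyc.exists_generator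
    obtain ⟨i, k, hik⟩ := hpair g g.2
    obtain ⟨m, hm⟩ := hg ⟨c.z, Subgroup.subset_closure (by simp)⟩
    obtain ⟨n, hn⟩ := hg ⟨c.w, Subgroup.subset_closure (by simp)⟩
    have e1 : (g : G) ^ m = c.z := congrArg Subtype.val hm
    have e2 : (g : G) ^ n = c.w := congrArg Subtype.val hn
    have hc : Subgroup.zpowers c.z = Subgroup.zpowers c.w := by
      have hg3 : orderOf (g : G) ∣ 3 := orderOf_dvd_of_pow_eq_one (by
        rw [hik, (c.zw.pow_pow i k).mul_pow, ← pow_mul, ← pow_mul, mul_comm i, mul_comm k,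
          pow_mul, pow_mul, c.z_cube, c.w_cube, one_pow, one_pow, one_mul])
      have hle : Nat.card (Subgroup.zpowers (g : G)) ≤ 3 := by
        rw [Nat.card_zpowers]; exact Nat.le_of_dvd (by norm_num) hg3
      have hzg : Subgroup.zpowers c.z = Subgroup.zpowers (g : G) :=
        Subgroup.eq_of_le_of_card_ge (Subgroup.zpowers_le.2 ⟨m, e1⟩)
          (by rw [Nat.card_zpowers c.z, c.orderOf_z]; exact hle)
      have hwg : Subgroup.zpowers c.w = Subgroup.zpowers (g : G) :=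
        Subgroup.eq_of_le_of_card_ge (Subgroup.zpowers_le.2 ⟨n, e2⟩)
          (by rw [Nat.card_zpowers c.w, orderOf_eq_prime c.w_cube (c.map_ne_one (by decide +kernel))]; exact hle)
      rw [hzg, hwg]
    obtain ⟨r, hr⟩ := (mem_powers_iff_mem_zpowers (x := c.z)).2 (hc ▸ Subgroup.mem_zpowers c.w)
    have hr' : zP ^ (r % 3) = wP := c.inj (by
      rw [map_pow]
      calc c.z ^ (r % 3) = c.z ^ r := by
            conv_rhs => rw [← pow_mod_orderOf, c.orderOf_z]
        _ = c.w := hr)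
    have : ∀ r < 3, zP ^ r ≠ wP := by decide +kernel
    exact this _ (Nat.mod_lt _ (by norm_num)) hr'
  refine Coprime.le_of_noncyclic hnot (fun a ha => ?_) ?_ fun a ha ha1 k hk => ?_
  · rw [hA] at ha
    refine (Subgroup.closure_le _).2 ?_ ha
    have hmem : ∀ e : G, (∀ x ∈ K, e * x * e⁻¹ ∈ K) → e ∈ Subgroup.normalizer (K : Set G) :=
      fun e he => Subgroup.mem_normalizer_fintype he
    rintro x (rfl | rfl)
    exacts [hmem _ hz, hmem _ hw]
  · have hdvd : Nat.card A ∣ 9 ^ 5 := by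
      have : Fact (Nat.Prime 3) := ⟨Nat.prime_three⟩
      have hpg : IsPGroup 3 A := fun a => ⟨1, Subtype.ext (by
        obtain ⟨i, k, hik⟩ := hpair a a.2
        show (a : G) ^ (3 ^ 1) = 1
        rw [hik, pow_one, (c.zw.pow_pow i k).mul_pow, ← pow_mul, ← pow_mul, mul_comm i, mul_comm k,
          pow_mul, pow_mul, c.z_cube, c.w_cube, one_pow, one_pow, one_mul])⟩
      obtain ⟨n, hn⟩ := IsPGroup.iff_card.1 hpg
      have : n < 3 := by
        by_contra hn3
        exact c.not27 (((hn ▸ pow_dvd_pow 3 (not_lt.1 hn3) : (27 : ℕ) ∣ Nat.card A)).trans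
          (Subgroup.card_subgroup_dvd_card A))
      rw [hn, show (9 : ℕ) ^ 5 = 3 ^ 10 by norm_num]
      exact pow_dvd_pow 3 (by omega)
    refine Nat.Coprime.of_dvd_left hdvd (Nat.Coprime.pow_left 5 ?_)
    exact (Nat.Coprime.pow_left 2 (Nat.prime_three.coprime_iff_not_dvd.2 h3) : (3 ^ 2).Coprime _)
  · obtain ⟨i, l, rfl⟩ := hpair a ha
    have hk' : Commute k (c.z ^ i * c.w ^ l) := Subgroup.mem_centralizer_singleton_iff.1 hk.2
    have red : ∀ (g : G) (n : ℕ), g ^ 3 = 1 → g ^ n = g ^ (n % 3) := fun g n hg => by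
      conv_lhs => rw [← Nat.mod_add_div n 3, pow_add, pow_mul, hg, one_pow, mul_one]
    rw [red _ i c.z_cube, red _ l c.w_cube] at hk' ha1
    have h18 : ∀ d : G, IsConj (c.ψ (zP * wP)) d →
        Nat.card (Subgroup.centralizer ({d} : Set G)) = 18 := by
      intro d hd
      obtain ⟨g, rfl⟩ := isConj_iff.1 hd
      rw [← c.card_zw]
      refine (Nat.card_congr (Equiv.subtypeEquiv (MulAut.conj g).toEquiv fun y => ?_)).symm
      simp only [Subgroup.mem_centralizer_singleton_iff, MulEquiv.toEquiv_eq_coe,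
        EquivLike.coe_coe, MulAut.conj_apply]
      constructor
      · intro hy
        calc g * y * g⁻¹ * (g * c.ψ (zP * wP) * g⁻¹) = g * (y * c.ψ (zP * wP)) * g⁻¹ := by group
          _ = g * (c.ψ (zP * wP) * y) * g⁻¹ := by rw [hy]
          _ = _ := by group
      · intro hy
        calc y * c.ψ (zP * wP) = g⁻¹ * (g * y * g⁻¹ * (g * c.ψ (zP * wP) * g⁻¹)) * g := by group
          _ = g⁻¹ * (g * c.ψ (zP * wP) * g⁻¹ * (g * y * g⁻¹)) * g := by rw [hy]
          _ = _ := by group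
    have hi := Nat.mod_lt i (show 3 > 0 by norm_num)
    have hl := Nat.mod_lt l (show 3 > 0 by norm_num)
    set i' := i % 3
    set l' := l % 3
    by_cases hl0 : l' = 0
    · rw [hl0, pow_zero, mul_one] at hk' ha1
      have hi0 : i' ≠ 0 := fun e => ha1 (by rw [e, pow_zero])
      refine hWz k hk.1 ?_
      have := hk'.pow_right i'
      rwa [← pow_mul, red _ (i' * i') c.z_cube, show i' * i' % 3 = 1 by
        interval_cases i' <;> simp_all, pow_one] at this
    by_cases hi0 : i' = 0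
    · rw [hi0, pow_zero, one_mul] at hk'
      refine hWw k hk.1 ?_
      have := hk'.pow_right l'
      rwa [← pow_mul, red _ (l' * l') c.w_cube, show l' * l' % 3 = 1 by
        interval_cases l' <;> simp_all, pow_one] at this
    have hd : IsConj (c.ψ (zP * wP)) (c.z ^ i' * c.w ^ l') := by
      have h' : ∀ i < 3, ∀ l < 3, i ≠ 0 → l ≠ 0 →
          ∃ g ∈ [1, eP, hP, eP * hP], g * (zP * wP) * g⁻¹ = zP ^ i * wP ^ l := by decide +kernel
      obtain ⟨g, -, hg⟩ := h' i' hi l' hl hi0 hl0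
      exact isConj_iff.2 ⟨c.ψ g, by rw [← map_inv, ← map_mul, ← map_mul, hg, map_mul, map_pow, map_pow]⟩
    rw [c.inv_cent_eq_one hz hw h3 (h18 _ hd)
      (((Commute.refl c.z).pow_right i').mul_right (c.zw.pow_right l'))
      ((c.zw.symm.pow_right i').mul_right ((Commute.refl c.w).pow_right l')) hk.1 hk']
    exact W.one_mem

end Invariant

/-- The configuration with the roles of `z` and `w` exchanged by `j`, for the centralizer of `w`. -/
theorem inv_cent_w {K : Subgroup G} (hz : ∀ k ∈ K, c.z * k * c.z⁻¹ ∈ K)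
    (hw : ∀ k ∈ K, c.w * k * c.w⁻¹ ∈ K) (h3 : ¬ 3 ∣ Nat.card K) :
    (∀ k ∈ K, Commute k c.w → k = 1) ∨
    (∀ v ∈ fourA, c.j * c.ψ v * c.j ∈ K) ∨ (∀ v ∈ fourB, c.j * c.ψ v * c.j ∈ K) := by
  set L := K.comap (MulAut.conj c.j).toMonoidHom with hL
  have hmem : ∀ k, k ∈ L ↔ c.j * k * c.j ∈ K := fun k => by
    rw [hL, Subgroup.mem_comap, MulEquiv.coe_toMonoidHom, MulAut.conj_apply, c.j_inv]
  have hconj : ∀ e e' : G, c.j * e * c.j = e' → (∀ k ∈ K, e' * k * e'⁻¹ ∈ K) →
      ∀ k ∈ L, e * k * e⁻¹ ∈ L := fun e e' he hK k hk => by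
    rw [hmem] at hk ⊢
    have he' : c.j * e⁻¹ * c.j = e'⁻¹ := by
      rw [← he]; simp only [mul_inv_rev, c.j_inv, mul_assoc]
    rw [c.j_mul, c.j_mul, he, he']
    exact hK _ hk
  have h3' : ¬ 3 ∣ Nat.card L := by
    rw [show Nat.card L = Nat.card K from
      Nat.card_congr ((MulAut.conj c.j).toEquiv.subtypeEquiv fun _ => Iff.rfl)]
    exact h3
  rcases c.inv_cent_z (hconj _ _ c.j_z hw) (hconj _ _ c.j_w hz) h3' with h | ⟨-, h⟩ | ⟨-, h⟩
  · refine Or.inl fun k hk hkw => ?_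
    have h1 := h (c.j * k * c.j) ((hmem _).2 (by rw [c.j_cancel]; exact hk))
      (c.j_w ▸ c.j_commute hkw)
    rw [← c.j_cancel k, h1, mul_one, c.j_sq]
  · exact Or.inr (Or.inl fun v hv => (hmem _).1 (h v hv))
  · exact Or.inr (Or.inr fun v hv => (hmem _).1 (h v hv))

end Cfg

end Cfsg.Agent.AltEightThree
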