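/-
An element `z` of order three with centralizer `⟨z⟩ × ⟨u⟩` of order six, inverted by an involution
`e` commuting with `u`.

`exists_normal`: there is a normal subgroup of order prime to three, containing neither `e` nor
`e u`, which contains every involution conjugate to neither of them.
-/
import Cfsg.Agent.EqLemmas
import Cfsg.Agent.Lib.Char.Virtual
import Cfsg.Agent.Lib.Char.ClassMult
import Cfsg.Agent.Lib.Char.Eigen
import Cfsg.Agent.Lib.Char.Linear

set_option autoImplicit false

namespace Cfsg.Agent.AltEightThree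

open Cfsg Cfsg.Agent.Char
open scoped ComplexConjugate

variable {H : Type*} [Group H] [Finite H]

/-- An element of order three with centralizer of order six and an inverting involution. -/
structure ThreeU (z u e : H) : Prop where
  z3 : orderOf z = 3
  u2 : orderOf u = 2
  e2 : orderOf e = 2
  zu : Commute z u
  eu : Commute e u
  inv : e * z * e⁻¹ = z⁻¹
  cent : ∀ g, Commute g z → g ∈ Subgroup.zpowers (z * u)

namespace ThreeU

variable {z u e : H} (h : ThreeU z u e)
include h

theorem u_sq : u * u = 1 := by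
  rw [← pow_two, ← h.u2, pow_orderOf_eq_one]

theorem e_inv : e⁻¹ = e := inv_eq_of_mul_eq_one_right (by rw [← pow_two, ← h.e2, pow_orderOf_eq_one])

theorem order_six : orderOf (z * u) = 6 := by
  rw [h.zu.orderOf_mul_eq_mul_orderOf_of_coprime (by rw [h.z3, h.u2]; decide), h.z3, h.u2]

theorem e_inverts : e * (z * u) * e⁻¹ = (z * u)⁻¹ := by
  rw [mul_inv_rev, inv_eq_of_mul_eq_one_right h.u_sq,
    show e * (z * u) * e⁻¹ = e * z * e⁻¹ * (e * u * e⁻¹) by group, h.inv, h.eu.eq,
    mul_inv_cancel_right, (Commute.inv_left h.zu).eq]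

theorem e_inverts' (k : ℕ) : e * (z * u) ^ k * e⁻¹ = ((z * u) ^ k)⁻¹ := by
  have e1 : (MulAut.conj e) ((z * u) ^ k) = ((z * u)⁻¹) ^ k := by
    rw [map_pow, MulAut.conj_apply, h.e_inverts]
  rw [MulAut.conj_apply] at e1
  rw [e1, inv_pow]

theorem z_eq : (z * u) ^ 4 = z := by
  rw [h.zu.mul_pow]
  have hz : z ^ 3 = 1 := by rw [← h.z3, pow_orderOf_eq_one]
  rw [show z ^ 4 = z ^ 3 * z by rw [← pow_succ], hz, one_mul,
    show u ^ 4 = (u * u) ^ 2 by rw [← pow_two, ← pow_mul], h.u_sq, one_pow, mul_one]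

theorem u_eq : (z * u) ^ 3 = u := by
  rw [h.zu.mul_pow, show z ^ 3 = 1 by rw [← h.z3, pow_orderOf_eq_one], one_mul,
    pow_succ, pow_two, h.u_sq, one_mul]

theorem z_cube : z ^ 3 = 1 := by rw [← h.z3, pow_orderOf_eq_one]

theorem z_sq : z ^ 2 = z⁻¹ := eq_inv_of_mul_eq_one_left (by rw [← pow_succ, h.z_cube])

theorem pow_commute_z (n : ℕ) : Commute ((z * u) ^ n) z :=
  ((Commute.refl z).mul_left h.zu.symm).pow_left n

theorem exists_pow {c : H} (hc : c ∈ Subgroup.zpowers (z * u)) :
    ∃ k < 6, (z * u) ^ k = c := by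
  obtain ⟨k, hk⟩ := mem_powers_iff_mem_zpowers.2 hc
  exact ⟨k % 6, Nat.mod_lt _ (by norm_num), by rw [← h.order_six, pow_mod_orderOf]; exact hk⟩

theorem e_not_mem : e ∉ Subgroup.zpowers (z * u) := by
  intro hc
  obtain ⟨k, -, hk⟩ := h.exists_pow hc
  have h1 : Commute e z := by rw [← hk]; exact h.pow_commute_z k
  have h2 := h.inv
  rw [h1.eq, mul_inv_cancel_right, eq_inv_iff_mul_eq_one, ← pow_two] at h2
  have := orderOf_dvd_of_pow_eq_one h2
  rw [h.z3] at this
  norm_num at this

theorem mem_of_mem {x : H} (hx : Commute x z ∨ x * z * x⁻¹ = z⁻¹) :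
    x ∈ Subgroup.zpowers (z * u) ∨ e * x ∈ Subgroup.zpowers (z * u) := by
  rcases hx with hx | hx
  · exact Or.inl (h.cent x hx)
  · refine Or.inr (h.cent _ ?_)
    show e * x * z = z * (e * x)
    rw [← mul_inv_eq_iff_eq_mul]
    calc e * x * z * (e * x)⁻¹ = e * (x * z * x⁻¹) * e⁻¹ := by group
      _ = z := by
        rw [hx, show e * z⁻¹ * e⁻¹ = (e * z * e⁻¹)⁻¹ by group, h.inv, inv_inv]

omit h in
/-- `β = 1 - λ` on the cyclic group generated by `z u`. -/
theorem exists_lambda (h : ThreeU z u e) :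
    ∃ (ω : ℂ) (l : Subgroup.zpowers (z * u) →* ℂ), IsPrimitiveRoot ω 3 ∧
      ∀ k : ℕ, l ⟨(z * u) ^ k, Subgroup.npow_mem_zpowers _ _⟩ = ω ^ k := by
  obtain ⟨ω, hω⟩ : ∃ ω : ℂ, IsPrimitiveRoot ω 3 := ⟨_, Complex.isPrimitiveRoot_exp 3 (by norm_num)⟩
  set g : Subgroup.zpowers (z * u) := ⟨z * u, Subgroup.mem_zpowers _⟩
  have hg : ∀ x, x ∈ Subgroup.zpowers g := fun ⟨x, hx⟩ => by
    obtain ⟨k, rfl⟩ := Subgroup.mem_zpowers_iff.1 hx
    exact ⟨k, Subtype.ext (by simp [g])⟩
  let w : ℂˣ := (hω.isUnit (by norm_num)).unit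
  have hw : orderOf w ∣ orderOf g := by
    apply orderOf_dvd_of_pow_eq_one
    rw [Subgroup.orderOf_mk, h.order_six, Units.ext_iff]
    simp only [w, Units.val_pow_eq_pow_val, IsUnit.unit_spec, Units.val_one]
    rw [show (6 : ℕ) = 3 * 2 from rfl, pow_mul, hω.pow_eq_one, one_pow]
  refine ⟨ω, (Units.coeHom ℂ).comp (monoidHomOfForallMemZpowers hg hw), hω, fun k => ?_⟩
  have : (⟨(z * u) ^ k, Subgroup.npow_mem_zpowers _ _⟩ : Subgroup.zpowers (z * u)) = g ^ k :=
    Subtype.ext (by simp [g])
  rw [this, map_pow, MonoidHom.comp_apply, monoidHomOfForallMemZpowers_apply_gen]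
  simp [w]

/-- The generalized character supported on the conjugates of elements of order three and six. -/
theorem exists_theta [Fintype H] : ∃ θ : H → ℂ, IsGeneralizedCharacter H θ ∧ θ 1 = 0 ∧ θ z = 3 ∧
    classInner θ θ = 3 ∧ classInner θ (fun _ => 1) = 1 ∧ (∀ g : H, g * g = 1 → θ g = 0) ∧
    ∀ i : H, orderOf i = 2 → ¬ IsConj e i → ¬ IsConj (e * u) i →
      ∀ [Fintype (IrrCharacter H)], ∑ χ : IrrCharacter H,
        classInner θ (χ : H → ℂ) * ((χ : H → ℂ) i) ^ 2 / (χ : H → ℂ) 1 = 0 := by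
  classical
  obtain ⟨ω, l, hω, hl⟩ := h.exists_lambda
  set β : (Subgroup.zpowers (z * u)) → ℂ := (fun _ => 1) - (fun c => l c) with hβ
  have hβk : ∀ k, β ⟨(z * u) ^ k, Subgroup.npow_mem_zpowers _ _⟩ = 1 - ω ^ k := fun k => by
    simp [hβ, hl]
  have hβg : IsGeneralizedCharacter (Subgroup.zpowers (z * u)) β :=
    IsGeneralizedCharacter.sub (isGeneralizedCharacter_of_isCharacter (isCharacter_one))
      (isGeneralizedCharacter_of_isCharacter (isCharacter_of_hom l))
  have hcard : Nat.card (Subgroup.zpowers (z * u)) = 6 := by rw [Nat.card_zpowers, h.order_six]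
  set θ := Cfsg.indFun (Subgroup.zpowers (z * u)) β with hθ
  have hθcl : IsClassFunction H θ := indFun_isClassFunction (Subgroup.zpowers (z * u)) β
  have hsupp : ∀ g : H, θ g ≠ 0 → ∃ x : H, ∃ k : ℕ, ¬ 3 ∣ k ∧ x⁻¹ * g * x = (z * u) ^ k := by
    intro g hg
    by_contra hn
    push Not at hn
    refine hg ?_
    simp only [hθ, indFun, mul_eq_zero]
    right
    refine Finset.sum_eq_zero fun x _ => ?_
    rw [extendByZero_eq]
    split_ifs with hm
    · obtain ⟨k, -, hk⟩ := h.exists_pow hm
      have : (⟨x⁻¹ * g * x, hm⟩ : (Subgroup.zpowers (z * u))) = ⟨(z * u) ^ k, Subgroup.npow_mem_zpowers _ _⟩ :=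
        Subtype.ext hk.symm
      rw [this, hβk]
      have h3 : 3 ∣ k := by
        by_contra h3
        exact hn x k h3 hk.symm
      obtain ⟨m, rfl⟩ := h3
      rw [pow_mul, hω.pow_eq_one, one_pow, sub_self]
    · rfl
  have hval : ∀ k : ℕ, θ ((z * u) ^ k) = (1 - ω ^ k) + (1 - (ω ^ k)⁻¹) := by
    intro k
    by_cases h3 : 3 ∣ k
    · have h0 : θ ((z * u) ^ k) = 0 := by
        by_contra h0
        obtain ⟨x, m, hm, hx⟩ := hsupp _ h0
        have h6 : ((z * u) ^ m) ^ 2 = 1 := by
          have e1 : (MulAut.conj x⁻¹) ((z * u) ^ k) = (z * u) ^ m := by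
            rw [MulAut.conj_apply, inv_inv]; exact hx
          obtain ⟨q, rfl⟩ := h3
          rw [← e1, ← map_pow, ← pow_mul, show 3 * q * 2 = 6 * q by ring, pow_mul, ← h.order_six,
            pow_orderOf_eq_one, one_pow, map_one]
        rw [← pow_mul] at h6
        have := orderOf_dvd_of_pow_eq_one h6
        rw [h.order_six] at this
        omega
      obtain ⟨q, rfl⟩ := h3
      rw [h0, pow_mul, hω.pow_eq_one, one_pow, inv_one, sub_self, add_zero]
    · have key : ∀ x : H, extendByZero (Subgroup.zpowers (z * u)) β (x⁻¹ * (z * u) ^ k * x) =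
          (if x ∈ (Subgroup.zpowers (z * u)) then 1 - ω ^ k else 0) + (if e * x ∈ (Subgroup.zpowers (z * u)) then 1 - (ω ^ k)⁻¹ else 0) := by
        intro x
        by_cases hx : x ∈ (Subgroup.zpowers (z * u))
        · have hne : e * x ∉ (Subgroup.zpowers (z * u)) := fun he => h.e_not_mem (by simpa using (Subgroup.zpowers (z * u)).mul_mem he ((Subgroup.zpowers (z * u)).inv_mem hx))
          rw [if_pos hx, if_neg hne, add_zero]
          obtain ⟨a, -, rfl⟩ := h.exists_pow hx
          rw [mul_assoc, ← (Commute.pow_pow_self _ a k).eq, inv_mul_cancel_left, ← hβk k]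
          exact extendByZero_coe (Subgroup.zpowers (z * u)) β ⟨_, Subgroup.npow_mem_zpowers _ _⟩
        by_cases hx' : e * x ∈ (Subgroup.zpowers (z * u))
        · rw [if_neg hx, if_pos hx', zero_add]
          obtain ⟨a, -, ha⟩ := h.exists_pow hx'
          have hxe : x = e * (z * u) ^ a := by rw [ha, ← mul_assoc]; nth_rw 2 [← h.e_inv]; simp
          have e1 : x⁻¹ * (z * u) ^ k * x = ((z * u) ^ k)⁻¹ := by
            rw [hxe, mul_inv_rev, h.e_inv,
              show ((z * u) ^ a)⁻¹ * e * (z * u) ^ k * (e * (z * u) ^ a) =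
                ((z * u) ^ a)⁻¹ * (e * (z * u) ^ k * e) * (z * u) ^ a by group,
              show e * (z * u) ^ k * e = e * (z * u) ^ k * e⁻¹ by rw [h.e_inv], h.e_inverts',
              mul_assoc, (Commute.inv_left (Commute.pow_pow_self (z * u) k a)).eq, inv_mul_cancel_left]
          rw [e1]
          have e2 : ((z * u) ^ k)⁻¹ = (z * u) ^ (5 * k) := by
            refine inv_eq_of_mul_eq_one_right ?_
            rw [← pow_add, show k + 5 * k = 6 * k by ring, pow_mul, ← h.order_six, pow_orderOf_eq_one, one_pow]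
          have e3 : ω ^ (5 * k) = (ω ^ k)⁻¹ := by
            refine eq_inv_of_mul_eq_one_left ?_
            rw [← pow_add, show 5 * k + k = 3 * (2 * k) by ring, pow_mul, hω.pow_eq_one, one_pow]
          rw [e2, ← e3, ← hβk]
          exact extendByZero_coe (Subgroup.zpowers (z * u)) β ⟨_, Subgroup.npow_mem_zpowers _ _⟩
        rw [if_neg hx, if_neg hx', add_zero, extendByZero_eq, dif_neg]
        intro hm
        obtain ⟨m, -, hm⟩ := h.exists_pow hm
        have e0 : (MulAut.conj x⁻¹) ((z * u) ^ k) = (z * u) ^ m := by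
          rw [MulAut.conj_apply, inv_inv]; exact hm.symm
        -- the fourth power moves a generator of the three part to one
        have hz4 : ∀ n : ℕ, ((z * u) ^ n) ^ 4 = z ^ n := fun n => by
          rw [← pow_mul, mul_comm, pow_mul, h.z_eq]
        have e1 : x⁻¹ * z ^ k * x = z ^ m := by
          rw [← hz4, ← hz4, ← e0, ← map_pow, MulAut.conj_apply, inv_inv]
        have hk' : z ^ k = z ∨ z ^ k = z⁻¹ := by
          rw [← pow_mod_orderOf z k, h.z3]
          rcases (show k % 3 = 1 ∨ k % 3 = 2 by omega) with r | r <;> rw [r]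
          · exact Or.inl (pow_one z)
          · exact Or.inr h.z_sq
        have hm3 : ¬ 3 ∣ m := by
          rintro ⟨q, rfl⟩
          rw [pow_mul, show z ^ 3 = 1 by rw [← h.z3, pow_orderOf_eq_one], one_pow] at e1
          have : z ^ k = 1 := by
            have := congrArg (fun t => x * t * x⁻¹) e1
            simpa [mul_assoc] using this
          exact h3 (h.z3 ▸ orderOf_dvd_of_pow_eq_one this)
        have hm' : z ^ m = z ∨ z ^ m = z⁻¹ := by
          rw [← pow_mod_orderOf z m, h.z3]
          rcases (show m % 3 = 1 ∨ m % 3 = 2 by omega) with r | r <;> rw [r]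
          · exact Or.inl (pow_one z)
          · exact Or.inr h.z_sq
        have e2 : x * (z ^ m) * x⁻¹ = z ^ k := by rw [← e1]; group
        have hcase : Commute x z ∨ x * z * x⁻¹ = z⁻¹ := by
          rcases hk' with a | a <;> rcases hm' with b | b <;> rw [a, b] at e2
          · exact Or.inl (mul_inv_eq_iff_eq_mul.1 e2)
          · exact Or.inr (by rw [← inv_inj, inv_inv]; simpa [mul_assoc] using e2)
          · exact Or.inr e2
          · refine Or.inl (mul_inv_eq_iff_eq_mul.1 ?_)
            rw [← inv_inj]; simpa [mul_assoc] using e2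
        rcases h.mem_of_mem hcase with q | q
        · exact hx q
        · exact hx' q
      simp only [hθ, indFun, key, Finset.sum_add_distrib, Finset.sum_ite, Finset.sum_const_zero,
        add_zero, Finset.sum_const, nsmul_eq_mul]
      have c1 : (Finset.univ.filter fun x : H => x ∈ (Subgroup.zpowers (z * u))).card = 6 := by
        rw [← hcard, Nat.card_eq_fintype_card, Fintype.card_subtype]
      have c2 : (Finset.univ.filter fun x : H => e * x ∈ (Subgroup.zpowers (z * u))).card = 6 := by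
        rw [← c1]
        refine Finset.card_equiv (Equiv.mulLeft e) fun x => ?_
        simp
      rw [c1, c2, hcard]
      push_cast
      ring
  have hω3 : 1 + ω + ω ^ 2 = 0 := by
    have := hω.geom_sum_eq_zero (by norm_num)
    simpa [Finset.sum_range_succ] using this
  have hinv : ω⁻¹ = ω ^ 2 := inv_eq_of_mul_eq_one_right (by rw [← pow_succ', hω.pow_eq_one])
  have hsum : ∀ f : (Subgroup.zpowers (z * u)) → ℂ, ∑ c : (Subgroup.zpowers (z * u)), f c =
      ∑ k ∈ Finset.range 6, f ⟨(z * u) ^ k, Subgroup.npow_mem_zpowers _ _⟩ := by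
    intro f
    symm
    refine Finset.sum_bij (fun k _ => (⟨(z * u) ^ k, Subgroup.npow_mem_zpowers _ _⟩ : (Subgroup.zpowers (z * u))))
      (fun k _ => Finset.mem_univ _) ?_ ?_ (fun k _ => rfl)
    · intro a ha b hb hab
      have := congrArg Subtype.val hab
      exact pow_injOn_Iio_orderOf (by simpa [h.order_six] using ha) (by simpa [h.order_six] using hb) this
    · intro c _
      obtain ⟨k, hk, hkc⟩ := h.exists_pow c.2
      exact ⟨k, Finset.mem_range.2 hk, Subtype.ext hkc⟩
  refine ⟨θ, IsGeneralizedCharacter.indFun hβg, ?_, ?_, ?_, ?_, ?_, ?_⟩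
  · have := hval 0
    simpa using this
  · have := hval 4
    rw [h.z_eq, show ω ^ 4 = ω by rw [pow_succ, hω.pow_eq_one, one_mul], hinv] at this
    rw [this]
    linear_combination -hω3
  · rw [frobenius_reciprocity (Subgroup.zpowers (z * u)) β hθcl, classInner, hcard, hsum]
    simp only [hβk, hval, Finset.sum_range_succ, Finset.sum_range_zero, zero_add, map_add, map_sub,
      map_one, map_inv₀, map_pow]
    have hnω : conj ω = ω ^ 2 := by
      rw [← hinv, Complex.inv_eq_conj]
      exact Complex.norm_eq_one_of_pow_eq_one hω.pow_eq_one (by norm_num)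
    simp only [hnω, ← inv_pow, hinv, ← pow_mul]
    push_cast
    have h3 := hω.pow_eq_one
    have q : ∀ n : ℕ, ω ^ n = ω ^ (n % 3) := fun n => pow_eq_pow_mod n h3
    simp only [q (2 * _), q 4, q 5]
    norm_num
    grind
  · rw [frobenius_reciprocity (Subgroup.zpowers (z * u)) β (fun _ _ => rfl), classInner, hcard, hsum]
    simp only [hβk, Finset.sum_range_succ, Finset.sum_range_zero, zero_add, map_one, mul_one]
    have q4 : ω ^ 4 = ω := by rw [pow_succ, hω.pow_eq_one, one_mul]
    have q5 : ω ^ 5 = ω ^ 2 := by rw [show (5:ℕ) = 3 + 2 from rfl, pow_add, hω.pow_eq_one, one_mul]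
    rw [hω.pow_eq_one, q4, q5]
    push_cast
    linear_combination -((1 : ℂ) / 3) * hω3
  · intro g hg
    by_contra h0
    obtain ⟨x, m, hm, hx⟩ := hsupp g h0
    have h6 : (z * u) ^ (m * 2) = 1 := by
      rw [pow_mul, ← hx, pow_two]
      simp [mul_assoc, ← mul_assoc g g, hg]
    have := orderOf_dvd_of_pow_eq_one h6
    rw [h.order_six] at this
    omega
  · intro i hi hne hneu _
    have hpair : ∀ k : ℕ, ¬ 3 ∣ k →
        ∑ χ : IrrCharacter H, (χ : H → ℂ) i * (χ : H → ℂ) i * conj ((χ : H → ℂ) ((z * u) ^ k)) /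
          (χ : H → ℂ) 1 = 0 := by
      intro k h3
      have h0 : Nat.card {p : H × H // IsConj i p.1 ∧ IsConj i p.2 ∧ p.1 * p.2 = (z * u) ^ k} = 0 := by
        rw [Nat.card_eq_zero]
        refine Or.inl ⟨fun ⟨⟨a, b⟩, ha, hb, hab⟩ => ?_⟩
        simp only at ha hb hab
        have o2 : ∀ a : H, IsConj i a → a * a = 1 := by
          intro a ha
          obtain ⟨q, rfl⟩ := isConj_iff.1 ha
          rw [← pow_two, conj_pow, ← hi, pow_orderOf_eq_one, mul_one, mul_inv_cancel]
        have aa := o2 a ha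
        have bb := o2 b hb
        have hinvk : a * (z * u) ^ k * a⁻¹ = ((z * u) ^ k)⁻¹ := by
          rw [← hab, mul_inv_rev, inv_eq_of_mul_eq_one_right aa, inv_eq_of_mul_eq_one_right bb,
            ← mul_assoc, aa, one_mul]
        have hz : a * z * a⁻¹ = z⁻¹ := by
          have e1 : (MulAut.conj a) ((z * u) ^ k) = ((z * u) ^ k)⁻¹ := hinvk
          have e4 := congrArg (fun t => t ^ 4) e1
          simp only [← map_pow, inv_pow] at e4
          rw [← pow_mul, mul_comm k 4, pow_mul, h.z_eq] at e4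
          rw [MulAut.conj_apply] at e4
          rcases (show k % 3 = 1 ∨ k % 3 = 2 by omega) with r | r
          · rwa [← pow_mod_orderOf z k, h.z3, r, pow_one] at e4
          · have z2 := h.z_sq
            rw [← pow_mod_orderOf z k, h.z3, r, z2, inv_inv] at e4
            rw [← inv_inj, inv_inv, mul_inv_rev, mul_inv_rev, inv_inv, ← mul_assoc, e4]
        rcases h.mem_of_mem (Or.inr hz) with q | q
        · obtain ⟨n, -, rfl⟩ := h.exists_pow q
          have : Commute ((z * u) ^ n) z := h.pow_commute_z n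
          rw [this.eq, mul_inv_cancel_right, eq_inv_iff_mul_eq_one, ← pow_two] at hz
          have := orderOf_dvd_of_pow_eq_one hz
          rw [h.z3] at this
          norm_num at this
        · obtain ⟨n, -, hn⟩ := h.exists_pow q
          have ha' : a = e * (z * u) ^ n := by rw [hn, ← mul_assoc]; nth_rw 2 [← h.e_inv]; simp
          -- conjugate by a power of the generator
          have hshift : ∀ (t : H) (m : ℕ), Commute t (z * u) →
              IsConj (e * t) (e * t * (z * u) ^ (2 * m)) := by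
            intro t m ht
            refine isConj_iff.2 ⟨((z * u) ^ m)⁻¹, ?_⟩
            have e1 := h.e_inverts' m
            rw [inv_inv, ← e1]
            rw [two_mul, pow_add]
            have := (ht.pow_right m).eq
            calc e * (z * u) ^ m * e⁻¹ * (e * t) * (z * u) ^ m
                = e * ((z * u) ^ m * t) * (z * u) ^ m := by group
              _ = _ := by rw [← this]; group
          rcases Nat.even_or_odd' n with ⟨m, rfl | rfl⟩
          · refine hne ?_
            refine (IsConj.trans ?_ ha.symm)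
            have := hshift 1 m (Commute.one_left _)
            rw [mul_one] at this
            rwa [ha']
          · refine hneu ?_
            refine (IsConj.trans ?_ ha.symm)
            have := hshift u (m + 2) (h.zu.symm.mul_right (Commute.refl u))
            rw [ha']
            have e5 : u * (z * u) ^ (2 * (m + 2)) = (z * u) ^ (2 * m + 1) := by
              nth_rw 1 [← h.u_eq]
              rw [← pow_add, show 3 + 2 * (m + 2) = (2 * m + 1) + 6 by ring, pow_add,
                ← h.order_six, pow_orderOf_eq_one, mul_one]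
            rwa [mul_assoc, e5] at this
      have := class_mult_formula i i ((z * u) ^ k)
      rw [h0, Nat.cast_zero] at this
      have hpos : (Nat.card {x : H // IsConj i x} : ℂ) ≠ 0 := by
        haveI : Nonempty {x : H // IsConj i x} := ⟨⟨i, IsConj.refl i⟩⟩
        exact Nat.cast_ne_zero.2 Nat.card_pos.ne'
      have hG : (Nat.card H : ℂ) ≠ 0 := Nat.cast_ne_zero.2 Nat.card_pos.ne'
      rcases mul_eq_zero.1 this.symm with q | q
      · simp [hpos, hG] at q
      · exact q
    have hexp : ∀ χ : IrrCharacter H, classInner θ (χ : H → ℂ) =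
        (6 : ℂ)⁻¹ * ∑ k ∈ Finset.range 6, (1 - ω ^ k) * conj ((χ : H → ℂ) ((z * u) ^ k)) := by
      intro χ
      rw [frobenius_reciprocity (Subgroup.zpowers (z * u)) β (IsIrrCharacter.isClassFunction χ.2), classInner, hcard, hsum]
      simp [hβk]
    calc ∑ χ : IrrCharacter H, classInner θ (χ : H → ℂ) * ((χ : H → ℂ) i) ^ 2 / (χ : H → ℂ) 1
        = (6 : ℂ)⁻¹ * ∑ k ∈ Finset.range 6, (1 - ω ^ k) * ∑ χ : IrrCharacter H,
            (χ : H → ℂ) i * (χ : H → ℂ) i * conj ((χ : H → ℂ) ((z * u) ^ k)) / (χ : H → ℂ) 1 := by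
          simp only [hexp, Finset.mul_sum, Finset.sum_mul, Finset.sum_div]
          rw [Finset.sum_comm]
          refine Finset.sum_congr rfl fun k _ => Finset.sum_congr rfl fun χ _ => ?_
          ring
      _ = 0 := by
          rw [Finset.sum_eq_zero, mul_zero]
          intro k _
          by_cases h3 : 3 ∣ k
          · obtain ⟨q, rfl⟩ := h3
            rw [pow_mul, hω.pow_eq_one, one_pow, sub_self, zero_mul]
          · rw [hpair k h3, mul_zero]

/-- The normal subgroup absorbing all further classes of involutions. -/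
theorem exists_normal : ∃ N : Subgroup H, N.Normal ∧ z ∉ N ∧ e ∉ N ∧ e * u ∉ N ∧
    ¬ 3 ∣ Nat.card N ∧ ∀ i : H, orderOf i = 2 → ¬ IsConj e i → ¬ IsConj (e * u) i → i ∈ N := by
  classical
  have := Fintype.ofFinite H
  have := Fintype.ofFinite (IrrCharacter H)
  obtain ⟨θ, hg, h1, hz, hnorm, htriv, hinvol, hsum⟩ := h.exists_theta
  obtain ⟨m, he, hm, hn⟩ := IsGeneralizedCharacter.exists_coeffs hg
  rw [hnorm] at hn
  have hs : ∑ χ : IrrCharacter H, m χ ^ 2 = 3 := by exact_mod_cast hn.symm
  let one : IrrCharacter H := ⟨fun _ => 1, isIrrCharacter_one⟩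
  have hone : m one = 1 := by
    have := hm one
    rw [show ((one : IrrCharacter H) : H → ℂ) = fun _ => 1 from rfl, htriv] at this
    exact_mod_cast this.symm
  -- the two further constituents
  have hrest : ∑ χ ∈ Finset.univ.erase one, m χ ^ 2 = 2 := by
    rw [← Finset.add_sum_erase _ _ (Finset.mem_univ one), hone] at hs
    linarith
  set S := (Finset.univ.erase one).filter fun χ => m χ ≠ 0 with hS
  have hS1 : ∀ χ ∈ S, m χ ^ 2 = 1 := by
    intro χ hχ
    obtain ⟨hχ, h0⟩ := Finset.mem_filter.1 hχ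
    have hle := Finset.single_le_sum (f := fun χ => m χ ^ 2) (fun χ _ => sq_nonneg _) hχ
    rw [hrest] at hle
    have : m χ ≤ 1 := by nlinarith
    have : -1 ≤ m χ := by nlinarith
    have : m χ = 1 ∨ m χ = -1 := by omega
    rcases this with e | e <;> simp [e]
  have hScard : S.card = 2 := by
    have : ∑ χ ∈ S, m χ ^ 2 = 2 := by
      rw [hS, Finset.sum_filter_of_ne, hrest]
      intro χ _ h0 e; simp [e] at h0
    rw [Finset.sum_congr rfl hS1, Finset.sum_const, Nat.smul_one_eq_cast] at this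
    exact_mod_cast this
  obtain ⟨χ, ψ, hne, hSeq⟩ := Finset.card_eq_two.1 hScard
  have hθ : ∀ g : H, θ g = 1 + (m χ : ℂ) * (χ : H → ℂ) g + (m ψ : ℂ) * (ψ : H → ℂ) g := by
    intro g
    conv_lhs => rw [he]
    rw [Finset.sum_apply, ← Finset.add_sum_erase _ _ (Finset.mem_univ one),
      ← Finset.sum_filter_of_ne (p := fun χ => m χ ≠ 0) (fun χ _ h0 e => h0 (by simp [e])), ← hS,
      hSeq, Finset.sum_pair hne, hone]
    simp only [Pi.smul_apply, smul_eq_mul, Int.cast_one, one_mul, ← add_assoc]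
    rfl
  let N : Subgroup H :=
    { carrier := {g | (∀ a, (χ : H → ℂ) (a * g) = (χ : H → ℂ) a) ∧ ∀ a, (ψ : H → ℂ) (a * g) = (ψ : H → ℂ) a}
      one_mem' := ⟨fun a => by rw [mul_one], fun a => by rw [mul_one]⟩
      mul_mem' := fun {p q} hp hq => ⟨fun a => by rw [← mul_assoc, hq.1, hp.1],
        fun a => by rw [← mul_assoc, hq.2, hp.2]⟩
      inv_mem' := fun {p} hp => ⟨fun a => by rw [← hp.1, inv_mul_cancel_right],
        fun a => by rw [← hp.2, inv_mul_cancel_right]⟩ }
  have hNn : N.Normal := by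
    refine ⟨fun n hn x => ⟨fun a => ?_, fun a => ?_⟩⟩
    · have q := IsIrrCharacter.isClassFunction χ.2
      rw [← q (a * (x * n * x⁻¹)) x⁻¹, ← q a x⁻¹, ← hn.1 (x⁻¹ * a * x⁻¹⁻¹)]
      congr 1; group
    · have q := IsIrrCharacter.isClassFunction ψ.2
      rw [← q (a * (x * n * x⁻¹)) x⁻¹, ← q a x⁻¹, ← hn.2 (x⁻¹ * a * x⁻¹⁻¹)]
      congr 1; group
  have hshift : ∀ n ∈ N, ∀ a, θ (a * n) = θ a := fun n hn a => by rw [hθ, hθ, hn.1, hn.2]
  have hzN : z ∉ N := fun hzN => by
    have := hshift z hzN 1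
    rw [one_mul, hz, h1] at this
    norm_num at this
  have heN : ∀ f : H, f * f = 1 → f * z * f⁻¹ = z⁻¹ → f ∉ N := by
    intro f hf hfz hfN
    have hzf : (z * f) * (z * f) = 1 := by
      have : f⁻¹ = f := inv_eq_of_mul_eq_one_right hf
      rw [this] at hfz
      rw [mul_assoc, ← mul_assoc f z f, hfz, mul_inv_cancel]
    have := hshift f hfN z
    rw [hinvol _ hzf, hz] at this
    norm_num at this
  have hee : e * e = 1 := by rw [← pow_two, ← h.e2, pow_orderOf_eq_one]
  refine ⟨N, hNn, hzN, heN e hee h.inv, heN (e * u) ?_ ?_, ?_, ?_⟩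
  · rw [h.eu.symm.mul_mul_mul_comm, hee, h.u_sq, one_mul]
  · calc e * u * z * (e * u)⁻¹ = e * (u * z * u⁻¹) * e⁻¹ := by group
      _ = z⁻¹ := by rw [h.zu.symm.eq, mul_inv_cancel_right, h.inv]
  · intro h3
    have : Fact (Nat.Prime 3) := ⟨Nat.prime_three⟩
    obtain ⟨n, hn⟩ := exists_prime_orderOf_dvd_card' (G := N) 3 h3
    have hn' : orderOf (n : H) = 3 := by rw [Subgroup.orderOf_coe, hn]
    have hp : IsPGroup 3 (Subgroup.zpowers z) :=
      IsPGroup.of_card (n := 1) (by rw [Nat.card_zpowers, h.z3, pow_one])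
    obtain ⟨P, hzP⟩ := IsPGroup.exists_le_sylow hp
    have hPz : (P : Subgroup H) = Subgroup.zpowers z := by
      by_contra hne
      obtain ⟨y, hy, hyz⟩ := SetLike.exists_of_lt (lt_of_le_of_ne hzP (Ne.symm hne))
      have hcen : Subgroup.center (P : Subgroup H) ≠ ⊥ := by
        haveI : Nontrivial (P : Subgroup H) :=
          ⟨⟨⟨y, hy⟩, 1, fun e => hyz (by rw [show y = 1 from congrArg Subtype.val e]; exact one_mem _)⟩⟩
        exact (Subgroup.nontrivial_iff_ne_bot _).1 (IsPGroup.center_nontrivial P.2)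
      obtain ⟨⟨c, hcP⟩, hcc, hc1⟩ := (Subgroup.center (P : Subgroup H)).bot_or_exists_ne_one.resolve_left hcen
      have hP3 : ∀ x ∈ (P : Subgroup H), Commute x z → x ∈ Subgroup.zpowers z := by
        intro x hx hxz
        obtain ⟨k, -, rfl⟩ := h.exists_pow (h.cent x hxz)
        obtain ⟨a, ha⟩ := P.2 ⟨_, hx⟩
        have ha' : ((z * u) ^ k) ^ 3 ^ a = 1 := congrArg Subtype.val ha
        rw [← pow_mul] at ha'
        have := orderOf_dvd_of_pow_eq_one ha'
        rw [h.order_six] at this
        have h2 : 2 ∣ k := (Nat.Coprime.dvd_of_dvd_mul_right (Nat.Coprime.pow_right a (by norm_num))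
          ((show 2 ∣ 6 by norm_num).trans this))
        obtain ⟨q, rfl⟩ := h2
        rw [pow_mul, h.zu.mul_pow, pow_two u, h.u_sq, mul_one, ← pow_mul]
        exact Subgroup.npow_mem_zpowers _ _
      have hcz : c ∈ Subgroup.zpowers z := hP3 c hcP (by
        have := Subgroup.mem_center_iff.1 hcc ⟨z, hzP (Subgroup.mem_zpowers z)⟩
        exact (congrArg Subtype.val this).symm)
      obtain ⟨j, rfl⟩ := mem_powers_iff_mem_zpowers.2 hcz
      have hj : ¬ 3 ∣ j := fun ⟨q, hq⟩ => hc1 (Subtype.ext (by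
        simp only [hq, pow_mul, ← h.z3, pow_orderOf_eq_one, one_pow]; rfl))
      have hzj : ∃ i, (z ^ j) ^ i = z := by
        rcases (show j % 3 = 1 ∨ j % 3 = 2 by omega) with r | r
        · exact ⟨1, by rw [pow_one, ← pow_mod_orderOf z j, h.z3, r, pow_one]⟩
        · exact ⟨2, by rw [← pow_mul, ← pow_mod_orderOf z (j * 2), h.z3,
            show j * 2 % 3 = 1 by omega, pow_one]⟩
      obtain ⟨i, hi⟩ := hzj
      refine hyz (hP3 y hy ?_)
      have hyc : Commute y (z ^ j) := congrArg Subtype.val (Subgroup.mem_center_iff.1 hcc ⟨y, hy⟩)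
      rw [← hi]; exact hyc.pow_right i
    obtain ⟨Q, hQ⟩ := IsPGroup.exists_le_sylow
      (IsPGroup.of_card (n := 1) (G := Subgroup.zpowers (n : H)) (by rw [Nat.card_zpowers, hn', pow_one]))
    obtain ⟨g, hg⟩ := MulAction.exists_smul_eq H Q P
    have hgn : g * n * g⁻¹ ∈ Subgroup.zpowers z := by
      rw [← hPz, ← hg]
      exact Subgroup.smul_mem_pointwise_smul _ (MulAut.conj g) _ (hQ (Subgroup.mem_zpowers _))
    obtain ⟨j, hj⟩ := mem_powers_iff_mem_zpowers.2 hgn
    have hgN : z ^ j ∈ N := by rw [show z ^ j = g * n * g⁻¹ from hj]; exact hNn.conj_mem _ n.2 g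
    have hj3 : ¬ 3 ∣ j := fun ⟨q, hq⟩ => by
      subst hq
      rw [show z ^ (3 * q) = g * n * g⁻¹ from hj |>.trans rfl] at hgN
      have : g * (n : H) * g⁻¹ = 1 := by
        rw [← show z ^ (3 * q) = g * n * g⁻¹ from hj, pow_mul, ← h.z3, pow_orderOf_eq_one, one_pow]
      have : (n : H) = 1 := by simpa using this
      rw [this, orderOf_one] at hn'
      norm_num at hn'
    rcases (show j % 3 = 1 ∨ j % 3 = 2 by omega) with r | r
    · rw [← pow_mod_orderOf z j, h.z3, r, pow_one] at hgN; exact hzN hgN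
    · have := N.pow_mem hgN 2
      rw [← pow_mul, ← pow_mod_orderOf z (j * 2), h.z3, show j * 2 % 3 = 1 by omega, pow_one] at this
      exact hzN this
  · intro i hi hne hneu
    have hii : i * i = 1 := by rw [← pow_two, ← hi, pow_orderOf_eq_one]
    have e0 := hθ i
    rw [hinvol i hii] at e0
    have e1 := hθ 1
    rw [h1] at e1
    have e2 := hsum i hi hne hneu
    rw [← Finset.add_sum_erase _ _ (Finset.mem_univ one),
      ← Finset.sum_filter_of_ne (p := fun χ => m χ ≠ 0) (fun χ _ h0 e => h0 (by simp [hm, e])), ← hS,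
      hSeq, Finset.sum_pair (show χ ≠ ψ by assumption), hm, hm, hm, hone] at e2
    obtain ⟨nd, ρ, -, hρ⟩ := χ.2
    obtain ⟨ne', σ, -, hσ⟩ := ψ.2
    have hd : (χ : H → ℂ) 1 ≠ 0 := IsIrrCharacter.apply_one_ne_zero χ.2
    have hd' : (ψ : H → ℂ) 1 ≠ 0 := IsIrrCharacter.apply_one_ne_zero ψ.2
    set d := (χ : H → ℂ) 1
    set d' := (ψ : H → ℂ) 1
    set a := (χ : H → ℂ) i
    set a' := (ψ : H → ℂ) i
    have mχ : (m χ : ℂ) ^ 2 = 1 := by exact_mod_cast hS1 χ (by rw [hSeq]; simp)
    have mψ : (m ψ : ℂ) ^ 2 = 1 := by exact_mod_cast hS1 ψ (by rw [hSeq]; simp)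
    have key : (d - a) ^ 2 * ((m χ : ℂ) * d' + (m ψ : ℂ) * d) = 0 := by
      have e2' : (1 : ℂ) + (m χ : ℂ) * a ^ 2 / d + (m ψ : ℂ) * a' ^ 2 / d' = 0 := by
        linear_combination e2
      field_simp at e2'
      grind
    have hnz : (m χ : ℂ) * d' + (m ψ : ℂ) * d ≠ 0 := by grind
    have ha : a = d := by
      rcases mul_eq_zero.1 key with q | q
      · exact (sub_eq_zero.1 (pow_eq_zero_iff two_ne_zero |>.1 q)).symm
      · exact absurd q hnz
    have ha' : a' = d' := by grind
    refine ⟨fun g => ?_, fun g => ?_⟩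
    · have hρi : ρ i = LinearMap.id := by
        rw [← character_eq_finrank_iff]
        rw [show ρ.character = (χ : H → ℂ) from hρ]
        show a = _
        rw [ha]
        show (χ : H → ℂ) 1 = _
        rw [← hρ, Representation.char_one]
      rw [← hρ, Representation.character, Representation.character, map_mul, hρi]
      rfl
    · have hσi : σ i = LinearMap.id := by
        rw [← character_eq_finrank_iff]
        rw [show σ.character = (ψ : H → ℂ) from hσ]
        show a' = _
        rw [ha']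
        show (ψ : H → ℂ) 1 = _
        rw [← hσ, Representation.char_one]
      rw [← hσ, Representation.character, Representation.character, map_mul, hσi]
      rfl

end ThreeU

end Cfsg.Agent.AltEightThree
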