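/-
The centralizer of `t = (0 1)(2 3)` modulo `⟨t⟩`.
-/
import Cfsg.Agent.Lib.AltEightThree.Local
import Cfsg.Agent.Lib.AltEightThree.ThreeU

set_option autoImplicit false
set_option maxRecDepth 100000
set_option synthInstance.maxSize 4000
set_option synthInstance.maxHeartbeats 400000
set_option linter.unusedSectionVars false

namespace Cfsg.Agent.AltEightThree

theorem cube_four_word : ∀ i < 3, ∀ v ∈ fourA, ∃ m < 6,
    zP ^ i * v = (zP * uP) ^ m ∨ zP ^ i * v = (zP * uP) ^ m * tP := by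
  decide +kernel

namespace Cfg

variable {G : Type*} [Group G] (c : Cfg G)

/-- The centralizer of `t`. -/
abbrev CT : Subgroup G := Subgroup.centralizer ({c.t} : Set G)

theorem mem_CT {g : G} : g ∈ c.CT ↔ Commute g c.t :=
  Subgroup.mem_centralizer_singleton_iff

/-- The element `t` of its centralizer. -/
def tC : c.CT := ⟨c.t, c.mem_CT.2 (Commute.refl _)⟩

instance normal_zpowers_tC : (Subgroup.zpowers c.tC).Normal := by
  refine ⟨fun n hn g => ?_⟩
  obtain ⟨k, rfl⟩ := hn
  have h : Commute g c.tC := Subtype.ext (c.mem_CT.1 g.2)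
  show g * c.tC ^ k * g⁻¹ ∈ _
  rw [(h.zpow_right k).eq, mul_inv_cancel_right]
  exact ⟨k, rfl⟩

/-- The centralizer of `t` modulo `⟨t⟩`. -/
abbrev HT : Type _ := c.CT ⧸ Subgroup.zpowers c.tC

/-- The projection. -/
abbrev πT : c.CT →* c.HT := QuotientGroup.mk' (Subgroup.zpowers c.tC)

/-- The element of the centralizer of `t` given by a pair. -/
def ce (x : Pairs) (h : x * tP = tP * x) : c.CT := ⟨c.ψ x, c.mem_CT.2 (c.commute_iff.2 h)⟩

@[simp] theorem coe_ce (x : Pairs) (h : x * tP = tP * x) : (c.ce x h : G) = c.ψ x := rfl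

theorem πT_eq_one_iff {x : c.CT} : c.πT x = 1 ↔ (x : G) = 1 ∨ (x : G) = c.t := by
  rw [QuotientGroup.mk'_apply, QuotientGroup.eq_one_iff]
  have h2 : c.tC ^ (2 : ℤ) = 1 := by
    rw [zpow_two]; exact Subtype.ext c.t_sq
  constructor
  · rintro ⟨k, hk⟩
    have hk' : c.tC ^ k = x := hk
    rw [← hk']
    rw [← Int.emod_add_mul_ediv k 2, zpow_add, zpow_mul, h2, one_zpow, mul_one]
    rcases Int.emod_two_eq k with e | e <;> rw [e]
    · exact Or.inl (by rw [zpow_zero]; rfl)
    · exact Or.inr (by rw [zpow_one]; rfl)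
  · rintro (h | h)
    · rw [show x = 1 from Subtype.ext h]; exact Subgroup.one_mem _
    · rw [show x = c.tC from Subtype.ext h]; exact Subgroup.mem_zpowers _

theorem πT_eq_iff {x y : c.CT} : c.πT x = c.πT y ↔ (x : G) = y ∨ (x : G) = y * c.t := by
  rw [← inv_mul_eq_one (a := c.πT x), ← map_inv, ← map_mul, c.πT_eq_one_iff]
  simp only [Subgroup.coe_mul, Subgroup.coe_inv, inv_mul_eq_iff_eq_mul]
  constructor
  · rintro (h | h)
    · exact Or.inl (by rw [h, mul_one])
    · exact Or.inr (by rw [h, mul_assoc, c.t_sq, mul_one])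
  · rintro (h | h)
    · exact Or.inl (by rw [h, mul_one])
    · exact Or.inr (by rw [h, mul_assoc, c.t_sq, mul_one])

/-- The image of `z`. -/
def zb : c.HT := c.πT (c.ce zP (by decide +kernel))
/-- The image of `u`. -/
def ub : c.HT := c.πT (c.ce uP (by decide +kernel))
/-- The image of `(0 1)(5 6)`. -/
def eb : c.HT := c.πT (c.ce eP (by decide +kernel))

theorem πT_ce_mul (x y : Pairs) (hx : x * tP = tP * x) (hy : y * tP = tP * y)
    (hxy : x * y * tP = tP * (x * y)) :
    c.πT (c.ce (x * y) hxy) = c.πT (c.ce x hx) * c.πT (c.ce y hy) := by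
  rw [← map_mul]
  exact congrArg _ (Subtype.ext (map_mul c.ψ x y))

theorem zu_pow (m : ℕ) (h : (zP * uP) ^ m * tP = tP * (zP * uP) ^ m) :
    c.πT (c.ce ((zP * uP) ^ m) h) = (c.zb * c.ub) ^ m := by
  rw [zb, ub, ← map_mul, ← map_pow]
  refine congrArg _ (Subtype.ext ?_)
  simp only [coe_ce, SubmonoidClass.coe_pow, Subgroup.coe_mul, map_pow, map_mul]

theorem cube_four_mem {x : c.CT} {i : ℕ} (hi : i < 3) {v : Pairs} (hv : v ∈ fourA)
    (hx : (x : G) = c.ψ (zP ^ i * v)) : ∃ m < 6, c.πT x = (c.zb * c.ub) ^ m := by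
  obtain ⟨m, hm, hcase⟩ := cube_four_word i hi v hv
  refine ⟨m, hm, ?_⟩
  have hc : Commute (zP * uP) tP :=
    (show Commute zP tP from (by decide +kernel : zP * tP = tP * zP)).mul_left
      (show Commute uP tP from (by decide +kernel : uP * tP = tP * uP))
  rw [← c.zu_pow m (hc.pow_left m).eq, c.πT_eq_iff, hx, coe_ce]
  rcases hcase with h | h
  · exact Or.inl (by rw [h])
  · exact Or.inr (by rw [h, map_mul])

variable [Finite G]

theorem orderOf_ce_image {x : Pairs} (h : x * tP = tP * x) (h2 : x ^ 2 = 1) (h1 : x ≠ 1)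
    (ht : x ≠ tP) : orderOf (c.πT (c.ce x h)) = 2 := by
  refine orderOf_eq_prime ?_ fun e => ?_
  · rw [← map_pow, c.πT_eq_one_iff]
    refine Or.inl ?_
    rw [SubmonoidClass.coe_pow, coe_ce, ← map_pow, h2, map_one]
  · rcases c.πT_eq_one_iff.1 e with e' | e'
    · exact c.map_ne_one h1 e'
    · exact ht (c.inj e')

theorem commute_z_of_zb {x : c.CT} (h : Commute (c.πT x) c.zb) : Commute (x : G) c.z := by
  have h' : c.πT (x * c.ce zP (by decide +kernel) * x⁻¹) = c.πT (c.ce zP (by decide +kernel)) := by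
    rw [map_mul, map_mul, map_inv]
    exact mul_inv_eq_iff_eq_mul.2 h.eq
  rcases c.πT_eq_iff.1 h' with e | e
  · simp only [Subgroup.coe_mul, Subgroup.coe_inv, coe_ce] at e
    exact mul_inv_eq_iff_eq_mul.1 e
  · exfalso
    simp only [Subgroup.coe_mul, Subgroup.coe_inv, coe_ce] at e
    have h1 : orderOf (c.z * c.t) = 3 := by rw [← e, orderOf_conj_eq, c.orderOf_z]
    have h2 : (c.z * c.t) ^ 3 = c.t := by
      rw [c.tz.symm.mul_pow, c.z_cube, one_mul, pow_succ, pow_two, c.t_sq, one_mul]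
    rw [← h1, pow_orderOf_eq_one] at h2
    exact c.map_ne_one (by decide +kernel : tP ≠ 1) h2.symm

/-- The configuration `⟨z, u⟩`, `e` in the centralizer of `t` modulo `⟨t⟩`. -/
theorem threeU : ThreeU c.zb c.ub c.eb where
  z3 := by
    refine orderOf_eq_prime ?_ fun e => ?_
    · rw [zb, ← map_pow, c.πT_eq_one_iff]
      exact Or.inl c.z_cube
    · rcases c.πT_eq_one_iff.1 e with e' | e'
      · exact c.map_ne_one (by decide +kernel : zP ≠ 1) e'
      · exact absurd (c.inj e') (by decide +kernel : zP ≠ tP)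
  u2 := c.orderOf_ce_image _ (by decide +kernel) (by decide +kernel) (by decide +kernel)
  e2 := c.orderOf_ce_image _ (by decide +kernel) (by decide +kernel) (by decide +kernel)
  zu := (show Commute (c.ce zP (by decide +kernel)) (c.ce uP (by decide +kernel)) from
    Subtype.ext (c.commute_iff.2 (by decide +kernel)).eq).map c.πT
  eu := by
    show _ * _ = _ * _
    rw [eb, ub, ← map_mul, ← map_mul, c.πT_eq_iff]
    refine Or.inr ?_
    simp only [Subgroup.coe_mul, coe_ce]
    rw [← map_mul, ← map_mul, ← map_mul, show eP * uP = uP * eP * tP by decide +kernel]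
  inv := by
    rw [eb, zb, ← map_inv, ← map_mul, ← map_mul, ← map_inv]
    refine congrArg _ (Subtype.ext ?_)
    simp only [Subgroup.coe_mul, Subgroup.coe_inv, coe_ce]
    rw [← map_inv, ← map_inv, ← map_mul, ← map_mul, show eP * zP * eP⁻¹ = zP⁻¹ by decide +kernel]
  cent := by
    intro g hg
    obtain ⟨x, rfl⟩ := QuotientGroup.mk'_surjective _ g
    have h := c.commute_z_of_zb hg
    obtain ⟨y, hy⟩ := c.mem_of_commute h
    have hyt : Commute (c.ψ y) c.t := hy ▸ c.mem_CT.1 x.2
    obtain ⟨i, hi, v, hv, rfl⟩ :=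
      AltEightThree.cent_ct y (c.commute_iff.1 (hy ▸ h)) (c.commute_iff.1 hyt)
    obtain ⟨m, -, hm⟩ := c.cube_four_mem hi hv hy.symm
    rw [hm]
    exact ⟨(m : ℤ), zpow_natCast _ m⟩

end Cfg

end Cfsg.Agent.AltEightThree
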