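/-
The four-group on `{0, 1, 2, 3}` commutes with its image under `j`, or with the image of the
four-group on `{0, 1, 2, 4}`.
-/
import Cfsg.Agent.Lib.AltEightThree.Quot
import Cfsg.Agent.Lib.Transfer.NilpotentHall
import Cfsg.Agent.Lib.Involution.Basic

set_option autoImplicit false
set_option maxRecDepth 100000
set_option synthInstance.maxSize 4000
set_option synthInstance.maxHeartbeats 400000
set_option linter.unusedSectionVars false

namespace Cfsg.Agent.AltEightThree

/-- The dihedral group `⟨(0 1)(2 3), (0 2)(1 3), (0 1)(5 6)⟩`. -/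
def octList : List Pairs := fourA ++ fourA.map (fun v => eP * v)

theorem octList_one : (1 : Pairs) ∈ octList := by decide +kernel

theorem octList_mul : ∀ a ∈ octList, ∀ b ∈ octList, a * b ∈ octList := by decide +kernel

theorem octList_inv : ∀ a ∈ octList, a⁻¹ ∈ octList := by decide +kernel

/-- The subgroup with elements `octList`. -/
def oct : Subgroup Pairs where
  carrier := {x | x ∈ octList}
  mul_mem' := fun ha hb => octList_mul _ ha _ hb
  one_mem' := octList_one
  inv_mem' := fun ha => octList_inv _ ha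

theorem mem_oct {x : Pairs} : x ∈ oct ↔ x ∈ octList := Iff.rfl

theorem oct_pow : ∀ x ∈ octList, x ^ 4 = 1 ∧ x * tP = tP * x := by decide +kernel

theorem oct_involutions : ∀ x ∈ octList, x * x = 1 → x ≠ 1 →
    x = tP ∨ x = uP ∨ x = tP * uP ∨ x = eP ∨ x = eP * tP := by
  decide +kernel

theorem oct_fusion : ∀ y : Pairs, y * tP = tP * y →
    (y * uP * y⁻¹ = uP ∨ y * uP * y⁻¹ = uP * tP) → y * eP * y⁻¹ ∈ octList → y ∈ octList := by
  decide +kernel

theorem eP_isConj : ∀ x ∈ [eP, eP * tP], ∃ g : Pairs, g * x * g⁻¹ = bP := by decide +kernel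

theorem aP_isConj : ∃ g : Pairs, g * tP * g⁻¹ = aP := by decide +kernel

theorem four_word : ∀ x ∈ fourA, x = 1 ∨ x = tP ∨ x = uP ∨ x = tP * uP := by decide +kernel

theorem w_four : ∀ x ∈ fourA, wP⁻¹ * x * wP ∈ fourA ∧ zP⁻¹ * x * zP = x := by decide +kernel

namespace Cfg

variable {G : Type*} [Group G] [Finite G] (c : Cfg G)

theorem isConj_t_eP {x : Pairs} (hx : x ∈ [eP, eP * tP]) : IsConj c.t (c.ψ x) := by
  have h1 : ∀ {a b : Pairs} (g : Pairs), g * a * g⁻¹ = b → IsConj (c.ψ a) (c.ψ b) := fun g h =>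
    isConj_iff.2 ⟨c.ψ g, by rw [← h, map_mul, map_mul, map_inv]⟩
  obtain ⟨g, hg⟩ := eP_isConj x hx
  obtain ⟨g', hg'⟩ := aP_isConj
  exact ((h1 g' hg').trans (c.j_a ▸ c.j_isConj (c.ψ aP))).trans (h1 g hg).symm

theorem isConj_t_oct {x : Pairs} (hx : x ∈ octList) (h2 : x * x = 1) (h1 : x ≠ 1) :
    IsConj c.t (c.ψ x) := by
  rcases oct_involutions x hx h2 h1 with rfl | rfl | rfl | rfl | rfl
  · exact IsConj.refl _
  · exact c.four_isConj (by decide +kernel) h1
  · exact c.four_isConj (by decide +kernel) h1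
  · exact c.isConj_t_eP (by simp)
  · exact c.isConj_t_eP (by simp)

theorem commute_four {g : G} (ht : Commute g c.t) (hu : Commute g c.u) {v : Pairs}
    (hv : v ∈ fourA) : Commute g (c.ψ v) := by
  rcases four_word v hv with rfl | rfl | rfl | rfl
  · rw [map_one]; exact Commute.one_right g
  · exact ht
  · exact hu
  · rw [map_mul]; exact ht.mul_right hu

/-- A complement of `⟨z⟩` in the centralizer of the four-group. -/
theorem exists_core : ∃ K : Subgroup G, (∀ k ∈ K, c.z * k * c.z⁻¹ ∈ K) ∧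
    (∀ k ∈ K, c.w * k * c.w⁻¹ ∈ K) ∧ ¬ 3 ∣ Nat.card K ∧ c.t ∈ K ∧
    (∀ k ∈ K, Commute k c.t ∧ Commute k c.u) ∧
    ∀ g : G, Commute g c.t → Commute g c.u → ∃ k ∈ K, ∃ i : ℤ, g = k * c.z ^ i := by
  set CV := Subgroup.centralizer ({c.t, c.u} : Set G) with hCV
  have hmem : ∀ g, g ∈ CV ↔ Commute g c.t ∧ Commute g c.u := fun g => by
    rw [hCV, Subgroup.mem_centralizer_iff]
    simp only [Set.mem_insert_iff, Set.mem_singleton_iff, forall_eq_or_imp, forall_eq]
    exact and_congr ⟨fun h => h.symm, fun h => h.eq.symm⟩ ⟨fun h => h.symm, fun h => h.eq.symm⟩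
  let zv : CV := ⟨c.z, (hmem _).2 ⟨c.tz.symm, c.commute_iff.2 (by decide +kernel)⟩⟩
  have hz3 : orderOf zv = 3 := by rw [← orderOf_submonoid]; exact c.orderOf_z
  set H := Subgroup.zpowers zv with hH
  have hHcard : Nat.card H = 3 := by rw [hH, Nat.card_zpowers, hz3]
  have hidx : ¬ 3 ∣ H.index := fun h => c.not_nine_dvd_cent_t <| by
    have h9 : 9 ∣ Nat.card CV := by
      rw [← H.card_mul_index, hHcard, show (9 : ℕ) = 3 * 3 from rfl]
      exact Nat.mul_dvd_mul_left 3 h
    exact h9.trans (Subgroup.card_dvd_of_le fun g hg =>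
      Subgroup.mem_centralizer_singleton_iff.2 ((hmem g).1 hg).1.eq)
  have hhall : (Nat.card H).Coprime H.index := by
    rw [hHcard]; exact Nat.prime_three.coprime_iff_not_dvd.2 hidx
  have hnc : Subgroup.normalizer (H : Set CV) ≤ Subgroup.centralizer (H : Set CV) := by
    intro n hn
    have hnz : n * zv * n⁻¹ ∈ H := (Subgroup.mem_normalizer_iff.1 hn zv).1 (Subgroup.mem_zpowers _)
    obtain ⟨k, hk⟩ := (Subgroup.mem_zpowers_iff).1 hnz
    have hk' : (n : G) * c.z * (n : G)⁻¹ = c.z ^ k := congrArg Subtype.val hk.symm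
    have h3 : c.z ^ (3 : ℤ) = 1 := by
      rw [show (3 : ℤ) = ((3 : ℕ) : ℤ) from rfl, zpow_natCast]; exact c.z_cube
    rw [← Int.emod_add_mul_ediv k 3, zpow_add, zpow_mul, h3, one_zpow, mul_one] at hk'
    have h0 := Int.emod_nonneg k (show (3 : ℤ) ≠ 0 by norm_num)
    have h1 := Int.emod_lt_of_pos k (show (0 : ℤ) < 3 by norm_num)
    have hr : (n : G) * c.z * (n : G)⁻¹ = c.z ∨ (n : G) * c.z * (n : G)⁻¹ = c.z⁻¹ := by
      interval_cases hh : k % 3
      · rw [zpow_zero, conj_eq_one_iff] at hk'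
        exact absurd (orderOf_eq_one_iff.2 hk') (by rw [c.orderOf_z]; norm_num)
      · exact Or.inl (by rw [hk', zpow_one])
      · refine Or.inr ?_
        rw [hk', eq_inv_iff_mul_eq_one, zpow_two, ← pow_two, ← pow_succ]
        exact c.z_cube
    obtain ⟨y, hy⟩ := c.mem_range _ hr
    obtain ⟨i, -, v, hv, rfl⟩ := AltEightThree.cent_four y
      (c.commute_iff.1 (hy ▸ ((hmem _).1 n.2).1)) (c.commute_iff.1 (hy ▸ ((hmem _).1 n.2).2))
    have hc : Commute (n : G) c.z := by
      rw [← hy, c.commute_iff]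
      exact (((Commute.refl zP).pow_left i).mul_left
        (show Commute v zP from (four_sq v (List.mem_append_left _ hv)).2)).eq
    refine Subgroup.mem_centralizer_iff.2 fun h hh => ?_
    obtain ⟨k, rfl⟩ := hh
    exact ((show Commute zv n from Subtype.ext hc.symm.eq).zpow_left k).eq
  obtain ⟨N, hN, hcompl⟩ := Transfer.exists_normal_complement_of_normalizer_le_centralizer H hhall hnc
  have := hN
  have hNidx : N.index = 3 := by rw [hcompl.symm.index_eq_card, hHcard]
  have hNcard : ¬ 3 ∣ Nat.card N := fun h => hidx <| by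
    rw [hcompl.index_eq_card]; exact h
  set K := N.map CV.subtype with hK
  have hKmem : ∀ k, k ∈ K ↔ k ∈ CV ∧ ¬ 3 ∣ orderOf k := by
    intro k
    constructor
    · rintro ⟨x, hx, rfl⟩
      refine ⟨x.2, fun h => hNcard (h.trans ?_)⟩
      rw [Subgroup.coe_subtype, orderOf_submonoid]
      exact Subgroup.orderOf_dvd_natCard N hx
    · rintro ⟨hk, h3⟩
      refine ⟨⟨k, hk⟩, ?_, rfl⟩
      by_contra hkN
      apply h3
      rw [show orderOf k = orderOf (⟨k, hk⟩ : CV) from orderOf_submonoid (⟨k, hk⟩ : CV)]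
      refine dvd_trans (dvd_of_eq ?_) (orderOf_map_dvd (QuotientGroup.mk' N) ⟨k, hk⟩)
      refine (((Nat.dvd_prime Nat.prime_three).1 ?_).resolve_left fun e => hkN ?_).symm
      · rw [← hNidx, Subgroup.index_eq_card]; exact orderOf_dvd_natCard _
      · exact (QuotientGroup.eq_one_iff _).1 (orderOf_eq_one_iff.1 e)
  have h3K : ¬ 3 ∣ Nat.card K := by
    rw [hK, Subgroup.card_map_of_injective CV.subtype_injective]; exact hNcard
  have hinv : ∀ e : Pairs, (∀ v ∈ fourA, e⁻¹ * v * e ∈ fourA) →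
      ∀ k ∈ K, c.ψ e * k * (c.ψ e)⁻¹ ∈ K := by
    intro e he k hk
    rw [hKmem] at hk ⊢
    refine ⟨(hmem _).2 ?_, by rw [orderOf_conj_eq]; exact hk.2⟩
    have key : ∀ v ∈ fourA, Commute (c.ψ e * k * (c.ψ e)⁻¹) (c.ψ v) := fun v hv => by
      have h := c.commute_four ((hmem k).1 hk.1).1 ((hmem k).1 hk.1).2 (he v hv)
      have h' : c.ψ v = c.ψ e * c.ψ (e⁻¹ * v * e) * (c.ψ e)⁻¹ := by
        simp only [map_mul, map_inv]; group
      rw [h']
      show _ * _ = _ * _
      calc c.ψ e * k * (c.ψ e)⁻¹ * (c.ψ e * c.ψ (e⁻¹ * v * e) * (c.ψ e)⁻¹)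
          = c.ψ e * (k * c.ψ (e⁻¹ * v * e)) * (c.ψ e)⁻¹ := by group
        _ = c.ψ e * (c.ψ (e⁻¹ * v * e) * k) * (c.ψ e)⁻¹ := by rw [h.eq]
        _ = _ := by group
    exact ⟨key tP (by decide +kernel), key uP (by decide +kernel)⟩
  have hzK := hinv zP fun v hv => by rw [(w_four v hv).2]; exact hv
  have hwK := hinv wP fun v hv => (w_four v hv).1
  have htK : c.t ∈ K := (hKmem _).2 ⟨(hmem _).2 ⟨Commute.refl _, c.commute_iff.2 (by decide +kernel)⟩,
    by rw [c.orderOf_t]; norm_num⟩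
  refine ⟨K, hzK, hwK, h3K, htK, fun k hk => (hmem k).1 ((hKmem k).1 hk).1, fun g hgt hgu => ?_⟩
  obtain ⟨⟨n, m⟩, hnm⟩ := hcompl.2 ⟨g, (hmem g).2 ⟨hgt, hgu⟩⟩
  obtain ⟨i, hi⟩ := Subgroup.mem_zpowers_iff.1 m.2
  refine ⟨((n : CV) : G), ⟨n, n.2, rfl⟩, i, ?_⟩
  have hg : ((n : CV) : G) * ((m : CV) : G) = g := congrArg Subtype.val hnm
  rw [← hg, show ((m : CV) : G) = c.z ^ i from congrArg Subtype.val hi.symm]

/-- A subgroup containing the centralizers of `z` and `w` contains the one of the four-group. -/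
theorem cent_four_le {W : Subgroup G} (hWz : ∀ g : G, Commute g c.z → g ∈ W)
    (hWw : ∀ g : G, Commute g c.w → g ∈ W) {g : G} (ht : Commute g c.t) (hu : Commute g c.u) :
    g ∈ W := by
  obtain ⟨K, hzK, hwK, h3K, -, -, hfac⟩ := c.exists_core
  obtain ⟨k, hk, i, rfl⟩ := hfac g ht hu
  exact W.mul_mem (c.inv_le hzK hwK h3K (fun k _ h => hWz k h) (fun k _ h => hWw k h) hk)
    (W.zpow_mem (hWz _ (Commute.refl _)) i)

/-- Either the two four-groups commute, or the centralizer of the four-group centralizes `z`. -/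
theorem exists_comm_or :
    (∀ v ∈ fourA, ∀ v' ∈ fourA, Commute (c.ψ v) (c.j * c.ψ v' * c.j)) ∨
    (∀ v ∈ fourA, ∀ v' ∈ fourB, Commute (c.ψ v) (c.j * c.ψ v' * c.j)) ∨
    (∀ g : G, Commute g c.t → Commute g c.u → Commute g c.z) := by
  obtain ⟨K, hzK, hwK, h3K, htK, hKC, hfac⟩ := c.exists_core
  have hgoal : ∀ X : List Pairs, (∀ v' ∈ X, c.j * c.ψ v' * c.j ∈ K) →
      ∀ v ∈ fourA, ∀ v' ∈ X, Commute (c.ψ v) (c.j * c.ψ v' * c.j) := fun X hX v hv v' hv' =>
    (c.commute_four (hKC _ (hX v' hv')).1 (hKC _ (hX v' hv')).2 hv).symm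
  rcases c.inv_cent_w hzK hwK h3K with h | h | h
  · refine Or.inr (Or.inr fun g hgt hgu => ?_)
    have hle := c.inv_le hzK hwK h3K (W := Subgroup.centralizer ({c.z} : Set G))
      (fun k _ hkz => Subgroup.mem_centralizer_singleton_iff.2 hkz.eq)
      (fun k hk hkw => by rw [h k hk hkw]; exact Subgroup.one_mem _)
    obtain ⟨k, hk, i, rfl⟩ := hfac g hgt hgu
    exact (show Commute k c.z from Subgroup.mem_centralizer_singleton_iff.1 (hle hk)).mul_left
      ((Commute.refl c.z).zpow_left i)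
  · exact Or.inl (hgoal _ h)
  · exact Or.inr (Or.inl (hgoal _ h))

section Hard

variable (hV : ∀ g : G, Commute g c.t → Commute g c.u → Commute g c.z)
include hV

theorem hard_normV {x : c.CT} (h : (x : G) * c.u * (x : G)⁻¹ = c.u ∨
    (x : G) * c.u * (x : G)⁻¹ = c.u * c.t) :
    ∃ y : Pairs, (x : G) = c.ψ y ∧ ∃ i < 3, ∃ v ∈ fourA,
      y = zP ^ i * v ∨ y = eP * (zP ^ i * v) := by
  have base : ∀ g : G, Commute g c.t → Commute g c.u →
      ∃ y : Pairs, g = c.ψ y ∧ ∃ i < 3, ∃ v ∈ fourA, y = zP ^ i * v := fun g ht hu => by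
    obtain ⟨y, rfl⟩ := c.mem_of_commute (hV g ht hu)
    exact ⟨y, rfl, AltEightThree.cent_four y (c.commute_iff.1 ht) (c.commute_iff.1 hu)⟩
  rcases h with h | h
  · obtain ⟨y, hy, i, hi, v, hv, rfl⟩ := base _ (c.mem_CT.1 x.2) (mul_inv_eq_iff_eq_mul.1 h)
    exact ⟨_, hy, i, hi, v, hv, Or.inl rfl⟩
  · have he : c.ψ eP * (c.u * c.t) * (c.ψ eP)⁻¹ = c.u := by
      rw [← map_inv, ← map_mul, ← map_mul, ← map_mul,
        show eP * (uP * tP) * eP⁻¹ = uP by decide +kernel]
    have het : Commute (c.ψ eP) c.t := c.commute_iff.2 (by decide +kernel)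
    obtain ⟨y, hy, i, hi, v, hv, rfl⟩ := base (c.ψ eP * x) (het.mul_left (c.mem_CT.1 x.2)) (by
      refine mul_inv_eq_iff_eq_mul.1 ?_
      rw [show c.ψ eP * (x : G) * c.u * (c.ψ eP * x)⁻¹
        = c.ψ eP * ((x : G) * c.u * (x : G)⁻¹) * (c.ψ eP)⁻¹ by group, h, he])
    refine ⟨eP * (zP ^ i * v), ?_, i, hi, v, hv, Or.inr rfl⟩
    rw [map_mul, ← hy, ← mul_assoc, ← map_mul, show eP * eP = 1 by decide +kernel, map_one, one_mul]

/-- In the exceptional case the images of `u` and `(0 1)(5 6)` are conjugate, or every involution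
centralizing `t` is conjugate to `t`. -/
theorem hard_sylow :
    (∀ i : G, orderOf i = 2 → Commute i c.t → IsConj c.t i) ∨ IsConj c.ub c.eb := by
  have : Fact (Nat.Prime 2) := ⟨Nat.prime_two⟩
  set S : Subgroup c.CT := (oct.map c.ψ).subgroupOf c.CT with hS
  have hSmem : ∀ x : c.CT, x ∈ S ↔ ∃ y ∈ octList, c.ψ y = x := fun x => by
    rw [hS, Subgroup.mem_subgroupOf, Subgroup.mem_map]
    rfl
  have hS2 : IsPGroup 2 S := fun a => ⟨2, by
    obtain ⟨y, hy, hya⟩ := (hSmem _).1 a.2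
    refine Subtype.ext (Subtype.ext ?_)
    show ((a : c.CT) : G) ^ (2 ^ 2) = 1
    rw [← hya, ← map_pow, show (2 : ℕ) ^ 2 = 4 from rfl, (oct_pow y hy).1, map_one]⟩
  obtain ⟨P, hP⟩ := hS2.exists_le_sylow
  by_cases hPS : (P : Subgroup c.CT) ≤ S
  · refine Or.inl fun i hi hit => ?_
    let ic : c.CT := ⟨i, c.mem_CT.2 hit⟩
    obtain ⟨Q, hQ⟩ := (IsPGroup.of_card (n := 1)
      (show Nat.card (Subgroup.zpowers ic) = 2 ^ 1 by
        rw [Nat.card_zpowers, ← orderOf_submonoid, pow_one]; exact hi)).exists_le_sylow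
    obtain ⟨g, hg⟩ := MulAction.exists_smul_eq c.CT Q P
    have hm : g * ic * g⁻¹ ∈ S := hPS <| by
      rw [← hg, Sylow.coe_subgroup_smul]
      exact ⟨ic, hQ (Subgroup.mem_zpowers ic), rfl⟩
    obtain ⟨y, hy, hye⟩ := (hSmem _).1 hm
    have hye' : c.ψ y = (g : G) * i * (g : G)⁻¹ := hye
    have h2 : y * y = 1 := c.inj (by
      rw [map_mul, map_one, hye', ← pow_two, conj_pow, ← hi, pow_orderOf_eq_one, mul_one,
        mul_inv_cancel])
    have h1 : y ≠ 1 := fun e => by
      rw [e, map_one, eq_comm, conj_eq_one_iff] at hye'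
      rw [hye', orderOf_one] at hi
      norm_num at hi
    exact (c.isConj_t_oct hy h2 h1).trans (hye' ▸ (isConj_iff.2 ⟨(g : G), rfl⟩ : IsConj i _).symm)
  · right
    have := P.2.isNilpotent
    have hlt : S.subgroupOf (P : Subgroup c.CT) < ⊤ := lt_top_iff_ne_top.2 fun e =>
      hPS (Subgroup.subgroupOf_eq_top.1 e)
    obtain ⟨n, hn, hnS⟩ := SetLike.exists_of_lt
      (Group.normalizerCondition_of_isNilpotent (G := (P : Subgroup c.CT)) _ hlt)
    have hconj : ∀ s : c.CT, s ∈ S → (n : c.CT) * s * (n : c.CT)⁻¹ ∈ S := fun s hs =>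
      (Subgroup.mem_normalizer_iff.1 hn ⟨s, hP hs⟩).1 hs
    have huS : c.ce uP (by decide +kernel) ∈ S := (hSmem _).2 ⟨uP, by decide +kernel, rfl⟩
    have heS : c.ce eP (by decide +kernel) ∈ S := (hSmem _).2 ⟨eP, by decide +kernel, rfl⟩
    obtain ⟨y, hy, hye⟩ := (hSmem _).1 (hconj _ huS)
    have hye' : c.ψ y = ((n : c.CT) : G) * c.u * ((n : c.CT) : G)⁻¹ := hye
    have hy2 : y * y = 1 := c.inj (by
      rw [map_mul, map_one, hye', ← pow_two, conj_pow, ← map_pow,
        show uP ^ 2 = 1 by decide +kernel, map_one, mul_one, mul_inv_cancel])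
    have hy1 : y ≠ 1 := fun e => by
      rw [e, map_one, eq_comm, conj_eq_one_iff] at hye'
      exact c.map_ne_one (by decide +kernel : uP ≠ 1) hye'
    have hyt : y ≠ tP := fun e => by
      rw [e] at hye'
      have h := ((c.mem_CT.1 (n : c.CT).2)).eq
      have : c.u = c.t := by
        calc c.u = ((n : c.CT) : G)⁻¹ * (((n : c.CT) : G) * c.u * ((n : c.CT) : G)⁻¹) * (n : c.CT) := by group
          _ = ((n : c.CT) : G)⁻¹ * (c.t * (n : c.CT)) := by rw [← hye', mul_assoc]
          _ = c.t := by rw [← h, inv_mul_cancel_left]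
      exact (by decide +kernel : uP ≠ tP) (c.inj this)
    have hcase : y = eP ∨ y = eP * tP := by
      rcases oct_involutions y hy hy2 hy1 with e | e | e | e | e
      · exact absurd e hyt
      rotate_left 2
      · exact Or.inl e
      · exact Or.inr e
      all_goals
        exfalso
        obtain ⟨q, hq, -⟩ := c.hard_normV hV (x := (n : c.CT)) (by
          rw [← hye', e]
          first
          | exact Or.inl rfl
          | exact Or.inr (by rw [← map_mul, show tP * uP = uP * tP by decide +kernel]))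
        obtain ⟨r, hr, hre⟩ := (hSmem _).1 (hconj _ heS)
        have hre' : r = q * eP * q⁻¹ := c.inj (by
          rw [map_mul, map_mul, map_inv, ← hq]; exact hre)
        have hqt : q * tP = tP * q := c.commute_iff.1 (hq ▸ c.mem_CT.1 (n : c.CT).2)
        have hqu : q * uP * q⁻¹ = uP ∨ q * uP * q⁻¹ = uP * tP := by
          have : q * uP * q⁻¹ = y := c.inj (by rw [map_mul, map_mul, map_inv, ← hq]; exact hye'.symm)
          rw [this, e]
          first
          | exact Or.inl rfl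
          | exact Or.inr (by decide +kernel)
        exact hnS ((hSmem _).2 ⟨q, oct_fusion q hqt hqu (hre' ▸ hr), hq.symm⟩)
    refine isConj_iff.2 ⟨c.πT (n : c.CT), ?_⟩
    rw [Cfg.ub, Cfg.eb, ← map_inv, ← map_mul, ← map_mul, c.πT_eq_iff]
    simp only [Subgroup.coe_mul, Subgroup.coe_inv, coe_ce]
    rw [← hye']
    rcases hcase with rfl | rfl
    · exact Or.inl rfl
    · exact Or.inr (map_mul _ _ _)

theorem hard_all_t : ∀ i : G, orderOf i = 2 → Commute i c.t → IsConj c.t i := by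
  rcases c.hard_sylow hV with h | hue
  · exact h
  have T := c.threeU
  obtain ⟨N, hNn, hzN, heN, -, hN3, hall⟩ := T.exists_normal
  have := hNn
  have huN : c.ub ∉ N := fun h => heN <| by
    obtain ⟨g, hg⟩ := isConj_iff.1 hue
    rw [← hg]; exact hNn.conj_mem _ h g
  have hfix : ∀ m ∈ N, Commute m c.ub → m = 1 := by
    intro m hm hmu
    obtain ⟨x, rfl⟩ := QuotientGroup.mk'_surjective _ m
    have hxu : (x : G) * c.u * (x : G)⁻¹ = c.u ∨ (x : G) * c.u * (x : G)⁻¹ = c.u * c.t := by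
      have h : c.πT (x * c.ce uP (by decide +kernel) * x⁻¹) = c.πT (c.ce uP (by decide +kernel)) := by
        rw [map_mul, map_mul, map_inv]; exact mul_inv_eq_iff_eq_mul.2 hmu.eq
      simpa only [c.πT_eq_iff, Subgroup.coe_mul, Subgroup.coe_inv, coe_ce] using h
    have hpow : ∀ k < 6, (c.zb * c.ub) ^ k ∈ N → (c.zb * c.ub) ^ k = 1 := by
      intro k hk hkN
      interval_cases k
      · exact pow_zero _
      · have := N.pow_mem hkN 4
        rw [pow_one, T.z_eq] at this
        exact absurd this hzN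
      · have := N.pow_mem hkN 2
        rw [← pow_mul, T.z_eq] at this
        exact absurd this hzN
      · rw [T.u_eq] at hkN; exact absurd hkN huN
      · rw [T.z_eq] at hkN; exact absurd hkN hzN
      · have := N.pow_mem hkN 2
        rw [← pow_mul, show 5 * 2 = 6 + 4 from rfl, pow_add, ← T.order_six, pow_orderOf_eq_one,
          one_mul, T.z_eq] at this
        exact absurd this hzN
    obtain ⟨y, hy, i, hi, v, hv, hcase⟩ := c.hard_normV hV hxu
    rcases hcase with rfl | rfl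
    · obtain ⟨k, hk, hkx⟩ := c.cube_four_mem hi hv hy
      rw [hkx] at hm ⊢
      exact hpow k hk hm
    · exfalso
      have he2 : c.ce eP (by decide +kernel) * c.ce eP (by decide +kernel) = 1 :=
        Subtype.ext (by
          simp only [Subgroup.coe_mul, coe_ce]
          rw [← map_mul, show eP * eP = 1 by decide +kernel, map_one]; rfl)
      obtain ⟨k, -, hkx⟩ := c.cube_four_mem (x := c.ce eP (by decide +kernel) * x) hi hv (by
        simp only [Subgroup.coe_mul, coe_ce]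
        rw [hy, ← map_mul, ← mul_assoc, show eP * eP = 1 by decide +kernel, one_mul])
      have hme : c.πT x = c.eb * (c.zb * c.ub) ^ k := by
        rw [← hkx, map_mul, ← mul_assoc, Cfg.eb, ← map_mul, he2, map_one, one_mul]
      have h2 : c.πT x * c.zb * (c.πT x)⁻¹ * c.zb⁻¹ ∈ N := by
        rw [show c.πT x * c.zb * (c.πT x)⁻¹ * c.zb⁻¹
          = c.πT x * (c.zb * (c.πT x)⁻¹ * c.zb⁻¹) by group]
        exact N.mul_mem hm (hNn.conj_mem _ (N.inv_mem hm) _)
      rw [hme, show c.eb * (c.zb * c.ub) ^ k * c.zb * (c.eb * (c.zb * c.ub) ^ k)⁻¹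
        = c.eb * ((c.zb * c.ub) ^ k * c.zb * ((c.zb * c.ub) ^ k)⁻¹) * c.eb⁻¹ by group,
        (T.pow_commute_z k).eq, mul_inv_cancel_right, T.inv, ← mul_inv_rev, N.inv_mem_iff] at h2
      have h3 := N.pow_mem h2 2
      rw [← pow_two, ← pow_mul, show 2 * 2 = 3 + 1 from rfl, pow_add, T.z_cube, one_mul, pow_one] at h3
      exact hzN h3
  have hodd : ∀ m ∈ N, orderOf m ≠ 2 := by
    intro m hm h2
    have : Fact (Nat.Prime 2) := ⟨Nat.prime_two⟩
    classical
    have := Fintype.ofFinite N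
    let σ : Equiv.Perm N := (MulAut.conjNormal c.ub).toEquiv
    have hσ : σ ^ (2 ^ 1) = 1 := Equiv.ext fun a => Subtype.ext (by
      simp only [pow_one, pow_two, Equiv.Perm.mul_apply, Equiv.Perm.one_apply, σ,
        MulEquiv.toEquiv_eq_coe, EquivLike.coe_coe, MulAut.conjNormal_apply]
      calc c.ub * (c.ub * (a : c.HT) * c.ub⁻¹) * c.ub⁻¹
          = (c.ub * c.ub) * (a : c.HT) * (c.ub * c.ub)⁻¹ := by group
        _ = a := by rw [T.u_sq, one_mul, inv_one, mul_one])
    have hcard : 2 ∣ Fintype.card N := by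
      rw [← Nat.card_eq_fintype_card]
      exact h2 ▸ Subgroup.orderOf_dvd_natCard N hm
    obtain ⟨a, ha, ha1⟩ := Equiv.Perm.exists_fixed_point_of_prime' hcard hσ
      (a := (1 : N)) (map_one (MulAut.conjNormal c.ub))
    refine ha1 (Subtype.ext (hfix a a.2 ?_))
    have : c.ub * (a : c.HT) * c.ub⁻¹ = a := congrArg Subtype.val ha
    exact (mul_inv_eq_iff_eq_mul.1 this).symm
  intro i hi hit
  let ic : c.CT := ⟨i, c.mem_CT.2 hit⟩
  by_cases h1 : c.πT ic = 1
  · rcases c.πT_eq_one_iff.1 h1 with h | h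
    · have : i = 1 := h
      rw [this, orderOf_one] at hi
      norm_num at hi
    · rw [show i = c.t from h]
  have hbar : orderOf (c.πT ic) = 2 := orderOf_eq_prime (by
    rw [← map_pow, show ic ^ 2 = 1 from Subtype.ext (by
      show i ^ 2 = 1; rw [← hi, pow_orderOf_eq_one]), map_one]) h1
  have hlift : ∀ (x : Pairs) (hx : x * tP = tP * x), IsConj (c.πT (c.ce x hx)) (c.πT ic) →
      IsConj (c.ψ x) i ∨ IsConj (c.ψ (x * tP)) i := by
    intro x hx hc
    obtain ⟨g, hg⟩ := isConj_iff.1 hc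
    obtain ⟨g, rfl⟩ := QuotientGroup.mk'_surjective _ g
    rw [← map_inv, ← map_mul, ← map_mul, c.πT_eq_iff] at hg
    simp only [Subgroup.coe_mul, Subgroup.coe_inv, coe_ce] at hg
    rcases hg with hg | hg
    · exact Or.inl (isConj_iff.2 ⟨g, hg⟩)
    · refine Or.inr (isConj_iff.2 ⟨g, ?_⟩)
      rw [map_mul, show (g : G) * (c.ψ x * c.t) * (g : G)⁻¹
        = (g : G) * c.ψ x * (g : G)⁻¹ * ((g : G) * c.t * (g : G)⁻¹) by group,
        (c.mem_CT.1 g.2).eq, mul_inv_cancel_right, hg]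
      exact (mul_assoc i c.t c.t).trans (by rw [c.t_sq, mul_one])
  by_cases hce : IsConj c.eb (c.πT ic)
  · rcases hlift eP _ hce with h | h
    · exact (c.isConj_t_eP (by simp)).trans h
    · exact (c.isConj_t_eP (by simp)).trans h
  by_cases hceu : IsConj (c.eb * c.ub) (c.πT ic)
  · exfalso
    have hu : c.eb * c.ub = c.πT (c.ce (eP * uP) (by decide +kernel)) := by
      rw [Cfg.eb, Cfg.ub, ← map_mul]
      exact congrArg _ (Subtype.ext (map_mul c.ψ eP uP).symm)
    rw [hu] at hceu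
    have key : ∀ x : Pairs, x ^ 2 ≠ 1 → ¬ IsConj (c.ψ x) i := fun x hx hc => by
      obtain ⟨g, hg⟩ := isConj_iff.1 hc
      have : c.ψ x ^ 2 = 1 := by
        rw [← conj_eq_one_iff (a := g), ← conj_pow, hg, ← hi, pow_orderOf_eq_one]
      exact hx (c.inj (by rw [map_pow, this, map_one]))
    rcases hlift _ _ hceu with h | h
    · exact key _ (by decide +kernel) h
    · exact key _ (by decide +kernel) h
  exact absurd hbar (hodd _ (hall _ hbar hce hceu))

theorem hard_false : False := by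
  have hj2 : orderOf c.j = 2 := by
    refine orderOf_eq_prime (by rw [pow_two, c.j_sq]) fun e => ?_
    have := c.j_z
    rw [e, one_mul, mul_one] at this
    exact absurd (c.inj this) (by decide +kernel)
  obtain ⟨s, hs2, hst, hsj, -⟩ := Involution.exists_commuting_involution c.orderOf_t hj2
    (Involution.even_of_not_isConj c.orderOf_t hj2 c.not_isConj_t_j)
  obtain ⟨g, hg⟩ := isConj_iff.1 (c.hard_all_t hV s hs2 hst)
  refine c.not_isConj_t_j ?_
  have h1 : orderOf (g⁻¹ * c.j * g) = 2 := by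
    have := orderOf_conj_eq g⁻¹ c.j
    rw [inv_inv] at this
    rw [this, hj2]
  have h2 : Commute (g⁻¹ * c.j * g) c.t := by
    have ht : c.t = g⁻¹ * s * g := by rw [← hg]; group
    show _ * _ = _ * _
    rw [ht]
    calc g⁻¹ * c.j * g * (g⁻¹ * s * g) = g⁻¹ * (c.j * s) * g := by group
      _ = g⁻¹ * (s * c.j) * g := by rw [hsj.eq]
      _ = _ := by group
  exact (c.hard_all_t hV _ h1 h2).trans (isConj_iff.2 ⟨g, by group⟩)

end Hard

/-- The two four-groups commute. -/
theorem exists_comm :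
    (∀ v ∈ fourA, ∀ v' ∈ fourA, Commute (c.ψ v) (c.j * c.ψ v' * c.j)) ∨
    (∀ v ∈ fourA, ∀ v' ∈ fourB, Commute (c.ψ v) (c.j * c.ψ v' * c.j)) := by
  rcases c.exists_comm_or with h | h | h
  · exact Or.inl h
  · exact Or.inr h
  · exact (c.hard_false h).elim

end Cfg

end Cfsg.Agent.AltEightThree
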