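/-
The embedding of `A₈` extending the one of `(S₃ × S₅)⁺`.
-/
import Cfsg.Agent.Lib.AltEightThree.Exist
import Cfsg.Agent.Lib.AltEightThree.Emb
import Cfsg.Agent.Lib.AltEightThree.Braid

set_option autoImplicit false
set_option maxRecDepth 100000
set_option synthInstance.maxSize 4000
set_option synthInstance.maxHeartbeats 400000
set_option linter.unusedSectionVars false

namespace Cfsg.Agent.AltEightThree

open Equiv Equiv.Perm

/-- The element `(0 1)(3 4)`. -/
def e3P : Pairs := mk (1, swap 0 1 * swap 3 4) (by decide)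

/-- The element `(5 6)(1 2)`. -/
def e6Q : Pairs := mk (swap 0 1, swap 1 2) (by decide)

/-- The conditions on the preimage of `(0 1)(4 5)`. -/
def Good (y : Pairs) : Prop :=
  y * y = 1 ∧ hP * y * hP = y * hP * y ∧ y * eP * y = eP * y * eP ∧ y * e6Q = e6Q * y ∧
    y * zP * y = zP⁻¹ ∧ ∀ k < 3, y * wP * y ≠ wP ^ k

instance : DecidablePred Good := fun y => by unfold Good; infer_instance

theorem good_A : Good (e6Q * (tP * uP)) := by decide +kernel

theorem good_B : Good (e6Q * mk (1, swap 0 4 * swap 1 2) (by decide)) := by decide +kernel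

theorem cent_zb : ∀ y : Pairs, y * zP = zP * y → y * bP = bP * y →
    ∃ k < 3, y = wP ^ k ∨ y = wP ^ k * aP := by
  decide +kernel

theorem no_b : ∀ k < 3, zP ^ k * bP * tP ≠ tP * (zP ^ k * bP) := by decide +kernel

namespace Cfg

variable {G : Type*} [Group G] [Finite G] (c : Cfg G)

theorem j_conj_pow (g : G) (k : ℕ) : c.j * g ^ k * c.j = (c.j * g * c.j) ^ k := by
  induction k with
  | zero => rw [pow_zero, pow_zero, mul_one, c.j_sq]
  | succ k ih => rw [pow_succ, pow_succ, c.j_mul, ih]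

/-- The pairs of elements `x`, `y` with `ψ x = j (ψ y) j`. -/
def Agrees (x y : Pairs) : Prop := c.ψ x = c.j * c.ψ y * c.j

theorem agrees_mul {x y x' y' : Pairs} (h : c.Agrees x y) (h' : c.Agrees x' y') :
    c.Agrees (x * x') (y * y') := by
  rw [Agrees, map_mul, map_mul, c.j_mul, ← h, ← h']

theorem agrees_inv {x y : Pairs} (h : c.Agrees x y) : c.Agrees x⁻¹ y⁻¹ := by
  rw [Agrees, map_inv, map_inv, h, mul_inv_rev, mul_inv_rev, c.j_inv, mul_assoc]

theorem agrees_zw : c.Agrees zP wP ∧ c.Agrees wP zP ∧ c.Agrees aP bP ∧ c.Agrees bP aP :=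
  ⟨c.j_w.symm, c.j_z.symm, c.j_b.symm, c.j_a.symm⟩

theorem agrees_e5 : c.Agrees eP eP := by
  obtain ⟨hz, hw, ha, hb⟩ := c.agrees_zw
  have hg := c.agrees_mul hz hw
  have h := c.agrees_mul (c.agrees_mul hg (c.agrees_mul ha hb)) (c.agrees_inv hg)
  rw [Agrees] at h ⊢
  rw [show zP * wP * (aP * bP) * (zP * wP)⁻¹ = eP by decide +kernel,
    show wP * zP * (bP * aP) * (wP * zP)⁻¹ = eP by decide +kernel] at h
  exact h

theorem agrees_e6 : c.Agrees e6P e6Q := by
  obtain ⟨hz, hw, ha, hb⟩ := c.agrees_zw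
  have hg := c.agrees_mul hw (c.agrees_mul hz hz)
  have h := c.agrees_mul (c.agrees_mul hg (c.agrees_mul ha hb)) (c.agrees_inv hg)
  rw [Agrees] at h ⊢
  rw [show wP * (zP * zP) * (aP * bP) * (wP * (zP * zP))⁻¹ = e6P by decide +kernel,
    show zP * (wP * wP) * (bP * aP) * (zP * (wP * wP))⁻¹ = e6Q by decide +kernel] at h
  exact h

theorem agrees_e3 : c.Agrees e3P hP := by
  obtain ⟨-, hw, ha, -⟩ := c.agrees_zw
  have h := c.agrees_mul (c.agrees_mul hw ha) (c.agrees_inv hw)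
  rw [Agrees] at h ⊢
  rw [show wP * aP * wP⁻¹ = e3P by decide +kernel,
    show zP * bP * zP⁻¹ = hP by decide +kernel] at h
  exact h

/-- A preimage of `(0 1)(4 5)`. -/
theorem exists_link : ∃ y : Pairs, Good y ∧ Commute c.t (c.j * c.ψ y * c.j) := by
  have key : ∀ v : Pairs, Commute c.t (c.j * c.ψ v * c.j) →
      Commute c.t (c.j * c.ψ (e6Q * v) * c.j) := fun v hv => by
    rw [map_mul, c.j_mul, ← c.agrees_e6]
    exact (c.commute_iff.2 (by decide +kernel)).mul_right hv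
  rcases c.exists_comm with h | h
  · exact ⟨_, good_A, key _ (h tP (by decide +kernel) _ (by decide +kernel))⟩
  · exact ⟨_, good_B, key _ (h tP (by decide +kernel) _ (by decide +kernel))⟩

section Link

variable {y : Pairs} (hy : Good y) (hyt : Commute c.t (c.j * c.ψ y * c.j))
include hy hyt

theorem braid : Braid (MulAut.conj c.t) (MulAut.conj (c.ψ e3P))
    (MulAut.conj (c.j * c.ψ y * c.j)) (MulAut.conj (c.ψ eP)) (MulAut.conj (c.ψ e6P))
    (c.ψ (cycP 0)) (c.ψ (cycP 1)) (c.ψ (cycP 2)) := by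
  obtain ⟨hy2, hy3, hy5, hy6, hyz, -⟩ := hy
  have invol : ∀ e : G, e * e = 1 → ∀ g, MulAut.conj e (MulAut.conj e g) = g := fun e he g => by
    rw [← MulAut.mul_apply, ← map_mul, he, map_one, MulAut.one_apply]
  have comm : ∀ e e' : G, Commute e e' → ∀ g, MulAut.conj e (MulAut.conj e' g)
      = MulAut.conj e' (MulAut.conj e g) := fun e e' h g => by
    rw [← MulAut.mul_apply, ← map_mul, h.eq, map_mul, MulAut.mul_apply]
  have braid : ∀ e e' : G, e * e' * e = e' * e * e' → ∀ g,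
      MulAut.conj e (MulAut.conj e' (MulAut.conj e g))
        = MulAut.conj e' (MulAut.conj e (MulAut.conj e' g)) := fun e e' h g => by
    simp only [← MulAut.mul_apply, ← map_mul, ← mul_assoc, h]
  have act : ∀ e a b : Pairs, e * a * e⁻¹ = b⁻¹ →
      MulAut.conj (c.ψ e) (c.ψ a) = (c.ψ b)⁻¹ := fun e a b h => by
    rw [MulAut.conj_apply, ← map_inv, ← map_mul, ← map_mul, h, map_inv]
  have hy2' : c.j * c.ψ y * c.j * (c.j * c.ψ y * c.j) = 1 := by
    rw [← c.j_mul, ← map_mul, hy2, map_one, mul_one, c.j_sq]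
  exact
  { s2 := invol _ c.t_sq
    s3 := invol _ (by rw [← map_mul, show e3P * e3P = 1 by decide +kernel, map_one])
    s4 := invol _ hy2'
    s5 := invol _ (by rw [← map_mul, show eP * eP = 1 by decide +kernel, map_one])
    s6 := invol _ (by rw [← map_mul, show e6P * e6P = 1 by decide +kernel, map_one])
    b34 := braid _ _ (by
      rw [c.agrees_e3, ← c.j_mul, ← c.j_mul, ← c.j_mul, ← c.j_mul, ← map_mul, ← map_mul,
        ← map_mul, ← map_mul, hy3])
    b45 := braid _ _ (by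
      rw [c.agrees_e5, ← c.j_mul, ← c.j_mul, ← c.j_mul, ← c.j_mul, ← map_mul, ← map_mul,
        ← map_mul, ← map_mul, hy5])
    b56 := braid _ _ (by
      rw [← map_mul, ← map_mul, ← map_mul, ← map_mul,
        show eP * e6P * eP = e6P * eP * e6P by decide +kernel])
    c24 := comm _ _ hyt
    c25 := comm _ _ (c.commute_iff.2 (by decide +kernel))
    c26 := comm _ _ (c.commute_iff.2 (by decide +kernel))
    c35 := comm _ _ (c.commute_iff.2 (by decide +kernel))
    c36 := comm _ _ (c.commute_iff.2 (by decide +kernel))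
    c46 := comm _ _ (c.agrees_e6.symm ▸ c.j_commute (c.commute_iff.2 hy6))
    a22 := act _ _ _ (by decide +kernel)
    a24 := act _ _ _ (by decide +kernel)
    a32 := act _ _ _ (by decide +kernel)
    a33 := act _ _ _ (by decide +kernel)
    a42 := by
      rw [show cycP 0 = wP by decide +kernel, show c.ψ wP = c.j * c.ψ zP * c.j from c.j_z.symm,
        MulAut.conj_apply, inv_eq_of_mul_eq_one_right hy2', ← c.j_mul, ← c.j_mul, ← map_mul,
        ← map_mul, hyz, map_inv, mul_inv_rev, mul_inv_rev, c.j_inv, mul_assoc]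
    a52 := act _ _ _ (by decide +kernel)
    a53 := act _ _ _ (by decide +kernel)
    a54 := act _ _ _ (by decide +kernel)
    a62 := act _ _ _ (by decide +kernel)
    a63 := act _ _ _ (by decide +kernel)
    a64 := act _ _ _ (by decide +kernel)
    cube := by rw [← map_pow, show cycP 0 ^ 3 = 1 by decide +kernel, map_one]
    pair := by rw [← map_mul, ← map_pow, show (cycP 0 * cycP 1) ^ 2 = 1 by decide +kernel, map_one] }

theorem cent_x {g : G} (h2 : Commute g (c.ψ (cycP 0))) (h3 : Commute g (c.ψ (cycP 1)))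
    (h4 : Commute g (c.ψ (cycP 2))) : ∃ k < 3, g = c.z ^ k := by
  have hw : Commute g c.w := by
    rwa [show cycP 0 = wP by decide +kernel] at h2
  have ht : Commute g c.t := by
    show Commute g (c.ψ tP)
    rw [show tP = cycP 0 * cycP 1 * cycP 1 * cycP 0 by decide +kernel, map_mul, map_mul, map_mul]
    exact ((h2.mul_right h3).mul_right h3).mul_right h2
  have ha : Commute g (c.ψ aP) := by
    rw [show aP = cycP 0 * cycP 1 * cycP 2 * cycP 2 * cycP 1 by decide +kernel,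
      map_mul, map_mul, map_mul, map_mul]
    exact (((h2.mul_right h3).mul_right h4).mul_right h4).mul_right h3
  obtain ⟨q, rfl⟩ := c.exists_of_commute_w hw
  have hqz : q * zP = zP * q := c.commute_iff.1 (by
    have := c.j_commute hw
    rwa [c.j_cancel, c.j_w] at this)
  have hqb : q * bP = bP * q := c.commute_iff.1 (by
    have := c.j_commute ha
    rwa [c.j_cancel, c.j_a] at this)
  obtain ⟨k, hk, h | h⟩ := AltEightThree.cent_zb q hqz hqb
  · exact ⟨k, hk, by rw [h, map_pow, c.j_conj_pow, c.j_w]⟩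
  · exfalso
    rw [h, map_mul, c.j_mul, map_pow, c.j_conj_pow, c.j_w, c.j_a, ← map_pow, ← map_mul] at ht
    exact no_b k hk (c.commute_iff.1 ht)

theorem cent_all {g : G}
    (hg : ∀ i, Commute g (braidX (MulAut.conj (c.j * c.ψ y * c.j)) (MulAut.conj (c.ψ eP))
      (MulAut.conj (c.ψ e6P)) (c.ψ (cycP 0)) (c.ψ (cycP 1)) (c.ψ (cycP 2)) i)) : g = 1 := by
  obtain ⟨k, hk, rfl⟩ := c.cent_x hy hyt (hg 0) (hg 1) (hg 2)
  obtain ⟨-, -, r4, -, -⟩ := (c.braid hy hyt).acts
  have hmove : ∀ i, Commute (MulAut.conj (c.j * c.ψ y * c.j) (c.z ^ k))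
      (braidX (MulAut.conj (c.j * c.ψ y * c.j)) (MulAut.conj (c.ψ eP))
      (MulAut.conj (c.ψ e6P)) (c.ψ (cycP 0)) (c.ψ (cycP 1)) (c.ψ (cycP 2)) (swap 2 3 i)) := fun i => by
    have := (hg i).map (MulAut.conj (c.j * c.ψ y * c.j))
    rw [r4] at this
    exact Commute.inv_right_iff.1 this
  by_contra hne
  obtain ⟨m, -, hm⟩ := c.cent_x hy hyt (hmove 0) (hmove 1) (hmove 3)
  obtain ⟨hy2, -, -, -, -, hyw⟩ := hy
  have hk0 : k ≠ 0 := fun e => hne (by rw [e, pow_zero])
  have h1 : MulAut.conj (c.j * c.ψ y * c.j) (c.z ^ k) = c.j * c.ψ (y * wP * y) ^ k * c.j := by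
    rw [map_pow, c.j_conj_pow, show c.z = c.j * c.ψ wP * c.j from c.j_w.symm, MulAut.conj_apply]
    congr 1
    rw [mul_inv_rev, mul_inv_rev, c.j_inv, ← map_inv, inv_eq_of_mul_eq_one_right hy2, ← mul_assoc c.j,
      ← c.j_mul, ← c.j_mul, ← map_mul, ← map_mul]
  rw [h1] at hm
  have h2 : c.ψ ((y * wP * y) ^ k) = c.ψ (wP ^ m) := by
    have := congrArg (fun a => c.j * a * c.j) hm
    simp only [c.j_cancel] at this
    rw [map_pow, this, c.j_conj_pow, c.j_z, map_pow]
  have h3 : (y * wP * y) ^ k = wP ^ m := c.inj h2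
  have h4 : (y * wP * y) ^ 3 = 1 := by
    rw [show y * wP * y = y * wP * y⁻¹ by rw [inv_eq_of_mul_eq_one_right hy2], conj_pow,
      show wP ^ 3 = 1 by decide +kernel, mul_one, mul_inv_cancel]
  have h5 : (y * wP * y) ^ (k * k) = wP ^ (m * k) := by rw [pow_mul, h3, ← pow_mul]
  rw [← Nat.mod_add_div (k * k) 3, pow_add, pow_mul _ 3, h4, one_pow, mul_one,
    show k * k % 3 = 1 by interval_cases k <;> simp_all, pow_one,
    ← Nat.mod_add_div (m * k) 3, pow_add, pow_mul _ 3, show wP ^ 3 = 1 by decide +kernel,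
    one_pow, mul_one] at h5
  exact hyw _ (Nat.mod_lt _ (by norm_num)) h5

end Link

/-- The embedding of `A₈`. -/
theorem exists_phi : ∃ φ : A8 →* G, Function.Injective φ ∧ ∀ x, φ (emb x) = c.ψ x := by
  obtain ⟨y, hy, hyt⟩ := c.exists_link
  obtain ⟨h3, h2⟩ := (c.braid hy hyt).rels
  obtain ⟨φ, hφ, -⟩ := exists_hom8 _ h3 h2
  have hsimple : IsSimpleGroup A8 := alternatingGroup.isSimpleGroup (by simp)
  have hinj : Function.Injective φ := by
    rcases hsimple.eq_bot_or_eq_top_of_normal φ.ker inferInstance with h | h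
    · exact (MonoidHom.ker_eq_bot_iff φ).1 h
    · exfalso
      have h0 : φ (cyc8 0) = 1 := φ.mem_ker.1 (h ▸ Subgroup.mem_top _)
      rw [hφ] at h0
      exact c.map_ne_one (by decide +kernel : cycP 0 ≠ 1) h0
  refine ⟨φ, hinj, fun x => ?_⟩
  have key : ∀ (e : Pairs) (σ : Perm (Fin 6)),
      (∀ i, emb e * cyc8 i * (emb e)⁻¹ = (cyc8 (σ i))⁻¹) →
      (∀ i, MulAut.conj (c.ψ e) (braidX (MulAut.conj (c.j * c.ψ y * c.j)) (MulAut.conj (c.ψ eP))
        (MulAut.conj (c.ψ e6P)) (c.ψ (cycP 0)) (c.ψ (cycP 1)) (c.ψ (cycP 2)) i) =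
        (braidX (MulAut.conj (c.j * c.ψ y * c.j)) (MulAut.conj (c.ψ eP))
        (MulAut.conj (c.ψ e6P)) (c.ψ (cycP 0)) (c.ψ (cycP 1)) (c.ψ (cycP 2)) (σ i))⁻¹) →
      φ (emb e) = c.ψ e := by
    intro e σ h1 h2
    refine (inv_mul_eq_one.1 (c.cent_all hy hyt (g := (c.ψ e)⁻¹ * φ (emb e)) fun i => ?_)).symm
    have a1 := congrArg φ (h1 i)
    rw [map_mul, map_mul, map_inv, map_inv, hφ, hφ, ← h2 i, MulAut.conj_apply] at a1
    show _ * _ = _ * _
    set X := braidX (MulAut.conj (c.j * c.ψ y * c.j)) (MulAut.conj (c.ψ eP))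
      (MulAut.conj (c.ψ e6P)) (c.ψ (cycP 0)) (c.ψ (cycP 1)) (c.ψ (cycP 2)) i
    calc (c.ψ e)⁻¹ * φ (emb e) * X
        = (c.ψ e)⁻¹ * (φ (emb e) * X * (φ (emb e))⁻¹) * φ (emb e) := by group
      _ = (c.ψ e)⁻¹ * (c.ψ e * X * (c.ψ e)⁻¹) * φ (emb e) := by rw [a1]
      _ = X * ((c.ψ e)⁻¹ * φ (emb e)) := by group
  obtain ⟨-, -, -, r5, r6⟩ := (c.braid hy hyt).acts
  have h5 := key eP (swap 3 4) (by decide +kernel) r5
  have h6 := key e6P (swap 4 5) (by decide +kernel) r6
  have htop := pairs_eq_top ((φ.comp emb).eqLocus c.ψ)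
    (fun i => by
      show φ (emb (cycP i)) = c.ψ (cycP i)
      rw [emb_cycP, hφ]
      fin_cases i <;> rfl)
    h5 h6
  exact (htop ▸ Subgroup.mem_top x : x ∈ (φ.comp emb).eqLocus c.ψ)

end Cfg

end Cfsg.Agent.AltEightThree
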