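/-
The image of `A₈` and the elements whose centralizers lie in it.
-/
import Cfsg.Agent.Lib.AltEightThree.Hom
import Cfsg.Agent.Lib.AltEightThree.AltFacts

set_option autoImplicit false
set_option maxRecDepth 100000
set_option synthInstance.maxSize 4000
set_option synthInstance.maxHeartbeats 400000
set_option linter.unusedSectionVars false

namespace Cfsg.Agent.AltEightThree

open Equiv Equiv.Perm

/-- The element `(0 1 2)(5 6 7)`. -/
def D8' : A8 := mk8 (ofImg [1, 2, 0, 3, 4, 6, 7, 5] [2, 0, 1, 3, 4, 7, 5, 6] (by decide +kernel))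
  (by decide +kernel)

/-- The element `(0 5)(1 6)(2 7)(3 4)`. -/
def X8 : A8 := mk8 (ofImg [5, 6, 7, 4, 3, 0, 1, 2] [5, 6, 7, 4, 3, 0, 1, 2] (by decide +kernel))
  (by decide +kernel)

/-- An element conjugating `(0 1 2)(5 6 7)` to `(0 2 4)(1 3 5)`. -/
def G8 : A8 := mk8 (ofImg [0, 2, 4, 7, 6, 1, 3, 5] [0, 5, 1, 6, 2, 7, 4, 3] (by decide +kernel))
  (by decide +kernel)

theorem emb_tP : emb tP = T8 := Subtype.ext (imgs_injective (by decide +kernel))
theorem emb_uP : emb uP = U8 := Subtype.ext (imgs_injective (by decide +kernel))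
theorem emb_eP : emb eP = E8' := Subtype.ext (imgs_injective (by decide +kernel))
theorem emb_zw : emb (zP * wP) = D8' := Subtype.ext (imgs_injective (by decide +kernel))

theorem D8'_swap : X8 * emb zP * X8⁻¹ = emb wP := Subtype.ext (imgs_injective (by decide +kernel))

theorem G8_conj : G8 * D8' * G8⁻¹ = Y8 := Subtype.ext (imgs_injective (by decide +kernel))

theorem orderOf_D8' : orderOf D8' = 3 := by
  refine orderOf_eq_prime (p := 3) ?_ ?_
  · rw [pow_succ, pow_two]
    exact Subtype.ext (imgs_injective (by decide +kernel))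
  · intro h
    have := congrArg (fun g : A8 => imgs (g : Perm (Fin 8))) h
    revert this
    decide +kernel

theorem fourL_card (π : A8) : fourL (imgs (π : Perm (Fin 8))) = true ↔
    ((Finset.univ : Finset (Fin 8)).filter fun i => (π : Perm (Fin 8)) i = i).card = 4 := by
  have h : ((List.range 8).countP fun i => Nat.beq (at' (imgs (π : Perm (Fin 8))) i) i) =
      ((Finset.univ : Finset (Fin 8)).filter fun i => (π : Perm (Fin 8)) i = i).card := by
    rw [show List.range 8 = (List.finRange 8).map Fin.val by decide +kernel, List.countP_map,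
      List.countP_congr (q := fun i : Fin 8 => decide ((π : Perm (Fin 8)) i = i)) (fun i _ => by
        simp only [Function.comp_apply, at'_imgs, decide_eq_true_eq]
        exact ⟨fun h => Fin.ext (Nat.eq_of_beq_eq_true h), fun h => by rw [h]; exact Nat.beq_refl _⟩),
      List.countP_eq_length_filter]
    rfl
  rw [fourL, h]
  exact ⟨Nat.eq_of_beq_eq_true, fun h => by rw [h]; rfl⟩

theorem involution_class {π : A8} (h2 : π * π = 1) (h1 : π ≠ 1) :
    (IsConj T8 π ∧ fourL (imgs (π : Perm (Fin 8))) = true) ∨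
      (IsConj J8 π ∧ fourL (imgs (π : Perm (Fin 8))) = false) := by
  have hprime : ∀ a : A8, a * a = 1 → a ≠ 1 → (orderOf (a : Perm (Fin 8))).Prime := by
    intro a ha ha1
    rw [orderOf_submonoid, orderOf_eq_prime (by rw [pow_two]; exact ha) ha1]
    exact Nat.prime_two
  have htype : ∀ a : A8, a * a = 1 → a ≠ 1 → ∃ n, (a : Perm (Fin 8)).cycleType = Multiset.replicate n 2 ∧
      (a : Perm (Fin 8)).support.card = 2 * n ∧ (n = 2 ∨ n = 4) := by
    intro a ha ha1
    obtain ⟨n, hn⟩ := cycleType_prime_order (hprime a ha ha1)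
    rw [orderOf_submonoid, orderOf_eq_prime (by rw [pow_two]; exact ha) ha1] at hn
    have hs := sum_cycleType (a : Perm (Fin 8))
    rw [hn, Multiset.sum_replicate, smul_eq_mul] at hs
    have hle : (a : Perm (Fin 8)).support.card ≤ 8 :=
      (Finset.card_le_univ _).trans (by simp)
    have hsign : sign (a : Perm (Fin 8)) = 1 := a.2
    rw [sign_of_cycleType, hn, Multiset.sum_replicate, Multiset.card_replicate, smul_eq_mul] at hsign
    refine ⟨n + 1, hn, by omega, ?_⟩
    rcases Nat.even_or_odd ((n + 1) * 2 + (n + 1)) with he | ho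
    · obtain ⟨k, hk⟩ := he
      omega
    · rw [ho.neg_one_pow] at hsign
      exact absurd hsign (by decide)
  have hconj : ∀ a : A8, ∀ (n : ℕ) (b : A8),
      (a : Perm (Fin 8)).cycleType = Multiset.replicate n 2 →
      (b : Perm (Fin 8)).cycleType = Multiset.replicate n 2 →
      swap (0 : Fin 8) 1 * (a : Perm (Fin 8)) * (swap (0 : Fin 8) 1)⁻¹ = (a : Perm (Fin 8)) → IsConj a b := by
    intro a n b ha hb hsw
    obtain ⟨g, hg⟩ := isConj_iff.1 (isConj_iff_cycleType_eq.2 (ha.trans hb.symm))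
    rcases Int.units_eq_one_or (sign g) with hs | hs
    · exact isConj_iff.2 ⟨mk8 g hs, Subtype.ext hg⟩
    · refine isConj_iff.2 ⟨mk8 (g * swap (0 : Fin 8) 1) (by rw [map_mul, hs, sign_swap (by decide)]; rfl),
        Subtype.ext ?_⟩
      show g * swap (0 : Fin 8) 1 * (a : Perm (Fin 8)) * (g * swap (0 : Fin 8) 1)⁻¹ = (b : Perm (Fin 8))
      rw [show g * swap (0 : Fin 8) 1 * (a : Perm (Fin 8)) * (g * swap (0 : Fin 8) 1)⁻¹
        = g * (swap (0 : Fin 8) 1 * (a : Perm (Fin 8)) * (swap (0 : Fin 8) 1)⁻¹) * g⁻¹ by group, hsw, hg]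
  have hfour : ∀ n, (π : Perm (Fin 8)).support.card = 2 * n →
      (fourL (imgs (π : Perm (Fin 8))) = true ↔ n = 2) := by
    intro n hn
    rw [fourL_card]
    have h := Finset.card_filter_add_card_filter_not (s := (Finset.univ : Finset (Fin 8)))
      (fun i => (π : Perm (Fin 8)) i = i)
    rw [Finset.card_univ, Fintype.card_fin] at h
    have e : ((Finset.univ : Finset (Fin 8)).filter fun i => ¬ (π : Perm (Fin 8)) i = i)
        = (π : Perm (Fin 8)).support := by
      ext i; simp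
    rw [e, hn] at h
    omega
  have hT2 : T8 * T8 = 1 := Subtype.ext (imgs_injective (by decide +kernel))
  have hJ2 : J8 * J8 = 1 := Subtype.ext (imgs_injective (by decide +kernel))
  have hTs : (T8 : Perm (Fin 8)).support.card = 4 := by decide +kernel
  have hJs : (J8 : Perm (Fin 8)).support.card = 8 := by decide +kernel
  have hT1 : T8 ≠ 1 := fun e => by rw [e] at hTs; simp at hTs
  have hJ1 : J8 ≠ 1 := fun e => by rw [e] at hJs; simp at hJs
  obtain ⟨n, hn, hns, hn24⟩ := htype π h2 h1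
  obtain ⟨m, hm, hms, -⟩ := htype T8 hT2 hT1
  obtain ⟨k, hk, hks, -⟩ := htype J8 hJ2 hJ1
  have hm2 : m = 2 := by omega
  have hk4 : k = 4 := by omega
  subst hm2 hk4
  rcases hn24 with rfl | rfl
  · exact Or.inl ⟨hconj T8 _ π hm hn (imgs_injective (by decide +kernel)), (hfour 2 hns).2 rfl⟩
  · refine Or.inr ⟨hconj J8 _ π hk hn (imgs_injective (by decide +kernel)), ?_⟩
    rw [Bool.eq_false_iff]
    exact fun h => absurd ((hfour 4 hns).1 h) (by norm_num)

/-- The configuration with an embedding of `A₈`. -/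
structure Ext (G : Type*) [Group G] extends Cfg G where
  φ : A8 →* G
  φ_inj : Function.Injective φ
  φ_emb : ∀ x, φ (emb x) = toCfg.ψ x

theorem Cfg.exists_ext {G : Type*} [Group G] [Finite G] (c : Cfg G) : Nonempty (Ext G) :=
  let ⟨φ, h1, h2⟩ := c.exists_phi
  ⟨⟨c, φ, h1, h2⟩⟩

namespace Ext

variable {G : Type*} [Group G] (d : Ext G)

/-- The image of `A₈`. -/
abbrev G0 : Subgroup G := d.φ.range

theorem commute_iff {a b : A8} : Commute (d.φ a) (d.φ b) ↔ a * b = b * a :=
  ⟨fun h => d.φ_inj (by rw [map_mul, map_mul]; exact h.eq),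
    fun h => Commute.map (show Commute a b from h) d.φ⟩

theorem conj_iff {a b x : A8} : d.φ a * d.φ x * (d.φ a)⁻¹ = d.φ b ↔ a * x = b * a := by
  rw [← map_inv, ← map_mul, ← map_mul, d.φ_inj.eq_iff, mul_inv_eq_iff_eq_mul]

theorem t_eq : d.t = d.φ T8 := by rw [← emb_tP, d.φ_emb]
theorem u_eq : d.u = d.φ U8 := by rw [← emb_uP, d.φ_emb]

theorem range_le : d.ψ.range ≤ d.G0 := by
  rintro _ ⟨x, rfl⟩
  exact ⟨emb x, d.φ_emb x⟩

theorem mem_of_commute_z {g : G} (h : Commute g d.z) : g ∈ d.G0 :=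
  d.range_le (d.toCfg.mem_of_commute h)

theorem transfer {a b p : A8} (hp : p * a * p⁻¹ = b)
    (h : ∀ g, Commute g (d.φ a) → g ∈ d.G0) {g : G} (hg : Commute g (d.φ b)) : g ∈ d.G0 := by
  have hg' : Commute ((d.φ p)⁻¹ * g * d.φ p) (d.φ a) := by
    have hb : d.φ b = d.φ p * d.φ a * (d.φ p)⁻¹ := by rw [← hp, map_mul, map_mul, map_inv]
    rw [hb] at hg
    calc (d.φ p)⁻¹ * g * d.φ p * d.φ a
        = (d.φ p)⁻¹ * (g * (d.φ p * d.φ a * (d.φ p)⁻¹)) * d.φ p := by group
      _ = (d.φ p)⁻¹ * (d.φ p * d.φ a * (d.φ p)⁻¹ * g) * d.φ p := by rw [hg.eq]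
      _ = d.φ a * ((d.φ p)⁻¹ * g * d.φ p) := by group
  have := h _ hg'
  have h2 : g = d.φ p * ((d.φ p)⁻¹ * g * d.φ p) * (d.φ p)⁻¹ := by group
  rw [h2]
  exact d.G0.mul_mem (d.G0.mul_mem ⟨p, rfl⟩ this) (d.G0.inv_mem ⟨p, rfl⟩)

theorem mem_of_commute_w {g : G} (h : Commute g d.w) : g ∈ d.G0 := by
  refine d.transfer D8'_swap (fun g hg => d.mem_of_commute_z (by rwa [d.φ_emb] at hg)) (g := g) ?_
  rw [d.φ_emb]
  exact h

variable [Finite G]

theorem mem_of_commute_zw {g : G} (h : Commute g (d.φ D8')) : g ∈ d.G0 := by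
  set C := Subgroup.centralizer ({d.φ D8'} : Set G) with hC
  have hcard : Nat.card C = 18 := by
    rw [hC, ← emb_zw, d.φ_emb]; exact d.card_zw
  have hcommz : (emb zP) * D8' = D8' * emb zP := Subtype.ext (imgs_injective (by decide +kernel))
  have hcommw : (emb wP) * D8' = D8' * emb wP := Subtype.ext (imgs_injective (by decide +kernel))
  have hcommx : X8 * D8' = D8' * X8 := Subtype.ext (imgs_injective (by decide +kernel))
  let f : Fin 3 × Fin 3 × Fin 2 → A8 := fun q => emb zP ^ (q.1 : ℕ) * emb wP ^ (q.2.1 : ℕ) * X8 ^ (q.2.2 : ℕ)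
  have hf : ∀ q, f q * D8' = D8' * f q := fun q =>
    ((((show Commute (emb zP) D8' from hcommz).pow_left _).mul_left
      ((show Commute (emb wP) D8' from hcommw).pow_left _)).mul_left
      ((show Commute X8 D8' from hcommx).pow_left _)).eq
  let F : Fin 3 × Fin 3 × Fin 2 → C := fun q =>
    ⟨d.φ (f q), Subgroup.mem_centralizer_singleton_iff.2 (d.commute_iff.2 (hf q)).eq⟩
  have hinj : Function.Injective F := by
    intro a b hab
    have h1 : f a = f b := d.φ_inj (congrArg Subtype.val hab)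
    have h2 := congrArg (fun g : A8 => imgs (g : Perm (Fin 8))) h1
    have key : Function.Injective (fun q => imgs ((f q : A8) : Perm (Fin 8))) := by
      decide +kernel
    exact key h2
  have hbij : Function.Bijective F := hinj.bijective_of_nat_card_le (by
    rw [hcard, Nat.card_eq_fintype_card, Fintype.card_prod, Fintype.card_prod, Fintype.card_fin,
      Fintype.card_fin])
  obtain ⟨q, hq⟩ := hbij.2 ⟨g, Subgroup.mem_centralizer_singleton_iff.2 h.eq⟩
  exact ⟨f q, congrArg Subtype.val hq⟩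

theorem mem_of_commute_Y {g : G} (h : Commute g (d.φ Y8)) : g ∈ d.G0 :=
  d.transfer G8_conj (fun _ hg => d.mem_of_commute_zw hg) h

theorem isConj_of_A8 {a b : A8} (h : IsConj a b) : IsConj (d.φ a) (d.φ b) := by
  obtain ⟨g, hg⟩ := isConj_iff.1 h
  exact isConj_iff.2 ⟨d.φ g, by rw [← hg, map_mul, map_mul, map_inv]⟩

theorem not_isConj_t_J : ¬ IsConj d.t (d.φ J8) := by
  intro h
  obtain ⟨g, hg⟩ := isConj_iff.1 h.symm
  have hcom : Commute (d.φ Y8) (d.φ J8) :=
    d.commute_iff.2 (Subtype.ext (imgs_injective (by decide +kernel)))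
  have hx : Commute (g * d.φ Y8 * g⁻¹) d.t := by
    have := hcom.map (MulAut.conj g)
    simp only [MulAut.conj_apply, hg] at this
    exact this
  have h3 : orderOf (g * d.φ Y8 * g⁻¹) = 3 := by
    rw [orderOf_conj_eq, orderOf_injective _ d.φ_inj, ← G8_conj, orderOf_conj_eq, orderOf_D8']
  have hzw : IsConj (d.ψ (zP * wP)) (d.φ Y8) := by
    rw [← d.φ_emb, emb_zw]
    exact d.isConj_of_A8 (isConj_iff.2 ⟨G8, G8_conj⟩)
  exact d.not_isConj_z_zw ((d.three_cent_t hx h3).trans
    ((isConj_iff.2 ⟨g, rfl⟩ : IsConj (d.φ Y8) _).symm.trans hzw.symm))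

theorem isConj_class {π : A8} (h2 : π * π = 1) (h1 : π ≠ 1) :
    (IsConj T8 π ∧ fourL (imgs (π : Perm (Fin 8))) = true) ∨
      (IsConj J8 π ∧ fourL (imgs (π : Perm (Fin 8))) = false) := by
  obtain ⟨h, hf⟩ | ⟨h, hf⟩ := involution_class h2 h1
  · exact Or.inl ⟨h, hf⟩
  · exact Or.inr ⟨h, hf⟩

theorem isConj_t_four {π : A8} (h2 : π * π = 1) (hf : fourL (imgs (π : Perm (Fin 8))) = true) :
    IsConj d.t (d.φ π) := by
  by_cases h1 : π = 1
  · exfalso
    subst h1
    revert hf
    decide +kernel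
  rcases isConj_class h2 h1 with ⟨h, -⟩ | ⟨-, h⟩
  · rw [d.t_eq]; exact d.isConj_of_A8 h
  · rw [hf] at h; exact absurd h (by decide)

theorem four_of_isConj {π : A8} (h : IsConj d.t (d.φ π)) :
    π * π = 1 ∧ fourL (imgs (π : Perm (Fin 8))) = true := by
  obtain ⟨g, hg⟩ := isConj_iff.1 h
  have h2 : π * π = 1 := d.φ_inj (by
    rw [map_mul, map_one, ← hg, ← pow_two, conj_pow, pow_two, d.t_sq, mul_one, mul_inv_cancel])
  have h1 : π ≠ 1 := fun e => by
    rw [e, map_one, conj_eq_one_iff] at hg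
    exact d.map_ne_one (by decide +kernel : tP ≠ 1) hg
  rcases isConj_class h2 h1 with ⟨-, hf⟩ | ⟨hj, -⟩
  · exact ⟨h2, hf⟩
  · exact absurd (h.trans (d.isConj_of_A8 hj).symm) d.not_isConj_t_J

end Ext

end Cfsg.Agent.AltEightThree
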