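/-
The centralizer of `t = (0 1)(2 3)`: its structure modulo `⟨t⟩`.
-/
import Cfsg.Agent.Lib.AltEightThree.Ext
import Cfsg.Agent.Lib.Coprime.InvolutionEigen
import Cfsg.Agent.Lib.ZStar.Apply
import Cfsg.Agent.Lib.ZStar.Unique
import Cfsg.Agent.Lib.Cores.Basic

set_option autoImplicit false
set_option maxRecDepth 100000
set_option synthInstance.maxSize 4000
set_option synthInstance.maxHeartbeats 400000
set_option linter.unusedSectionVars false

namespace Cfsg.Agent.AltEightThree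

open Equiv Equiv.Perm

/-- The commutator of a list of images of order three with an involution. -/
def cubeComm (l s : List ℕ) : List ℕ := compL (compL l s) (compL (compL l l) s)

/-- The check in `normV_cube`. -/
def cubeCheck (l : List ℕ) : Bool :=
  !eqL (compL l (compL l l)) (List.range 8) || eqL l (List.range 8) ||
    [[0, 1, 2, 3, 5, 4, 7, 6], [0, 1, 2, 3, 6, 7, 4, 5]].any fun s =>
      twoL (cubeComm l s) && !eqL (cubeComm l s) (List.range 8) &&
        !eqL (cubeComm l s) [1, 0, 3, 2, 4, 5, 6, 7]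

/-- The check in `normV_exp`. -/
def expCheck (l : List ℕ) : Bool := twoL (compL l (compL l l))

/-- The stabilizer of `⟨T8, U8⟩` and `{T8}` has exponent dividing twenty-four. -/
theorem normV_exp {π : A8} (hT : π * T8 = T8 * π)
    (hU : π * U8 = U8 * π ∨ π * U8 = T8 * U8 * π) : (π ^ 3) ^ 8 = 1 := by
  have h : expCheck (imgs (π : Perm (Fin 8))) = true := by
    rcases hU with hU | hU
    all_goals
      have hcs := cs_two hT hU
      simp only [img_T, img_U, img_TU] at hcs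
      exact of_searchAll (by decide +kernel) _ π.2 hcs
  rw [expCheck, compL_imgs, compL_imgs, show (π : Perm (Fin 8)) * ((π : Perm (Fin 8)) * π) =
    ((π ^ 3 : A8) : Perm (Fin 8)) by simp only [pow_succ, pow_zero, one_mul, mul_assoc, Subgroup.coe_mul]] at h
  exact twoL_iff.1 h

/-- An element of order three of the stabilizer of `⟨T8, U8⟩` and `{T8}` moves `S8` or `R8` by a
two-element outside `⟨T8⟩`. -/
theorem normV_cube {π : A8} (hT : π * T8 = T8 * π)
    (hU : π * U8 = U8 * π ∨ π * U8 = T8 * U8 * π) (h3 : π ^ 3 = 1) :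
    π = 1 ∨ ∃ s ∈ [S8, R8], (π * s * π⁻¹ * s⁻¹) ^ 8 = 1 ∧ π * s * π⁻¹ * s⁻¹ ≠ 1 ∧
      π * s * π⁻¹ * s⁻¹ ≠ T8 := by
  have h : cubeCheck (imgs (π : Perm (Fin 8))) = true := by
    rcases hU with hU | hU
    all_goals
      have hcs := cs_two hT hU
      simp only [img_T, img_U, img_TU] at hcs
      exact of_searchAll (by decide +kernel) _ π.2 hcs
  have e3 : compL (imgs (π : Perm (Fin 8))) (compL (imgs (π : Perm (Fin 8))) (imgs (π : Perm (Fin 8))))
      = List.range 8 := by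
    rw [compL_imgs, compL_imgs, ← imgs_one, show (π : Perm (Fin 8)) * ((π : Perm (Fin 8)) * π) =
      ((π ^ 3 : A8) : Perm (Fin 8)) by simp only [pow_succ, pow_zero, one_mul, mul_assoc, Subgroup.coe_mul],
      h3]
    rfl
  rw [cubeCheck, e3, eqL_refl, Bool.not_true, Bool.false_or, Bool.or_eq_true] at h
  rcases h with h | h
  · exact Or.inl (Subtype.ext (imgs_injective ((eqL_eq h).trans imgs_one.symm)))
  refine Or.inr ?_
  have hinv : π⁻¹ = π * π := inv_eq_of_mul_eq_one_right (by rw [← mul_assoc, ← pow_two, ← pow_succ, h3])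
  have key : ∀ s : A8, s * s = 1 →
      (twoL (cubeComm (imgs (π : Perm (Fin 8))) (imgs (s : Perm (Fin 8)))) &&
        !eqL (cubeComm (imgs (π : Perm (Fin 8))) (imgs (s : Perm (Fin 8)))) (List.range 8) &&
        !eqL (cubeComm (imgs (π : Perm (Fin 8))) (imgs (s : Perm (Fin 8)))) [1, 0, 3, 2, 4, 5, 6, 7])
          = true →
      (π * s * π⁻¹ * s⁻¹) ^ 8 = 1 ∧ π * s * π⁻¹ * s⁻¹ ≠ 1 ∧ π * s * π⁻¹ * s⁻¹ ≠ T8 := by
    intro s hs h
    have e : cubeComm (imgs (π : Perm (Fin 8))) (imgs (s : Perm (Fin 8))) =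
        imgs ((π * s * π⁻¹ * s⁻¹ : A8) : Perm (Fin 8)) := by
      rw [cubeComm, compL_imgs, compL_imgs, compL_imgs, compL_imgs, hinv,
        inv_eq_of_mul_eq_one_right hs]
      simp only [Subgroup.coe_mul, mul_assoc]
    rw [e, Bool.and_eq_true, Bool.and_eq_true, Bool.not_eq_true', Bool.not_eq_true', ← img_T] at h
    refine ⟨twoL_iff.1 h.1.1, fun h' => ?_, fun h' => ?_⟩
    · have h2 := h.1.2
      rw [h', show ((1 : A8) : Perm (Fin 8)) = 1 from rfl, imgs_one, eqL_refl] at h2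
      exact absurd h2 (by decide)
    · have h2 := h.2
      rw [h', eqL_refl] at h2
      exact absurd h2 (by decide)
  rw [List.any_eq_true] at h
  obtain ⟨l, hl, h⟩ := h
  simp only [List.mem_cons, List.not_mem_nil, or_false] at hl
  rcases hl with rfl | rfl
  · rw [← img_S] at h
    exact ⟨S8, by simp, key S8 (Subtype.ext (imgs_injective (by decide +kernel))) h⟩
  · rw [← img_R] at h
    exact ⟨R8, by simp, key R8 (Subtype.ext (imgs_injective (by decide +kernel))) h⟩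

theorem T8_mul_U8 : T8 * U8 = U8 * T8 := Subtype.ext (imgs_injective (by decide +kernel))
theorem T8_sq : T8 * T8 = 1 := Subtype.ext (imgs_injective (by decide +kernel))
theorem U8_sq : U8 * U8 = 1 := Subtype.ext (imgs_injective (by decide +kernel))
theorem S8_sq : S8 * S8 = 1 := Subtype.ext (imgs_injective (by decide +kernel))
theorem S8_T8 : S8 * T8 = T8 * S8 := Subtype.ext (imgs_injective (by decide +kernel))
theorem R8_T8 : R8 * T8 = T8 * R8 := Subtype.ext (imgs_injective (by decide +kernel))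
theorem S8_U8 : S8 * U8 = U8 * S8 := Subtype.ext (imgs_injective (by decide +kernel))
theorem R8_U8 : R8 * U8 = U8 * R8 := Subtype.ext (imgs_injective (by decide +kernel))

namespace Ext

variable {G : Type*} [Group G] (d : Ext G)

/-- An element of `A₈` centralizing `T8`, in the centralizer of `t`. -/
def cf (π : A8) (h : π * T8 = T8 * π) : d.CT :=
  ⟨d.φ π, d.mem_CT.2 (by rw [d.t_eq]; exact d.commute_iff.2 h)⟩

@[simp] theorem coe_cf (π : A8) (h : π * T8 = T8 * π) : (d.cf π h : G) = d.φ π := rfl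

theorem ub_eq : d.ub = d.πT (d.cf U8 T8_mul_U8.symm) :=
  congrArg _ (Subtype.ext d.u_eq)

theorem eb_eq (h : E8' * T8 = T8 * E8') : d.eb = d.πT (d.cf E8' h) :=
  congrArg _ (Subtype.ext (by rw [Cfg.coe_ce, coe_cf, ← emb_eP, d.φ_emb]))

variable [Finite G]

theorem centV_mem {g : G} (ht : Commute g d.t) (hu : Commute g d.u) : g ∈ d.G0 :=
  d.cent_four_le (fun _ h => d.mem_of_commute_z h) (fun _ h => d.mem_of_commute_w h) ht hu

theorem normV_mem {g : G} (ht : Commute g d.t)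
    (hu : g * d.u * g⁻¹ = d.u ∨ g * d.u * g⁻¹ = d.u * d.t) : g ∈ d.G0 := by
  rcases hu with hu | hu
  · exact d.centV_mem ht (mul_inv_eq_iff_eq_mul.1 hu)
  · have he : d.φ E8' * (d.u * d.t) * (d.φ E8')⁻¹ = d.u := by
      rw [d.u_eq, d.t_eq, ← map_mul, d.conj_iff]
      exact Subtype.ext (imgs_injective (by decide +kernel))
    have het : Commute (d.φ E8') d.t := by
      rw [d.t_eq]; exact d.commute_iff.2 (Subtype.ext (imgs_injective (by decide +kernel)))
    have h := d.centV_mem (g := d.φ E8' * g) (het.mul_left ht) (mul_inv_eq_iff_eq_mul.1 (by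
      rw [show d.φ E8' * g * d.u * (d.φ E8' * g)⁻¹
        = d.φ E8' * (g * d.u * g⁻¹) * (d.φ E8')⁻¹ by group, hu, he]))
    simpa using d.G0.mul_mem (d.G0.inv_mem ⟨E8', rfl⟩) h

theorem normV_pre {g : G} (ht : Commute g d.t)
    (hu : g * d.u * g⁻¹ = d.u ∨ g * d.u * g⁻¹ = d.u * d.t) :
    ∃ π : A8, g = d.φ π ∧ π * T8 = T8 * π ∧ (π * U8 = U8 * π ∨ π * U8 = T8 * U8 * π) := by
  obtain ⟨π, rfl⟩ := d.normV_mem ht hu
  refine ⟨π, rfl, ?_, ?_⟩
  · rw [d.t_eq] at ht
    exact d.commute_iff.1 ht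
  · rw [d.u_eq, d.t_eq, ← map_mul d.φ U8 T8, d.conj_iff, d.conj_iff, ← T8_mul_U8] at hu
    exact hu

theorem lift_commute_ub {x : d.CT} (h : Commute (d.πT x) d.ub) :
    (x : G) * d.u * (x : G)⁻¹ = d.u ∨ (x : G) * d.u * (x : G)⁻¹ = d.u * d.t := by
  have h' : d.πT (x * d.ce uP (by decide +kernel) * x⁻¹) = d.πT (d.ce uP (by decide +kernel)) := by
    rw [map_mul, map_mul, map_inv]; exact mul_inv_eq_iff_eq_mul.2 h.eq
  simpa only [Cfg.πT_eq_iff, Subgroup.coe_mul, Subgroup.coe_inv, Cfg.coe_ce] using h'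

theorem not_isConj_eb_ub : ¬ IsConj d.eb d.ub := by
  intro h
  obtain ⟨g, hg⟩ := isConj_iff.1 h
  obtain ⟨x, rfl⟩ := QuotientGroup.mk'_surjective _ g
  have hE : E8' * T8 = T8 * E8' := Subtype.ext (imgs_injective (by decide +kernel))
  rw [d.eb_eq hE, d.ub_eq, ← map_inv, ← map_mul, ← map_mul, Cfg.πT_eq_iff] at hg
  simp only [Subgroup.coe_mul, Subgroup.coe_inv, coe_cf] at hg
  have hxt : Commute (x : G) d.t := d.mem_CT.1 x.2
  have hFT : F8 * T8 = T8 * F8 := Subtype.ext (imgs_injective (by decide +kernel))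
  have hFE : F8 * E8' = E8' * F8 := Subtype.ext (imgs_injective (by decide +kernel))
  have hft : Commute ((x : G) * d.φ F8 * (x : G)⁻¹) d.t :=
    (hxt.mul_left (by rw [d.t_eq]; exact d.commute_iff.2 hFT)).mul_left hxt.inv_left
  have hfu : Commute ((x : G) * d.φ F8 * (x : G)⁻¹) d.u := by
    have h1 : Commute ((x : G) * d.φ F8 * (x : G)⁻¹) ((x : G) * d.φ E8' * (x : G)⁻¹) := by
      have := (d.commute_iff.2 hFE).map (MulAut.conj (x : G))
      simpa only [MulAut.conj_apply] using this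
    rw [d.u_eq]
    rcases hg with hg | hg
    · rwa [hg] at h1
    · rw [hg] at h1
      have h2 := h1.mul_right hft
      rwa [mul_assoc (d.φ U8), d.t_sq, mul_one] at h2
  obtain ⟨ρ, hρ⟩ := d.centV_mem hft hfu
  rw [← hρ, d.t_eq] at hft
  rw [← hρ, d.u_eq] at hfu
  have hF : IsConj d.t (d.φ F8) := d.isConj_t_four (Subtype.ext (imgs_injective (by decide +kernel)))
    (by decide +kernel)
  have hTF : IsConj d.t (d.φ (T8 * F8)) :=
    d.isConj_t_four (Subtype.ext (imgs_injective (by decide +kernel))) (by decide +kernel)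
  have hTρ : d.φ (T8 * ρ) = (x : G) * d.φ (T8 * F8) * (x : G)⁻¹ := by
    rw [map_mul, hρ, map_mul, ← d.t_eq]
    calc d.t * ((x : G) * d.φ F8 * (x : G)⁻¹) = d.t * (x : G) * d.φ F8 * (x : G)⁻¹ := by group
      _ = (x : G) * d.t * d.φ F8 * (x : G)⁻¹ := by rw [hxt.eq]
      _ = (x : G) * (d.t * d.φ F8) * (x : G)⁻¹ := by group
  obtain ⟨hρ2, hρ4⟩ := d.four_of_isConj (π := ρ) (hρ ▸ hF.trans (isConj_iff.2 ⟨(x : G), rfl⟩))
  obtain ⟨-, hρ4'⟩ := d.four_of_isConj (π := T8 * ρ) (hTρ ▸ hTF.trans (isConj_iff.2 ⟨(x : G), rfl⟩))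
  have hu' : d.φ ρ = d.φ U8 ∨ d.φ ρ = d.φ U8 * d.t := by
    rcases four_small (d.commute_iff.1 hft) (d.commute_iff.1 hfu) hρ2 hρ4 hρ4' with e | e
    · exact Or.inl (by rw [e])
    · exact Or.inr (by rw [e, T8_mul_U8, map_mul, d.t_eq])
  have key : d.φ F8 = d.φ E8' ∨ d.φ F8 = d.φ E8' * d.t := by
    have hcomm : (x : G)⁻¹ * d.t * (x : G) = d.t := by rw [mul_assoc, ← hxt.eq, inv_mul_cancel_left]
    have e0 : d.φ F8 = (x : G)⁻¹ * d.φ ρ * (x : G) := by rw [hρ]; group
    have e1 : (x : G)⁻¹ * d.φ U8 * (x : G) = d.φ E8' ∨ (x : G)⁻¹ * d.φ U8 * (x : G) = d.φ E8' * d.t := by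
      rcases hg with hg | hg
      · exact Or.inl (by rw [← hg]; group)
      · refine Or.inr ?_
        have e2 : d.φ U8 = (x : G) * d.φ E8' * (x : G)⁻¹ * d.t := by
          rw [hg, mul_assoc, d.t_sq, mul_one]
        rw [e2]
        calc (x : G)⁻¹ * ((x : G) * d.φ E8' * (x : G)⁻¹ * d.t) * (x : G)
            = d.φ E8' * ((x : G)⁻¹ * d.t * (x : G)) := by group
          _ = d.φ E8' * d.t := by rw [hcomm]
    rcases hu' with e | e <;> rcases e1 with e1 | e1
    · exact Or.inl (by rw [e0, e, e1])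
    · exact Or.inr (by rw [e0, e, e1])
    · refine Or.inr ?_
      rw [e0, e]
      calc (x : G)⁻¹ * (d.φ U8 * d.t) * (x : G)
          = ((x : G)⁻¹ * d.φ U8 * (x : G)) * ((x : G)⁻¹ * d.t * (x : G)) := by group
        _ = _ := by rw [e1, hcomm]
    · refine Or.inl ?_
      rw [e0, e]
      calc (x : G)⁻¹ * (d.φ U8 * d.t) * (x : G)
          = ((x : G)⁻¹ * d.φ U8 * (x : G)) * ((x : G)⁻¹ * d.t * (x : G)) := by group
        _ = _ := by rw [e1, hcomm, mul_assoc, d.t_sq, mul_one]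
  rcases key with e | e
  · have := congrArg (fun g : A8 => imgs (g : Perm (Fin 8))) (d.φ_inj e)
    revert this
    decide +kernel
  · rw [d.t_eq, ← map_mul] at e
    have := congrArg (fun g : A8 => imgs (g : Perm (Fin 8))) (d.φ_inj e)
    revert this
    decide +kernel

theorem not_isConj_eu_ub : ¬ IsConj (d.eb * d.ub) d.ub := by
  intro h
  obtain ⟨g, hg⟩ := isConj_iff.1 h
  obtain ⟨x, rfl⟩ := QuotientGroup.mk'_surjective _ g
  have hE : E8' * T8 = T8 * E8' := Subtype.ext (imgs_injective (by decide +kernel))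
  rw [d.eb_eq hE, d.ub_eq, ← map_mul, ← map_inv, ← map_mul, ← map_mul, Cfg.πT_eq_iff] at hg
  simp only [Subgroup.coe_mul, Subgroup.coe_inv, coe_cf, ← map_mul] at hg
  have h2 : (d.φ (E8' * U8)) ^ 2 = d.t := by
    rw [d.t_eq, ← map_pow]
    exact congrArg _ (by rw [pow_two]; exact Subtype.ext (imgs_injective (by decide +kernel)))
  have hsq : ((x : G) * d.φ (E8' * U8) * (x : G)⁻¹) ^ 2 = d.t := by
    rw [conj_pow, h2, (d.mem_CT.1 x.2).eq, mul_inv_cancel_right]
  rcases hg with hg | hg <;> rw [hg, d.t_eq] at hsq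
  · rw [pow_two, ← map_mul, U8_sq] at hsq
    exact d.map_ne_one (by decide +kernel : tP ≠ 1) (by show d.t = 1; rw [d.t_eq, ← hsq, map_one])
  · rw [← map_mul, pow_two, ← map_mul, show U8 * T8 * (U8 * T8) = 1 from
      Subtype.ext (imgs_injective (by decide +kernel))] at hsq
    exact d.map_ne_one (by decide +kernel : tP ≠ 1) (by show d.t = 1; rw [d.t_eq, ← hsq, map_one])

theorem ub_isolated : Cfsg.IsIsolated d.ub := by
  have T := d.toCfg.threeU
  obtain ⟨N, hNn, -, heN, -, -, hall⟩ := T.exists_normal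
  have := hNn
  have huN : d.ub ∈ N := hall _ T.u2 d.not_isConj_eb_ub d.not_isConj_eu_ub
  intro g hcomm
  have hmN : g * d.ub * g⁻¹ ∈ N := hNn.conj_mem _ huN g
  obtain ⟨x, rfl⟩ := QuotientGroup.mk'_surjective _ g
  let v : d.CT := x * d.ce uP (by decide +kernel) * x⁻¹
  have hm : d.πT v = d.πT x * d.ub * (d.πT x)⁻¹ := by
    rw [map_mul, map_mul, map_inv]; rfl
  obtain ⟨π, hπ, hπT, hπU⟩ := d.normV_pre (d.mem_CT.1 v.2) (d.lift_commute_ub (hm ▸ hcomm.symm))
  have hv : (v : G) = (x : G) * d.u * (x : G)⁻¹ := rfl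
  have hxt : Commute (x : G) d.t := d.mem_CT.1 x.2
  obtain ⟨hπ2, hπ4⟩ := d.four_of_isConj (π := π) (hπ ▸ hv ▸
    (d.four_isConj (x := uP) (by decide +kernel) (by decide +kernel)).trans
      (isConj_iff.2 ⟨(x : G), rfl⟩))
  have hTπ : d.φ (T8 * π) = (x : G) * d.ψ (tP * uP) * (x : G)⁻¹ := by
    rw [map_mul, ← hπ, ← d.t_eq, hv, map_mul]
    calc d.t * ((x : G) * d.u * (x : G)⁻¹) = d.t * (x : G) * d.u * (x : G)⁻¹ := by group
      _ = (x : G) * d.t * d.u * (x : G)⁻¹ := by rw [hxt.eq]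
      _ = (x : G) * (d.t * d.u) * (x : G)⁻¹ := by group
  obtain ⟨-, hπ4'⟩ := d.four_of_isConj (π := T8 * π) (hTπ ▸
    (d.four_isConj (x := tP * uP) (by decide +kernel) (by decide +kernel)).trans
      (isConj_iff.2 ⟨(x : G), rfl⟩))
  rw [← hm] at hmN ⊢
  rcases normV_small hπT hπU hπ2 hπ4 hπ4' with (e | e) | ⟨q, -, hqT, e⟩
  · rw [d.ub_eq, Cfg.πT_eq_iff, coe_cf, hπ, e]
    exact Or.inl rfl
  · rw [d.ub_eq, Cfg.πT_eq_iff, coe_cf, hπ, e, T8_mul_U8, map_mul, d.t_eq]
    exact Or.inr rfl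
  · exfalso
    have hE : E8' * T8 = T8 * E8' := Subtype.ext (imgs_injective (by decide +kernel))
    have hv' : d.πT v = d.πT (d.cf q hqT) * d.eb * (d.πT (d.cf q hqT))⁻¹ := by
      rw [d.eb_eq hE, ← map_inv, ← map_mul, ← map_mul, Cfg.πT_eq_iff]
      simp only [Subgroup.coe_mul, Subgroup.coe_inv, coe_cf]
      rw [← map_inv, ← map_mul, ← map_mul, d.t_eq, ← map_mul, hπ]
      rcases e with rfl | rfl
      · exact Or.inl rfl
      · refine Or.inr (congrArg _ ?_)
        have hc : Commute T8 (q * E8' * q⁻¹) :=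
          ((show Commute T8 q from hqT.symm).mul_right (show Commute T8 E8' from hE.symm)).mul_right
            (show Commute T8 q from hqT.symm).inv_right
        exact hc.eq
    rw [hv'] at hmN
    have := hNn.conj_mem _ hmN (d.πT (d.cf q hqT))⁻¹
    exact heN (by simpa [mul_assoc] using this)

/-- The largest normal subgroup of odd order of the centralizer of `t` modulo `⟨t⟩`. -/
abbrev OT : Subgroup d.HT := Cfsg.pPrimeCore 2 d.HT

theorem OT_odd : Odd (Nat.card d.OT) :=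
  Nat.coprime_two_right.1 (Cores.coprime_card_pPrimeCore 2)

instance OT_normal : d.OT.Normal := Cores.pPrimeCore_normal 2 _

theorem OT_pow {m : d.HT} (hm : m ∈ d.OT) {n : ℕ} (h : m ^ 2 ^ n = 1) : m = 1 := by
  have h1 : orderOf m ∣ Nat.card d.OT := Subgroup.orderOf_dvd_natCard _ hm
  have hc : (Nat.card d.OT).Coprime (2 ^ n) :=
    Nat.Coprime.pow_right n (Nat.coprime_two_right.2 d.OT_odd)
  exact orderOf_eq_one_iff.1 (Nat.eq_one_of_dvd_coprimes hc h1 (orderOf_dvd_of_pow_eq_one h))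

/-- The centralizer of `u` modulo `t` complements the odd core. -/
theorem exists_factor (g : d.HT) : ∃ o ∈ d.OT, ∃ y : d.CT, Commute (d.πT y) d.ub ∧ g = o * d.πT y := by
  have hu2 := d.toCfg.threeU.u2
  have huu := d.toCfg.threeU.u_sq
  have hz := ZStar.zStar_pElement ZStar.uniqueInvolution ⟨1, by rw [hu2, pow_one]⟩ d.ub_isolated g
  have huinv : d.ub⁻¹ = d.ub := inv_eq_of_mul_eq_one_right huu
  rw [huinv] at hz
  obtain ⟨v, hv⟩ : ∃ v, v = g * d.ub * g⁻¹ := ⟨_, rfl⟩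
  rw [← hv] at hz
  have hvv : v * v = 1 := by
    rw [hv, show g * d.ub * g⁻¹ * (g * d.ub * g⁻¹) = g * (d.ub * d.ub) * g⁻¹ by group, huu,
      mul_one, mul_inv_cancel]
  have hvinv : v⁻¹ = v := inv_eq_of_mul_eq_one_right hvv
  obtain ⟨n, hn⟩ : Odd (orderOf (v * d.ub)) :=
    d.OT_odd.of_dvd_nat (Subgroup.orderOf_dvd_natCard _ hz)
  have hinvw : v * (v * d.ub) * v⁻¹ = (v * d.ub)⁻¹ := by
    rw [hvinv, ← mul_assoc, hvv, one_mul]
    refine eq_inv_of_mul_eq_one_left ?_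
    calc d.ub * v * (v * d.ub) = d.ub * (v * v) * d.ub := by group
      _ = 1 := by rw [hvv, mul_one, huu]
  have hr : (v * d.ub) ^ n * v * ((v * d.ub) ^ n)⁻¹ = d.ub := by
    have h1 : v * (v * d.ub) ^ n * v⁻¹ = ((v * d.ub) ^ n)⁻¹ := Involution.inverts_pow hinvw n
    have h2 : v * ((v * d.ub) ^ n)⁻¹ = (v * d.ub) ^ n * v := by
      rw [← h1, hvinv, ← mul_assoc, ← mul_assoc, hvv, one_mul]
    rw [mul_assoc, h2, ← mul_assoc, ← pow_add]
    have h3 : (v * d.ub) ^ (n + n) = (v * d.ub)⁻¹ := by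
      refine eq_inv_of_mul_eq_one_left ?_
      rw [← pow_succ, show n + n + 1 = 2 * n + 1 by ring, ← hn, pow_orderOf_eq_one]
    rw [h3, mul_inv_rev, mul_assoc, inv_mul_cancel, mul_one, huinv]
  obtain ⟨y, hy⟩ := QuotientGroup.mk'_surjective _ ((v * d.ub) ^ n * g)
  refine ⟨((v * d.ub) ^ n)⁻¹, d.OT.inv_mem (d.OT.pow_mem hz n), y, ?_, by
    rw [show d.πT y = _ from hy, inv_mul_cancel_left]⟩
  rw [show d.πT y = _ from hy]
  refine mul_inv_eq_iff_eq_mul.1 ?_
  rw [show (v * d.ub) ^ n * g * d.ub * ((v * d.ub) ^ n * g)⁻¹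
    = (v * d.ub) ^ n * (g * d.ub * g⁻¹) * ((v * d.ub) ^ n)⁻¹ by group, ← hv, hr]

theorem commute_S_R : Commute (d.πT (d.cf S8 S8_T8)) d.ub ∧ Commute (d.πT (d.cf R8 R8_T8)) d.ub := by
  constructor
  all_goals
    rw [d.ub_eq]
    refine Commute.map (Subtype.ext ?_) d.πT
  · exact (d.commute_iff.2 S8_U8).eq
  · exact (d.commute_iff.2 R8_U8).eq

theorem cent_OT {m : d.HT} (hm : m ∈ d.OT) (hc : Commute m d.ub) : m = 1 := by
  obtain ⟨x, rfl⟩ := QuotientGroup.mk'_surjective _ m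
  obtain ⟨π, hπ, hπT, hπU⟩ := d.normV_pre (d.mem_CT.1 x.2) (d.lift_commute_ub hc)
  refine d.OT_pow hm (n := 3) ?_
  rw [show (2 : ℕ) ^ 3 = 8 from rfl, ← map_pow, Cfg.πT_eq_one_iff]
  refine Or.inl ?_
  rw [SubmonoidClass.coe_pow, hπ, ← map_pow]
  have h8T : π ^ 8 * T8 = T8 * π ^ 8 := ((show Commute π T8 from hπT).pow_left 8).eq
  have h8U : π ^ 8 * U8 = U8 * π ^ 8 := by
    have h2 : Commute (π * π) U8 := by
      rcases hπU with h | h
      · exact (show Commute π U8 from h).mul_left h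
      · show π * π * U8 = U8 * (π * π)
        rw [mul_assoc, h, ← mul_assoc, ← mul_assoc, hπT, mul_assoc T8 π U8, h,
          ← mul_assoc, ← mul_assoc, ← mul_assoc, T8_sq, one_mul, mul_assoc]
    rw [show π ^ 8 = (π * π) ^ 4 by rw [← pow_two, ← pow_mul]]
    exact (h2.pow_left 4).eq
  have h83 : (π ^ 8) ^ 3 = 1 := by
    rw [← pow_mul, show 8 * 3 = 3 * 8 from rfl, pow_mul]; exact normV_exp hπT hπU
  rcases normV_cube h8T (Or.inl h8U) h83 with h | ⟨s, hs, h8, h1, hT⟩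
  · rw [h, map_one]
  exfalso
  have hsT : s * T8 = T8 * s := by
    simp only [List.mem_cons, List.not_mem_nil, or_false] at hs
    rcases hs with rfl | rfl
    exacts [S8_T8, R8_T8]
  have hmem : d.πT (x ^ 8) * d.πT (d.cf s hsT) * (d.πT (x ^ 8))⁻¹ * (d.πT (d.cf s hsT))⁻¹ ∈ d.OT := by
    rw [show d.πT (x ^ 8) * d.πT (d.cf s hsT) * (d.πT (x ^ 8))⁻¹ * (d.πT (d.cf s hsT))⁻¹ =
      d.πT (x ^ 8) * (d.πT (d.cf s hsT) * (d.πT (x ^ 8))⁻¹ * (d.πT (d.cf s hsT))⁻¹) by group]
    have hm8 : d.πT (x ^ 8) ∈ d.OT := by rw [map_pow]; exact d.OT.pow_mem hm 8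
    exact d.OT.mul_mem hm8 (d.OT_normal.conj_mem _ (d.OT.inv_mem hm8) _)
  rw [← map_inv, ← map_inv, ← map_mul, ← map_mul, ← map_mul] at hmem
  have he : ((x ^ 8 * d.cf s hsT * (x ^ 8)⁻¹ * (d.cf s hsT)⁻¹ : d.CT) : G)
      = d.φ (π ^ 8 * s * (π ^ 8)⁻¹ * s⁻¹) := by
    simp only [Subgroup.coe_mul, Subgroup.coe_inv, SubmonoidClass.coe_pow, coe_cf, hπ, map_mul,
      map_inv, map_pow]
  have hone := d.OT_pow hmem (n := 3) (by
    rw [show (2 : ℕ) ^ 3 = 8 from rfl, ← map_pow, Cfg.πT_eq_one_iff, SubmonoidClass.coe_pow, he, ← map_pow, h8, map_one]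
    exact Or.inl rfl)
  rw [Cfg.πT_eq_one_iff, he] at hone
  rcases hone with h' | h'
  · exact h1 (d.φ_inj (by rw [h', map_one]))
  · exact hT (d.φ_inj (by rw [h', d.t_eq]))

theorem ub_inverts {o : d.HT} (ho : o ∈ d.OT) : d.ub * o * d.ub⁻¹ = o⁻¹ := by
  have hu := d.toCfg.threeU.u_sq
  have := InvolutionEigen.inverts_of_fpf (A := d.OT) (MulAut.conjNormal d.ub).toMonoidHom
    (fun a => Subtype.ext (by
      simp only [MulEquiv.coe_toMonoidHom, MulAut.conjNormal_apply]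
      calc d.ub * (d.ub * (a : d.HT) * d.ub⁻¹) * d.ub⁻¹
          = (d.ub * d.ub) * (a : d.HT) * (d.ub * d.ub)⁻¹ := by group
        _ = a := by rw [hu, one_mul, inv_one, mul_one]))
    (fun a ha => by
      refine Subtype.ext (d.cent_OT a.2 ?_)
      have h : d.ub * (a : d.HT) * d.ub⁻¹ = a := congrArg Subtype.val ha
      exact (mul_inv_eq_iff_eq_mul.1 h).symm) ⟨o, ho⟩
  exact congrArg Subtype.val this

/-- The two factors of an element centralizing `a` centralize `a`, for `a` centralizing `u`. -/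
theorem factor_commute {o m a : d.HT} (ho : o ∈ d.OT) (hm : Commute m d.ub) (ha : Commute a d.ub)
    (h : Commute (o * m) a) : Commute o a ∧ Commute m a := by
  have hk : m * a * m⁻¹ * a⁻¹ ∈ d.OT := by
    have h' : m * a * m⁻¹ * a⁻¹ = o⁻¹ * (a * o * a⁻¹) := by
      have he := h.eq
      calc m * a * m⁻¹ * a⁻¹ = o⁻¹ * (o * m * a) * m⁻¹ * a⁻¹ := by group
        _ = o⁻¹ * (a * (o * m)) * m⁻¹ * a⁻¹ := by rw [he]
        _ = _ := by group
    rw [h']
    exact d.OT.mul_mem (d.OT.inv_mem ho) (d.OT_normal.conj_mem _ ho _)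
  have hone := d.cent_OT hk (((hm.mul_left ha).mul_left hm.inv_left).mul_left ha.inv_left)
  have hma : Commute m a := mul_inv_eq_iff_eq_mul.1 (mul_inv_eq_one.1 hone)
  refine ⟨?_, hma⟩
  have := h.mul_left hma.inv_left
  rwa [mul_inv_cancel_right] at this

theorem not_isConj_s (r : G) (_hr : Commute r d.t) : r * d.φ S8 * r⁻¹ ≠ d.φ S8 * d.t := by
  intro h
  refine d.not_isConj_t_J ((d.isConj_t_four S8_sq (by decide +kernel)).trans (isConj_iff.2 ⟨r, ?_⟩))
  rw [h, d.t_eq, ← map_mul]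
  exact congrArg _ (Subtype.ext (imgs_injective (by decide +kernel)))

/-- An element commuting with `t` and `(4 5)(6 7)` is a product of one in the odd core and a
two-element centralizing `u`, both centralizing `(4 5)(6 7)`. -/
theorem split_s {x : d.CT} (hs : Commute (x : G) (d.φ S8)) : ∃ o ∈ d.OT, ∃ y : d.CT,
    (y : G) ∈ d.G0 ∧ Commute (d.πT y) d.ub ∧ d.πT x = o * d.πT y ∧
      Commute o (d.πT (d.cf S8 S8_T8)) ∧ d.πT y ^ 8 = 1 := by
  obtain ⟨o, ho, y, hyu, hxy⟩ := d.exists_factor (d.πT x)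
  have hxs : Commute (d.πT x) (d.πT (d.cf S8 S8_T8)) :=
    Commute.map (Subtype.ext hs.eq) d.πT
  rw [hxy] at hxs
  obtain ⟨hos, hys⟩ := d.factor_commute ho hyu d.commute_S_R.1 hxs
  obtain ⟨π, hπ, hπT, hπU⟩ := d.normV_pre (d.mem_CT.1 y.2) (d.lift_commute_ub hyu)
  refine ⟨o, ho, y, ⟨π, hπ.symm⟩, hyu, hxy, hos, ?_⟩
  have h' : d.πT (y * d.cf S8 S8_T8 * y⁻¹) = d.πT (d.cf S8 S8_T8) := by
    rw [map_mul, map_mul, map_inv]; exact mul_inv_eq_iff_eq_mul.2 hys.eq
  rw [Cfg.πT_eq_iff] at h'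
  simp only [Subgroup.coe_mul, Subgroup.coe_inv, coe_cf] at h'
  rw [hπ] at h'
  have hπS : π * S8 = S8 * π := by
    rcases h' with h' | h'
    · exact d.conj_iff.1 h'
    · exact absurd h' (d.not_isConj_s _ (hπ ▸ d.mem_CT.1 y.2))
  rw [← map_pow, Cfg.πT_eq_one_iff, SubmonoidClass.coe_pow, hπ, ← map_pow, normV_two hπT hπU hπS, map_one]
  exact Or.inl rfl

/-- The elements of odd order commuting with `t` and `(4 5)(6 7)` lie in the odd core modulo `t`. -/
theorem odd_mem_OT {x : G} (ht : Commute x d.t) (hs : Commute x (d.φ S8)) (hodd : Odd (orderOf x)) :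
    d.πT ⟨x, d.mem_CT.2 ht⟩ ∈ d.OT := by
  obtain ⟨o, ho, y, -, -, hxy, -, hy8⟩ := d.split_s (x := ⟨x, d.mem_CT.2 ht⟩) hs
  set xc : d.CT := ⟨x, d.mem_CT.2 ht⟩ with hxc
  have h8 : d.πT xc ^ 8 ∈ d.OT := by
    have : ((d.πT xc : d.HT) : d.HT ⧸ d.OT) ^ 8 = 1 := by
      rw [hxy, QuotientGroup.mk_mul, (QuotientGroup.eq_one_iff o).2 ho, one_mul,
        ← QuotientGroup.mk_pow, hy8, QuotientGroup.mk_one]
    rw [← QuotientGroup.mk_pow, QuotientGroup.eq_one_iff] at this
    exact this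
  obtain ⟨n, hn⟩ := hodd
  have hx1 : d.πT xc ^ orderOf x = 1 := by
    rw [← map_pow, show xc ^ orderOf x = 1 from Subtype.ext (pow_orderOf_eq_one x), map_one]
  have hc : Nat.Coprime 8 (orderOf x) := by
    rw [hn, show (8 : ℕ) = 2 ^ 3 from rfl]
    exact Nat.Coprime.pow_left 3 (Nat.coprime_two_left.2 ⟨n, rfl⟩)
  have hgcd := Nat.gcd_eq_gcd_ab 8 (orderOf x)
  rw [hc.gcd_eq_one] at hgcd
  rw [← zpow_one (d.πT xc), show (1 : ℤ) = _ from hgcd, zpow_add, zpow_mul, zpow_mul,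
    zpow_natCast, zpow_natCast, hx1, one_zpow, mul_one]
  exact d.OT.zpow_mem h8 _

/-- The elements of odd order commuting with `t` and `(4 5)(6 7)` are inverted by `u`. -/
theorem odd_inverted {x : G} (ht : Commute x d.t) (hs : Commute x (d.φ S8)) (hodd : Odd (orderOf x)) :
    d.u * x * d.u⁻¹ = x⁻¹ := by
  have hmem := d.odd_mem_OT ht hs hodd
  set xc : d.CT := ⟨x, d.mem_CT.2 ht⟩ with hxc
  obtain ⟨n, hn⟩ := hodd
  have h := d.ub_inverts hmem
  rw [d.ub_eq, ← map_inv, ← map_mul, ← map_mul, ← map_inv, Cfg.πT_eq_iff] at h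
  simp only [Subgroup.coe_mul, Subgroup.coe_inv, coe_cf, ← d.u_eq, hxc] at h
  rcases h with h | h
  · exact h
  exfalso
  have hpow : (d.u * x * d.u⁻¹) ^ orderOf x = 1 := by
    rw [conj_pow, pow_orderOf_eq_one, mul_one, mul_inv_cancel]
  rw [h, (show Commute x⁻¹ d.t from ht.inv_left).mul_pow, inv_pow, pow_orderOf_eq_one, inv_one, one_mul,
    hn, pow_succ, pow_mul, pow_two, d.t_sq, one_pow, one_mul] at hpow
  exact d.map_ne_one (by decide +kernel : tP ≠ 1) hpow

/-- If only the identity has odd order and commutes with `t` and `(4 5)(6 7)`, the elements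
commuting with both lie in the image of `A₈`. -/
theorem centTS_mem
    (hR : ∀ r : G, Commute r d.t → Commute r (d.φ S8) → Odd (orderOf r) → r = 1)
    {x : G} (ht : Commute x d.t) (hs : Commute x (d.φ S8)) : x ∈ d.G0 := by
  obtain ⟨o, ho, y, hy0, hyu, hxy, hos, -⟩ := d.split_s (x := ⟨x, d.mem_CT.2 ht⟩) hs
  set xc : d.CT := ⟨x, d.mem_CT.2 ht⟩ with hxc
  suffices ho1 : o = 1 by
    rw [ho1, one_mul, Cfg.πT_eq_iff] at hxy
    rcases hxy with h | h
    · rw [show x = (y : G) from h]; exact hy0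
    · rw [show x = (y : G) * d.t from h, d.t_eq]; exact d.G0.mul_mem hy0 ⟨_, rfl⟩
  obtain ⟨r0, rfl⟩ := QuotientGroup.mk'_surjective _ o
  set k := orderOf (d.πT r0) with hk
  have hkodd : Odd k := d.OT_odd.of_dvd_nat (Subgroup.orderOf_dvd_natCard _ ho)
  obtain ⟨r, hr0, hrk⟩ : ∃ r : d.CT, d.πT r = d.πT r0 ∧ (r : G) ^ k = 1 := by
    have h := pow_orderOf_eq_one (d.πT r0)
    rw [← map_pow, Cfg.πT_eq_one_iff, SubmonoidClass.coe_pow, ← hk] at h
    rcases h with h | h
    · exact ⟨r0, rfl, h⟩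
    · refine ⟨r0 * d.tC, ?_, ?_⟩
      · rw [map_mul, show d.πT d.tC = 1 from d.πT_eq_one_iff.2 (Or.inr rfl), mul_one]
      · obtain ⟨n, hn⟩ := hkodd
        show ((r0 : G) * d.t) ^ k = 1
        rw [(d.mem_CT.1 r0.2).mul_pow, h, hn, pow_succ, pow_mul, pow_two, d.t_sq, one_pow, one_mul,
          d.t_sq]
  have hrodd : Odd (orderOf (r : G)) := hkodd.of_dvd_nat (orderOf_dvd_of_pow_eq_one hrk)
  have hrs : Commute (r : G) (d.φ S8) := by
    have h' : d.πT (r * d.cf S8 S8_T8 * r⁻¹) = d.πT (d.cf S8 S8_T8) := by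
      rw [map_mul, map_mul, map_inv, hr0]; exact mul_inv_eq_iff_eq_mul.2 hos.eq
    rw [Cfg.πT_eq_iff] at h'
    simp only [Subgroup.coe_mul, Subgroup.coe_inv, coe_cf] at h'
    rcases h' with h' | h'
    · exact mul_inv_eq_iff_eq_mul.1 h'
    · exact absurd h' (d.not_isConj_s _ (d.mem_CT.1 r.2))
  have hr1 : r = 1 := Subtype.ext (hR r (d.mem_CT.1 r.2) hrs hrodd)
  rw [← hr0, hr1, map_one]

/-- If the centralizer of `(0 1)(2 3)(4 5)(6 7)` lies in the image of `A₈`, so does that of `t`. -/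
theorem centT_le (hJ : ∀ g : G, Commute g (d.φ J8) → g ∈ d.G0) {g : G} (hg : Commute g d.t) :
    g ∈ d.G0 := by
  set W : Subgroup d.HT := (d.G0.subgroupOf d.CT).map d.πT with hW
  have hmemW : ∀ x : d.CT, (x : G) ∈ d.G0 → d.πT x ∈ W := fun x hx => ⟨x, hx, rfl⟩
  set A : Subgroup d.HT := Subgroup.closure {d.πT (d.cf S8 S8_T8), d.πT (d.cf R8 R8_T8)} with hA
  have hSR : S8 * R8 = R8 * S8 := Subtype.ext (imgs_injective (by decide +kernel))
  have hR2 : R8 * R8 = 1 := Subtype.ext (imgs_injective (by decide +kernel))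
  have hAlist : ∀ a ∈ A, ∃ π : A8, ∃ h : π * T8 = T8 * π,
      π ∈ [1, S8, R8, S8 * R8] ∧ a = d.πT (d.cf π h) := by
    have hcl : ∀ p q : A8, p ∈ [1, S8, R8, S8 * R8] → q ∈ [1, S8, R8, S8 * R8] →
        p * q ∈ [1, S8, R8, S8 * R8] := by
      intro p q hp hq
      refine mem_of_memL (L' := [List.range 8, [0, 1, 2, 3, 5, 4, 7, 6], [0, 1, 2, 3, 6, 7, 4, 5],
        [0, 1, 2, 3, 7, 6, 5, 4]]) (by decide +kernel) ?_
      simp only [List.mem_cons, List.not_mem_nil, or_false] at hp hq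
      rcases hp with rfl | rfl | rfl | rfl <;> rcases hq with rfl | rfl | rfl | rfl <;> decide +kernel
    intro a ha
    rw [hA] at ha
    induction ha using Subgroup.closure_induction with
    | mem x hx =>
      rcases hx with rfl | rfl
      · exact ⟨S8, S8_T8, by simp, rfl⟩
      · exact ⟨R8, R8_T8, by simp, rfl⟩
    | one => exact ⟨1, by rw [one_mul, mul_one], by simp, by
        rw [show d.cf 1 _ = 1 from Subtype.ext (map_one d.φ), map_one]⟩
    | mul x y _ _ hx hy =>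
      obtain ⟨p, hp, hpm, rfl⟩ := hx
      obtain ⟨q, hq, hqm, rfl⟩ := hy
      refine ⟨p * q, ((show Commute p T8 from hp).mul_left hq).eq, hcl p q hpm hqm, ?_⟩
      rw [← map_mul]
      exact congrArg _ (Subtype.ext (map_mul d.φ p q).symm)
    | inv x _ hx =>
      obtain ⟨p, hp, hpm, rfl⟩ := hx
      refine ⟨p, hp, hpm, ?_⟩
      rw [← map_inv]
      refine congrArg _ (Subtype.ext ?_)
      rw [Subgroup.coe_inv, coe_cf, ← map_inv]
      refine congrArg _ (inv_eq_of_mul_eq_one_right ?_)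
      simp only [List.mem_cons, List.not_mem_nil, or_false] at hpm
      rcases hpm with rfl | rfl | rfl | rfl
      exacts [one_mul _, S8_sq, hR2, Subtype.ext (imgs_injective (by decide +kernel))]
  have hsq : ∀ a ∈ A, a * a = 1 := fun a ha => by
    obtain ⟨π, h, hπ, rfl⟩ := hAlist a ha
    rw [← map_mul, Cfg.πT_eq_one_iff]
    refine Or.inl ?_
    rw [Subgroup.coe_mul, coe_cf, ← map_mul, ← map_one d.φ]
    refine congrArg _ ?_
    simp only [List.mem_cons, List.not_mem_nil, or_false] at hπ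
    rcases hπ with rfl | rfl | rfl | rfl
    exacts [one_mul _, S8_sq, hR2, Subtype.ext (imgs_injective (by decide +kernel))]
  have : IsMulCommutative A := ⟨⟨fun a b => Subtype.ext (by
    have h1 := hsq _ a.2
    have h2 := hsq _ b.2
    have h3 := hsq _ (A.mul_mem a.2 b.2)
    show (a : d.HT) * b = b * a
    calc (a : d.HT) * b = ((a : d.HT) * b)⁻¹ := eq_inv_of_mul_eq_one_left h3
      _ = b * a := by rw [mul_inv_rev, inv_eq_of_mul_eq_one_right h1, inv_eq_of_mul_eq_one_right h2])⟩⟩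
  have hne : ∀ (π : A8) (h : π * T8 = T8 * π), π ≠ 1 → π ≠ T8 → d.πT (d.cf π h) ≠ 1 := by
    intro π h h1 h2 e
    rcases d.πT_eq_one_iff.1 e with e' | e'
    · exact h1 (d.φ_inj (e'.trans (map_one d.φ).symm))
    · exact h2 (d.φ_inj (e'.trans d.t_eq))
  have hnS : d.πT (d.cf S8 S8_T8) ≠ 1 := hne _ _
    (fun e => absurd (congrArg (fun g : A8 => imgs (g : Perm (Fin 8))) e) (by decide +kernel))
    (fun e => absurd (congrArg (fun g : A8 => imgs (g : Perm (Fin 8))) e) (by decide +kernel))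
  have hnot : ¬ IsCyclic A := by
    intro hcyc
    obtain ⟨a, ha⟩ := hcyc.exists_generator
    have h2 : orderOf a ∣ 2 := orderOf_dvd_of_pow_eq_one (Subtype.ext (by
      rw [pow_two]; exact hsq _ a.2))
    have hcard : Nat.card A ≤ 2 := by
      rw [← orderOf_eq_card_of_forall_mem_zpowers ha]; exact Nat.le_of_dvd (by norm_num) h2
    have hR : d.πT (d.cf R8 R8_T8) ≠ d.πT (d.cf S8 S8_T8) := by
      intro e
      rcases d.πT_eq_iff.1 e with e' | e'
      · exact absurd (congrArg (fun g : A8 => imgs (g : Perm (Fin 8))) (d.φ_inj e')) (by decide +kernel)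
      · rw [coe_cf, coe_cf, d.t_eq, ← map_mul] at e'
        exact absurd (congrArg (fun g : A8 => imgs (g : Perm (Fin 8))) (d.φ_inj e')) (by decide +kernel)
    have hnR : d.πT (d.cf R8 R8_T8) ≠ 1 := hne _ _
      (fun e => absurd (congrArg (fun g : A8 => imgs (g : Perm (Fin 8))) e) (by decide +kernel))
      (fun e => absurd (congrArg (fun g : A8 => imgs (g : Perm (Fin 8))) e) (by decide +kernel))
    classical
    have := Fintype.ofFinite A
    have h3 : ({1, ⟨_, Subgroup.subset_closure (Set.mem_insert _ _)⟩,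
        ⟨_, Subgroup.subset_closure (Set.mem_insert_of_mem _ rfl)⟩} : Finset A).card ≤ Fintype.card A :=
      Finset.card_le_univ _
    rw [Finset.card_insert_of_notMem (by
        simp only [Finset.mem_insert, Finset.mem_singleton, Subtype.ext_iff, Subgroup.coe_one, not_or]
        exact ⟨hnS.symm, hnR.symm⟩),
      Finset.card_insert_of_notMem (by
        simp only [Finset.mem_singleton, Subtype.ext_iff]
        exact hR.symm), Finset.card_singleton, ← Nat.card_eq_fintype_card] at h3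
    omega
  have hcop : (Nat.card A).Coprime (Nat.card d.OT) := by
    have : Fact (Nat.Prime 2) := ⟨Nat.prime_two⟩
    obtain ⟨n, hn⟩ := IsPGroup.iff_card.1 (show IsPGroup 2 A from fun a => ⟨1, Subtype.ext (by
      rw [pow_one]; show (a : d.HT) ^ 2 = 1; rw [pow_two]; exact hsq _ a.2)⟩)
    rw [hn]
    exact Nat.Coprime.pow_left n (Nat.coprime_two_left.2 d.OT_odd)
  have hO : d.OT ≤ W := by
    refine Coprime.le_of_noncyclic hnot (fun a _ => ?_) hcop fun a ha ha1 o ho => ?_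
    · rw [Subgroup.normalizer_eq_top]; trivial
    obtain ⟨π, hπT, hπ, rfl⟩ := hAlist a ha
    obtain ⟨r, rfl⟩ := QuotientGroup.mk'_surjective _ o
    have hc : Commute (d.πT r) (d.πT (d.cf π hπT)) := Subgroup.mem_centralizer_singleton_iff.1 ho.2
    have hπ' : π = S8 ∨ π = R8 ∨ π = S8 * R8 := by
      simp only [List.mem_cons, List.not_mem_nil, or_false] at hπ
      rcases hπ with rfl | h | h | h
      · exact absurd (by rw [show d.cf 1 hπT = 1 from Subtype.ext (map_one d.φ), map_one]) ha1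
      · exact Or.inl h
      · exact Or.inr (Or.inl h)
      · exact Or.inr (Or.inr h)
    have hfacts : π * π = 1 ∧ fourL (imgs (π : Perm (Fin 8))) = true ∧
        (T8 * π) * (T8 * π) = 1 ∧ T8 * π ≠ 1 ∧ fourL (imgs ((T8 * π : A8) : Perm (Fin 8))) = false := by
      rcases hπ' with rfl | rfl | rfl
      all_goals
        exact ⟨Subtype.ext (imgs_injective (by decide +kernel)), by decide +kernel,
          Subtype.ext (imgs_injective (by decide +kernel)),
          fun e => absurd (congrArg (fun g : A8 => imgs (g : Perm (Fin 8))) e) (by decide +kernel),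
          by decide +kernel⟩
    obtain ⟨hπ2, hπ4, hTπ2, hTπ1, hTπ4⟩ := hfacts
    have hJc : IsConj J8 (T8 * π) := by
      rcases involution_class hTπ2 hTπ1 with ⟨-, h⟩ | ⟨h, -⟩
      · rw [hTπ4] at h; exact absurd h (by decide)
      · exact h
    have h' : d.πT (r * d.cf π hπT * r⁻¹) = d.πT (d.cf π hπT) := by
      rw [map_mul, map_mul, map_inv]; exact mul_inv_eq_iff_eq_mul.2 hc.eq
    rw [Cfg.πT_eq_iff] at h'
    simp only [Subgroup.coe_mul, Subgroup.coe_inv, coe_cf] at h'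
    have hrπ : Commute (r : G) (d.φ π) := by
      rcases h' with h' | h'
      · exact mul_inv_eq_iff_eq_mul.1 h'
      · exfalso
        refine d.not_isConj_t_J (((d.isConj_t_four hπ2 hπ4).trans (isConj_iff.2 ⟨(r : G), h'⟩)).trans ?_)
        rw [d.t_eq, ← map_mul, hπT]
        exact (d.isConj_of_A8 hJc).symm
    have hrJ : Commute (r : G) (d.φ (T8 * π)) := by
      rw [map_mul, ← d.t_eq]; exact (d.mem_CT.1 r.2).mul_right hrπ
    obtain ⟨p, hp⟩ := isConj_iff.1 hJc
    exact hmemW r (d.transfer hp hJ hrJ)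
  obtain ⟨o, ho, y, hyu, hxy⟩ := d.exists_factor (d.πT ⟨g, d.mem_CT.2 hg⟩)
  have hmem : d.πT ⟨g, d.mem_CT.2 hg⟩ ∈ W :=
    hxy ▸ W.mul_mem (hO ho) (hmemW y (d.normV_mem (d.mem_CT.1 y.2) (d.lift_commute_ub hyu)))
  obtain ⟨x, hx, he⟩ := hmem
  rcases d.πT_eq_iff.1 he.symm with h | h
  · rw [show g = (x : G) from h]; exact hx
  · rw [show g = (x : G) * d.t from h, d.t_eq]; exact d.G0.mul_mem hx ⟨_, rfl⟩

end Ext

end Cfsg.Agent.AltEightThree
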