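/-
The centralizer of `(0 1)(2 3)(4 5)(6 7)` lies in the image of `A₈`.
-/
import Cfsg.Agent.Lib.AltEightThree.CentT
import Cfsg.Agent.S3331

set_option autoImplicit false
set_option maxRecDepth 100000
set_option synthInstance.maxSize 4000
set_option synthInstance.maxHeartbeats 400000
set_option linter.unusedSectionVars false

namespace Cfsg.Agent.AltEightThree

open Equiv Equiv.Perm

/-- Representatives of `qList` modulo `⟨J8⟩`. -/
def repImg : List (List ℕ) :=
  ([1, T8, W8, W8'].flatMap fun a => [a, a * P8, a * P8', a * (P8 * P8')]).map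
    fun q : A8 => imgs (q : Perm (Fin 8))

theorem centralizes_zP : ∀ x : Pairs, x * zP = zP * x → x * x = 1 →
    x = 1 ∨ fourL (imgs (embHom x)) = true := by
  decide +kernel

theorem two_pow_sixtyfour {π : A8} {k : ℕ} (h : π ^ 2 ^ k = 1) : π ^ 64 = 1 := by
  have h1 : orderOf π ∣ 2 ^ k := orderOf_dvd_of_pow_eq_one h
  have hcard : Nat.card A8 = 20160 := by
    have h2 := two_mul_nat_card_alternatingGroup (α := Fin 8)
    rw [Nat.card_perm, Nat.card_fin] at h2
    have h8 : Nat.factorial 8 = 40320 := by decide +kernel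
    change 2 * Nat.card A8 = _ at h2
    omega
  have h2 : orderOf π ∣ 315 * 64 := (orderOf_dvd_natCard π).trans (dvd_of_eq hcard)
  have h3 : (orderOf π).Coprime 315 :=
    Nat.Coprime.coprime_dvd_left h1 (Nat.Coprime.pow_left k (by decide))
  exact orderOf_dvd_iff_pow_eq_one.1 (h3.dvd_of_dvd_mul_left h2)

theorem perm_three_facts : ∀ a c : Perm (Fin 3), a * a = 1 →
    a * (c * a * c⁻¹) * (c * (c * a * c⁻¹) * c⁻¹) = 1 → a = 1 := by
  decide +kernel

theorem alt_five_cent : ∀ a b c : alternatingGroup (Fin 5), a * a = 1 → a ≠ 1 → b * b = 1 → b ≠ 1 →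
    b ≠ a → b * a = a * b → c * a = a * c → c = 1 ∨ c = a ∨ c = b ∨ c = a * b := by
  decide +kernel

theorem P8'_facts : P8' * J8 = J8 * P8' ∧ P8' * T8 = S8 * P8' ∧ P8' * S8 = T8 * P8' := by
  refine ⟨?_, ?_, ?_⟩ <;> exact Subtype.ext (imgs_injective (by decide +kernel))

theorem J8_eq : T8 * S8 = J8 ∧ T8 * J8 = S8 := by
  refine ⟨?_, ?_⟩ <;> exact Subtype.ext (imgs_injective (by decide +kernel))

theorem J8_sq : J8 * J8 = 1 := Subtype.ext (imgs_injective (by decide +kernel))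

theorem Y8_J8 : Y8 * J8 = J8 * Y8 := Subtype.ext (imgs_injective (by decide +kernel))
theorem T8_J8 : T8 * J8 = J8 * T8 := Subtype.ext (imgs_injective (by decide +kernel))
theorem U8_J8 : U8 * J8 = J8 * U8 := Subtype.ext (imgs_injective (by decide +kernel))
theorem W8_J8 : W8 * J8 = J8 * W8 := Subtype.ext (imgs_injective (by decide +kernel))
theorem W8'_J8 : W8' * J8 = J8 * W8' := Subtype.ext (imgs_injective (by decide +kernel))

theorem Y8_conj_imgs : imgs ((Y8 * W8 * Y8⁻¹ : A8) : Perm (Fin 8)) = imgs ((T8 : A8) : Perm (Fin 8)) ∧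
    imgs ((Y8 * T8 * Y8⁻¹ : A8) : Perm (Fin 8)) = imgs ((W8' * J8 : A8) : Perm (Fin 8)) ∧
    imgs ((Y8 * W8' * Y8⁻¹ : A8) : Perm (Fin 8)) = imgs ((W8 * J8 : A8) : Perm (Fin 8)) := by
  decide +kernel

theorem qList_Y : ∀ q ∈ qList, Y8 * q * Y8⁻¹ ∈ qList := by
  intro q hq
  have h : (qImg.all fun l => memL (compL [2, 3, 4, 5, 0, 1, 6, 7] (compL l [4, 5, 0, 1, 2, 3, 6, 7])) qImg)
      = true := by decide +kernel
  have hinv : imgs ((Y8⁻¹ : A8) : Perm (Fin 8)) = [4, 5, 0, 1, 2, 3, 6, 7] := by decide +kernel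
  have h' := List.all_eq_true.1 h _ (qImg_eq ▸ List.mem_map.2 ⟨q, hq, rfl⟩)
  rw [← img_Y, ← hinv, compL_imgs, compL_imgs] at h'
  refine mem_of_memL qImg_eq ?_
  rw [show ((Y8 * q * Y8⁻¹ : A8) : Perm (Fin 8)) =
    (Y8 : Perm (Fin 8)) * ((q : Perm (Fin 8)) * ((Y8⁻¹ : A8) : Perm (Fin 8))) by
      simp only [Subgroup.coe_mul, mul_assoc]]
  exact h'

theorem repImg_facts : repImg.Nodup ∧ (∀ l ∈ repImg, memL l qImg = true) ∧
    ∀ l ∈ repImg, compL l [1, 0, 3, 2, 5, 4, 7, 6] ∉ repImg := by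
  decide +kernel

theorem U8_not_mem : U8 ∉ qList ∧ U8 * J8 ∉ qList := by
  have h : ¬ memL [2, 3, 0, 1, 4, 5, 6, 7] qImg ∧
      ¬ memL (compL [2, 3, 0, 1, 4, 5, 6, 7] [1, 0, 3, 2, 5, 4, 7, 6]) qImg := by decide +kernel
  rw [← img_U, ← img_J, compL_imgs, ← Subgroup.coe_mul] at h
  have key : ∀ π : A8, π ∈ qList → memL (imgs (π : Perm (Fin 8))) qImg = true := fun π hπ => by
    rw [memL, List.any_eq_true]
    exact ⟨_, qImg_eq ▸ List.mem_map.2 ⟨π, hπ, rfl⟩, eqL_refl _⟩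
  exact ⟨fun hm => h.1 (key _ hm), fun hm => h.2 (key _ hm)⟩

theorem qList_J : ∀ q ∈ qList, q * J8 = J8 * q := by
  intro q hq
  have h : (qImg.all fun l => eqL (compL l [1, 0, 3, 2, 5, 4, 7, 6]) (compL [1, 0, 3, 2, 5, 4, 7, 6] l))
      = true := by decide +kernel
  have h' := List.all_eq_true.1 h _ (qImg_eq ▸ List.mem_map.2 ⟨q, hq, rfl⟩)
  rw [← img_J, compL_imgs, compL_imgs] at h'
  exact Subtype.ext (imgs_injective (eqL_eq h'))

theorem qList_pow : ∀ q ∈ qList, q ^ 2 ^ 6 = 1 := by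
  intro q hq
  have h : (qImg.all twoL64) = true := by decide +kernel
  exact twoL64_iff.1 (List.all_eq_true.1 h _ (qImg_eq ▸ List.mem_map.2 ⟨q, hq, rfl⟩))

namespace Ext

variable {G : Type*} [Group G] (d : Ext G)

/-- The centralizer of `(0 1)(2 3)(4 5)(6 7)`. -/
abbrev CJ : Subgroup G := Subgroup.centralizer ({d.φ J8} : Set G)

theorem mem_CJ {g : G} : g ∈ d.CJ ↔ Commute g (d.φ J8) :=
  Subgroup.mem_centralizer_singleton_iff

/-- The central involution of `CJ`. -/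
def jC : d.CJ := ⟨d.φ J8, d.mem_CJ.2 (Commute.refl _)⟩

instance normal_zpowers_jC : (Subgroup.zpowers d.jC).Normal := by
  refine ⟨fun n hn g => ?_⟩
  obtain ⟨k, rfl⟩ := hn
  have h : Commute g d.jC := Subtype.ext (d.mem_CJ.1 g.2)
  show g * d.jC ^ k * g⁻¹ ∈ _
  rw [(h.zpow_right k).eq, mul_inv_cancel_right]
  exact ⟨k, rfl⟩

/-- The centralizer of `(0 1)(2 3)(4 5)(6 7)` modulo the involution. -/
abbrev HJ : Type _ := d.CJ ⧸ Subgroup.zpowers d.jC

/-- The projection. -/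
abbrev πJ : d.CJ →* d.HJ := QuotientGroup.mk' (Subgroup.zpowers d.jC)

/-- An element of `A₈` centralizing `J8`, in `CJ`. -/
def cj (π : A8) (h : π * J8 = J8 * π) : d.CJ := ⟨d.φ π, d.mem_CJ.2 (d.commute_iff.2 h)⟩

@[simp] theorem coe_cj (π : A8) (h : π * J8 = J8 * π) : (d.cj π h : G) = d.φ π := rfl

theorem jJ_sq : d.φ J8 * d.φ J8 = 1 := by rw [← map_mul, J8_sq, map_one]

theorem J_eq : d.φ J8 = d.t * d.φ S8 := by rw [d.t_eq, ← map_mul, J8_eq.1]

theorem πJ_eq_one_iff {x : d.CJ} : d.πJ x = 1 ↔ (x : G) = 1 ∨ (x : G) = d.φ J8 := by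
  rw [QuotientGroup.mk'_apply, QuotientGroup.eq_one_iff]
  have h2 : d.jC ^ (2 : ℤ) = 1 := by rw [zpow_two]; exact Subtype.ext d.jJ_sq
  constructor
  · rintro ⟨k, hk⟩
    have hk' : d.jC ^ k = x := hk
    rw [← hk', ← Int.emod_add_mul_ediv k 2, zpow_add, zpow_mul, h2, one_zpow, mul_one]
    rcases Int.emod_two_eq k with e | e <;> rw [e]
    · exact Or.inl (by rw [zpow_zero]; rfl)
    · exact Or.inr (by rw [zpow_one]; rfl)
  · rintro (h | h)
    · rw [show x = 1 from Subtype.ext h]; exact Subgroup.one_mem _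
    · rw [show x = d.jC from Subtype.ext h]; exact Subgroup.mem_zpowers _

theorem πJ_eq_iff {x y : d.CJ} : d.πJ x = d.πJ y ↔ (x : G) = y ∨ (x : G) = y * d.φ J8 := by
  rw [← inv_mul_eq_one (a := d.πJ x), ← map_inv, ← map_mul, d.πJ_eq_one_iff]
  simp only [Subgroup.coe_mul, Subgroup.coe_inv, inv_mul_eq_iff_eq_mul]
  constructor
  · rintro (h | h)
    · exact Or.inl (by rw [h, mul_one])
    · exact Or.inr (by rw [h, mul_assoc, d.jJ_sq, mul_one])
  · rintro (h | h)
    · exact Or.inl (by rw [h, mul_one])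
    · exact Or.inr (by rw [h, mul_assoc, d.jJ_sq, mul_one])

/-- The image of `(0 2 4)(1 3 5)`. -/
def yb : d.HJ := d.πJ (d.cj Y8 Y8_J8)
/-- The image of `(0 1)(2 3)`. -/
def tb : d.HJ := d.πJ (d.cj T8 T8_J8)
/-- The image of `(0 1)(4 5)`. -/
def wb : d.HJ := d.πJ (d.cj W8 W8_J8)
/-- The image of `(0 1)(6 7)`. -/
def wb' : d.HJ := d.πJ (d.cj W8' W8'_J8)
/-- The image of `(0 2)(1 3)`. -/
def uJ : d.HJ := d.πJ (d.cj U8 U8_J8)

/-- The preimage of the two-group in `CJ`. -/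
def Q0 : Subgroup d.CJ := (q32.map d.φ).subgroupOf d.CJ

/-- The image of the two-group in `HJ`. -/
def EJ : Subgroup d.HJ := d.Q0.map d.πJ

theorem mem_EJ {m : d.HJ} :
    m ∈ d.EJ ↔ ∃ x : d.CJ, ∃ q ∈ qList, (x : G) = d.φ q ∧ d.πJ x = m := by
  constructor
  · rintro ⟨x, hx, rfl⟩
    obtain ⟨q, hq, hqx⟩ := hx
    exact ⟨x, q, hq, hqx.symm, rfl⟩
  · rintro ⟨x, q, hq, hx, rfl⟩
    exact ⟨x, ⟨q, hq, hx.symm⟩, rfl⟩

theorem cj_mem_EJ {π : A8} (h : π * J8 = J8 * π) (hq : π ∈ qList) : d.πJ (d.cj π h) ∈ d.EJ :=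
  d.mem_EJ.2 ⟨_, π, hq, rfl, rfl⟩

theorem tb_mem_EJ : d.tb ∈ d.EJ := d.cj_mem_EJ _ (by simp [qList, baseList])
theorem wb_mem_EJ : d.wb ∈ d.EJ := d.cj_mem_EJ _ (by simp [qList, baseList])
theorem wb'_mem_EJ : d.wb' ∈ d.EJ := d.cj_mem_EJ _ (by simp [qList, baseList])

theorem uJ_not_mem_EJ : d.uJ ∉ d.EJ := by
  intro h
  obtain ⟨x, q, hq, hx, he⟩ := d.mem_EJ.1 h
  rw [uJ, d.πJ_eq_iff, hx, coe_cj, ← map_mul] at he
  rcases he with e | e <;> rw [d.φ_inj e] at hq
  exacts [U8_not_mem.1 hq, U8_not_mem.2 hq]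

theorem EJ_conj_yb {m : d.HJ} (hm : m ∈ d.EJ) : d.yb * m * d.yb⁻¹ ∈ d.EJ := by
  obtain ⟨x, q, hq, hx, rfl⟩ := d.mem_EJ.1 hm
  refine d.mem_EJ.2 ⟨d.cj Y8 Y8_J8 * x * (d.cj Y8 Y8_J8)⁻¹, _, qList_Y q hq, ?_, by
    rw [map_mul, map_mul, map_inv]; rfl⟩
  simp only [Subgroup.coe_mul, Subgroup.coe_inv, coe_cj, hx, map_mul, map_inv]

theorem yb_conj : d.yb * d.wb * d.yb⁻¹ = d.tb ∧ d.yb * d.tb * d.yb⁻¹ = d.wb' ∧
    d.yb * d.wb' * d.yb⁻¹ = d.wb := by
  obtain ⟨h1, h2, h3⟩ := Y8_conj_imgs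
  refine ⟨?_, ?_, ?_⟩
  all_goals
    try unfold yb
    try unfold tb
    try unfold wb
    try unfold wb'
    rw [← map_inv, ← map_mul, ← map_mul, d.πJ_eq_iff]
    simp only [Subgroup.coe_mul, Subgroup.coe_inv, coe_cj, ← map_inv, ← map_mul]
  · exact Or.inl (congrArg _ (Subtype.ext (imgs_injective h1)))
  · exact Or.inr (congrArg _ (Subtype.ext (imgs_injective h2)))
  · exact Or.inr (congrArg _ (Subtype.ext (imgs_injective h3)))

theorem wb_ne_tb : d.wb ≠ d.tb ∧ d.wb' ≠ d.tb := by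
  constructor <;> intro h <;> (simp only [wb, wb', tb] at h; rw [d.πJ_eq_iff, coe_cj, coe_cj, ← map_mul] at h)
  all_goals
    rcases h with e | e
    all_goals exact absurd (congrArg (fun g : A8 => imgs (g : Perm (Fin 8))) (d.φ_inj e)) (by decide +kernel)

theorem wb_ne_wb' : d.wb ≠ d.wb' := fun h => by
  unfold wb wb' at h
  rw [d.πJ_eq_iff, coe_cj, coe_cj, ← map_mul] at h
  rcases h with e | e
  all_goals exact absurd (congrArg (fun g : A8 => imgs (g : Perm (Fin 8))) (d.φ_inj e)) (by decide +kernel)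

/-- The image of the elements of `CJ` lying in the image of `A₈`. -/
def WJ : Subgroup d.HJ := (d.G0.subgroupOf d.CJ).map d.πJ

theorem cj_mem_WJ {π : A8} (h : π * J8 = J8 * π) : d.πJ (d.cj π h) ∈ d.WJ :=
  ⟨d.cj π h, ⟨π, rfl⟩, rfl⟩

theorem EJ_le_WJ : d.EJ ≤ d.WJ := fun m hm => by
  obtain ⟨x, q, -, hx, rfl⟩ := d.mem_EJ.1 hm
  exact ⟨x, ⟨q, hx.symm⟩, rfl⟩

theorem forall_mem_G0 (h : ∀ g : d.HJ, g ∈ d.WJ) (g : d.CJ) : (g : G) ∈ d.G0 := by
  obtain ⟨x, hx, he⟩ := h (d.πJ g)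
  rcases d.πJ_eq_iff.1 he.symm with e | e
  · rw [e]; exact hx
  · rw [e]; exact d.G0.mul_mem hx ⟨_, rfl⟩

theorem tb_sq : d.tb * d.tb = 1 ∧ d.wb * d.wb = 1 ∧ d.wb * d.tb = d.tb * d.wb ∧
    d.uJ * d.tb = d.tb * d.uJ ∧ d.tb * d.wb = d.wb' := by
  refine ⟨?_, ?_, ?_, ?_, ?_⟩
  all_goals
    try unfold tb
    try unfold wb
    try unfold wb'
    try unfold uJ
    simp only [← map_mul]
  · exact d.πJ_eq_one_iff.2 (Or.inl (by
      rw [Subgroup.coe_mul, coe_cj, ← map_mul, T8_sq, map_one]))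
  · exact d.πJ_eq_one_iff.2 (Or.inl (by
      rw [Subgroup.coe_mul, coe_cj, ← map_mul,
        show W8 * W8 = 1 from Subtype.ext (imgs_injective (by decide +kernel)), map_one]))
  · exact congrArg _ (Subtype.ext (d.commute_iff.2 (Subtype.ext (imgs_injective (by decide +kernel)))).eq)
  · exact congrArg _ (Subtype.ext (d.commute_iff.2 T8_mul_U8.symm).eq)
  · refine d.πJ_eq_iff.2 (Or.inr ?_)
    simp only [Subgroup.coe_mul, coe_cj, ← map_mul]
    exact congrArg _ (Subtype.ext (imgs_injective (by decide +kernel)))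

/-- An element both of whose preimages are conjugate to `t`. -/
def TT (e : d.HJ) : Prop :=
  ∃ x : d.CJ, d.πJ x = e ∧ IsConj d.t (x : G) ∧ IsConj d.t ((x : G) * d.φ J8)

theorem TT.conj {e : d.HJ} (h : d.TT e) (g : d.HJ) : d.TT (g * e * g⁻¹) := by
  obtain ⟨x, rfl, h1, h2⟩ := h
  obtain ⟨y, rfl⟩ := QuotientGroup.mk'_surjective _ g
  refine ⟨y * x * y⁻¹, by rw [map_mul, map_mul, map_inv], ?_, ?_⟩
  · exact h1.trans (isConj_iff.2 ⟨(y : G), rfl⟩)
  · refine h2.trans (isConj_iff.2 ⟨(y : G), ?_⟩)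
    have hy : (y : G) * d.φ J8 = d.φ J8 * (y : G) := d.mem_CJ.1 y.2
    calc (y : G) * ((x : G) * d.φ J8) * (y : G)⁻¹
        = (y : G) * (x : G) * (y : G)⁻¹ * ((y : G) * d.φ J8 * (y : G)⁻¹) := by group
      _ = _ := by rw [hy, mul_inv_cancel_right]; rfl

theorem lift_commute_tb {x : d.CJ} (h : Commute (d.πJ x) d.tb) :
    (x : G) * d.t * (x : G)⁻¹ = d.t ∨ (x : G) * d.t * (x : G)⁻¹ = d.φ S8 := by
  have h' : d.πJ (x * d.cj T8 T8_J8 * x⁻¹) = d.πJ (d.cj T8 T8_J8) := by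
    rw [map_mul, map_mul, map_inv]; exact mul_inv_eq_iff_eq_mul.2 h.eq
  rw [d.πJ_eq_iff] at h'
  simp only [Subgroup.coe_mul, Subgroup.coe_inv, coe_cj, ← d.t_eq] at h'
  rw [show d.t * d.φ J8 = d.φ S8 by rw [d.t_eq, ← map_mul, J8_eq.2]] at h'
  exact h'

theorem commute_S_of {g : G} (ht : Commute g d.t) (hJ : Commute g (d.φ J8)) : Commute g (d.φ S8) := by
  rw [show d.φ S8 = d.t * d.φ J8 by rw [d.t_eq, ← map_mul, J8_eq.2]]
  exact ht.mul_right hJ

theorem commute_J_of {g : G} (ht : Commute g d.t) (hs : Commute g (d.φ S8)) : Commute g (d.φ J8) := by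
  rw [d.J_eq]; exact ht.mul_right hs

variable [Finite G]

theorem TT_tb : d.TT d.tb := by
  refine ⟨d.cj T8 T8_J8, rfl, ?_, ?_⟩
  · rw [coe_cj, ← d.t_eq]
  · rw [coe_cj, ← map_mul, J8_eq.2]; exact d.isConj_t_four S8_sq (by decide +kernel)

theorem TT_mem_EJ {e : d.HJ} (h : d.TT e) (he : e ∈ d.EJ) : e = d.tb ∨ e = d.wb ∨ e = d.wb' := by
  obtain ⟨x, q, hq, hx, rfl⟩ := d.mem_EJ.1 he
  obtain ⟨x', hx', h1, h2⟩ := h
  have hboth : IsConj d.t (d.φ q) ∧ IsConj d.t (d.φ (q * J8)) := by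
    rcases d.πJ_eq_iff.1 hx' with e | e <;> rw [e, hx] at h1 h2
    · exact ⟨h1, by rw [map_mul]; exact h2⟩
    · rw [mul_assoc, d.jJ_sq, mul_one] at h2
      exact ⟨h2, by rw [map_mul]; exact h1⟩
  obtain ⟨v, hv, hqv⟩ := tt_classes hq (d.four_of_isConj hboth.1).2 (d.four_of_isConj hboth.2).2
  have key : ∀ h : v * J8 = J8 * v, d.πJ x = d.πJ (d.cj v h) := fun h => by
    rw [d.πJ_eq_iff, coe_cj, hx]
    rcases hqv with rfl | rfl
    · exact Or.inl rfl
    · exact Or.inr (map_mul _ _ _)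
  simp only [List.mem_cons, List.not_mem_nil, or_false] at hv
  rcases hv with rfl | rfl | rfl
  · exact Or.inl (key T8_J8)
  · exact Or.inr (Or.inl (key W8_J8))
  · exact Or.inr (Or.inr (key W8'_J8))

theorem orderOf_yb : orderOf d.yb = 3 := by
  refine orderOf_eq_prime ?_ fun e => ?_
  · rw [yb, ← map_pow, d.πJ_eq_one_iff]
    refine Or.inl ?_
    rw [SubmonoidClass.coe_pow, coe_cj, ← map_pow,
      show Y8 ^ 3 = 1 by rw [pow_succ, pow_two]; exact Subtype.ext (imgs_injective (by decide +kernel)),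
      map_one]
  · rcases d.πJ_eq_one_iff.1 e with e' | e'
    · exact absurd (congrArg (fun g : A8 => imgs (g : Perm (Fin 8))) (d.φ_inj (e'.trans (map_one d.φ).symm)))
        (by decide +kernel)
    · exact absurd (congrArg (fun g : A8 => imgs (g : Perm (Fin 8))) (d.φ_inj e')) (by decide +kernel)

theorem cent_yb : Subgroup.centralizer (Subgroup.zpowers d.yb : Set d.HJ) = Subgroup.zpowers d.yb := by
  refine le_antisymm (fun g hg => ?_) ?_
  · obtain ⟨x, rfl⟩ := QuotientGroup.mk'_surjective _ g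
    have hc : Commute (d.πJ x) d.yb := (Subgroup.mem_centralizer_iff.1 hg _ (Subgroup.mem_zpowers _)).symm
    have hJY : Commute (d.φ Y8) (d.φ J8) := d.commute_iff.2 Y8_J8
    have hy3 : orderOf (d.φ Y8) = 3 := by
      rw [orderOf_injective _ d.φ_inj, ← G8_conj, orderOf_conj_eq, orderOf_D8']
    have h' : d.πJ (x * d.cj Y8 Y8_J8 * x⁻¹) = d.πJ (d.cj Y8 Y8_J8) := by
      rw [map_mul, map_mul, map_inv]; exact mul_inv_eq_iff_eq_mul.2 hc.eq
    rw [d.πJ_eq_iff] at h'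
    simp only [Subgroup.coe_mul, Subgroup.coe_inv, coe_cj] at h'
    have hxY : Commute (x : G) (d.φ Y8) := by
      rcases h' with h' | h'
      · exact mul_inv_eq_iff_eq_mul.1 h'
      · exfalso
        have h1 : orderOf (d.φ Y8 * d.φ J8) = 3 := by rw [← h', orderOf_conj_eq, hy3]
        have h2 : (d.φ Y8 * d.φ J8) ^ 3 = d.φ J8 := by
          rw [hJY.mul_pow, show d.φ Y8 ^ 3 = 1 by rw [← hy3, pow_orderOf_eq_one], one_mul, pow_succ,
            pow_two, d.jJ_sq, one_mul]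
        rw [← h1, pow_orderOf_eq_one] at h2
        exact absurd (congrArg (fun g : A8 => imgs (g : Perm (Fin 8)))
          (d.φ_inj ((map_one d.φ).trans h2))) (by decide +kernel)
    obtain ⟨π, hπ⟩ := d.mem_of_commute_Y hxY
    have hmem := cent_JY (d.commute_iff.1 (hπ ▸ d.mem_CJ.1 x.2)) (d.commute_iff.1 (hπ ▸ hxY))
    have hpow : ∀ n : ℕ, d.πJ x = d.yb ^ n → d.πJ x ∈ Subgroup.zpowers d.yb := fun n h =>
      h ▸ Subgroup.pow_mem _ (Subgroup.mem_zpowers _) n
    simp only [List.mem_cons, List.not_mem_nil, or_false] at hmem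
    rcases hmem with rfl | rfl | rfl | rfl | rfl | rfl
    · refine hpow 0 ?_
      rw [pow_zero, d.πJ_eq_one_iff, ← hπ, map_one]; exact Or.inl rfl
    · refine hpow 1 ?_
      rw [pow_one, yb, d.πJ_eq_iff, ← hπ, coe_cj]; exact Or.inl rfl
    · refine hpow 2 ?_
      rw [pow_two, yb, ← map_mul, d.πJ_eq_iff, ← hπ, Subgroup.coe_mul, coe_cj, map_mul]; exact Or.inl rfl
    · refine hpow 0 ?_
      rw [pow_zero, d.πJ_eq_one_iff, ← hπ]; exact Or.inr rfl
    · refine hpow 1 ?_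
      rw [pow_one, yb, d.πJ_eq_iff, ← hπ, coe_cj, Y8_J8.symm, map_mul]; exact Or.inr rfl
    · refine hpow 2 ?_
      rw [pow_two, yb, ← map_mul, d.πJ_eq_iff, ← hπ, Subgroup.coe_mul, coe_cj,
        show J8 * (Y8 * Y8) = Y8 * Y8 * J8 from Subtype.ext (imgs_injective (by decide +kernel)),
        map_mul, map_mul]
      exact Or.inr rfl
  · rintro g ⟨k, rfl⟩
    refine Subgroup.mem_centralizer_iff.2 fun h hh => ?_
    obtain ⟨l, rfl⟩ := hh
    exact ((Commute.refl d.yb).zpow_zpow l k).eq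

theorem tb_not_commute_yb : ¬ Commute d.yb d.tb := fun h => by
  have e := d.yb_conj.2.1
  rw [h.eq, mul_inv_cancel_right] at e
  exact d.wb_ne_tb.2 e.symm

/-- No element of order three commutes with `t` and `(4 5)(6 7)`. -/
theorem no_three {r : G} (ht : Commute r d.t) (hs : Commute r (d.φ S8)) : orderOf r ≠ 3 := by
  intro h3
  obtain ⟨g, hg⟩ := isConj_iff.1 (d.three_cent_t ht h3)
  have hc : Commute (g⁻¹ * d.φ J8 * g) d.z := by
    have hrJ := d.commute_J_of ht hs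
    rw [← hg] at hrJ
    calc g⁻¹ * d.φ J8 * g * d.z = g⁻¹ * (d.φ J8 * (g * d.z * g⁻¹)) * g := by group
      _ = g⁻¹ * (g * d.z * g⁻¹ * d.φ J8) * g := by rw [hrJ.eq]
      _ = d.z * (g⁻¹ * d.φ J8 * g) := by group
  obtain ⟨x, hx⟩ := d.toCfg.mem_of_commute hc
  have h2 : x * x = 1 := d.inj (by
    rw [map_mul, map_one, hx, show g⁻¹ * d.φ J8 * g * (g⁻¹ * d.φ J8 * g)
      = g⁻¹ * (d.φ J8 * d.φ J8) * g by group, d.jJ_sq, mul_one, inv_mul_cancel])
  have hJc : IsConj (d.φ J8) (d.ψ x) := isConj_iff.2 ⟨g⁻¹, by rw [hx, inv_inv]⟩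
  rcases centralizes_zP x (d.toCfg.commute_iff.1 (hx ▸ hc)) h2 with rfl | h4
  · rw [map_one, isConj_one_left] at hJc
    exact absurd (congrArg (fun g : A8 => imgs (g : Perm (Fin 8))) (d.φ_inj (hJc.trans (map_one d.φ).symm)))
      (by decide +kernel)
  · have h4' : IsConj d.t (d.φ (emb x)) := d.isConj_t_four (π := emb x)
      (by rw [← map_mul, h2, map_one]) h4
    rw [d.φ_emb] at h4'
    exact d.not_isConj_t_J (h4'.trans hJc.symm)

/-- The triviality of the elements of odd order commuting with `t` and `(4 5)(6 7)`. -/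
def NoR : Prop := ∀ r : G, Commute r d.t → Commute r (d.φ S8) → Odd (orderOf r) → r = 1

theorem mem_of_commute_tb (hR : d.NoR) {x : d.CJ} (h : Commute (d.πJ x) d.tb) : (x : G) ∈ d.G0 := by
  rcases d.lift_commute_tb h with h' | h'
  · have ht : Commute (x : G) d.t := mul_inv_eq_iff_eq_mul.1 h'
    exact d.centTS_mem hR ht (d.commute_S_of ht (d.mem_CJ.1 x.2))
  · obtain ⟨hPJ, hPT, hPS⟩ := P8'_facts
    have hconj : d.φ P8' * d.φ S8 * (d.φ P8')⁻¹ = d.t := by rw [d.t_eq]; exact d.conj_iff.2 hPS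
    have ht : Commute (d.φ P8' * (x : G)) d.t := mul_inv_eq_iff_eq_mul.1 (by
      rw [show d.φ P8' * (x : G) * d.t * (d.φ P8' * (x : G))⁻¹
        = d.φ P8' * ((x : G) * d.t * (x : G)⁻¹) * (d.φ P8')⁻¹ by group, h', hconj])
    have hJ : Commute (d.φ P8' * (x : G)) (d.φ J8) :=
      (d.commute_iff.2 hPJ).mul_left (d.mem_CJ.1 x.2)
    have := d.G0.mul_mem (d.G0.inv_mem ⟨P8', rfl⟩) (d.centTS_mem hR ht (d.commute_S_of ht hJ))
    simpa using this

theorem pow_two_mem_EJ (hR : d.NoR) {M : Subgroup d.HJ} (hM : M.Normal) (h2 : IsPGroup 2 M)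
    {m : d.HJ} (hm : m ∈ M) (hc : Commute m d.tb) : m ∈ d.EJ := by
  obtain ⟨x, rfl⟩ := QuotientGroup.mk'_surjective _ m
  obtain ⟨π, hπ⟩ := d.mem_of_commute_tb hR hc
  have hπJ : π * J8 = J8 * π := d.commute_iff.1 (hπ ▸ d.mem_CJ.1 x.2)
  have hπT : π * T8 = T8 * π ∨ π * T8 = S8 * π := by
    have h := d.lift_commute_tb hc
    rw [← hπ, d.t_eq, d.conj_iff, d.conj_iff] at h
    exact h
  have key : ∀ (y : d.CJ) (ρ : A8), (y : G) = d.φ ρ → d.πJ y ∈ M → ρ ^ 64 = 1 := by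
    intro y ρ hy hyM
    obtain ⟨k, hk⟩ := h2 ⟨_, hyM⟩
    have hk' : d.πJ (y ^ 2 ^ k) = 1 := by rw [map_pow]; exact congrArg Subtype.val hk
    refine two_pow_sixtyfour (k := k + 1) (d.φ_inj ?_)
    rw [pow_succ, pow_mul, map_pow, map_one]
    rcases d.πJ_eq_one_iff.1 hk' with e | e <;> rw [SubmonoidClass.coe_pow, hy, ← map_pow] at e <;>
      rw [e, pow_two]
    · exact one_mul 1
    · exact d.jJ_sq
  have h1 := key x π hπ.symm hm
  have h2' := key (x * (d.cj Y8 Y8_J8 * x * (d.cj Y8 Y8_J8)⁻¹)) (π * (Y8 * π * Y8⁻¹))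
    (by simp only [Subgroup.coe_mul, Subgroup.coe_inv, coe_cj, ← hπ, map_mul, map_inv])
    (by rw [map_mul, map_mul, map_mul, map_inv]; exact M.mul_mem hm (hM.conj_mem _ hm _))
  exact d.mem_EJ.2 ⟨x, π, stab_Y hπJ hπT h1 h2', hπ.symm, rfl⟩

/-- Lifting an element of odd order. -/
theorem exists_odd_lift {m : d.HJ} (hm : Odd (orderOf m)) :
    ∃ x : d.CJ, d.πJ x = m ∧ Odd (orderOf (x : G)) := by
  obtain ⟨x, rfl⟩ := QuotientGroup.mk'_surjective _ m
  set k := orderOf (d.πJ x) with hk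
  have h := pow_orderOf_eq_one (d.πJ x)
  rw [← map_pow, d.πJ_eq_one_iff, SubmonoidClass.coe_pow, ← hk] at h
  rcases h with h | h
  · exact ⟨x, rfl, hm.of_dvd_nat (orderOf_dvd_of_pow_eq_one h)⟩
  · refine ⟨x * d.jC, ?_, hm.of_dvd_nat (orderOf_dvd_of_pow_eq_one ?_)⟩
    · rw [map_mul, show d.πJ d.jC = 1 from d.πJ_eq_one_iff.2 (Or.inr rfl), mul_one]
    · obtain ⟨n, hn⟩ := hm
      show ((x : G) * d.φ J8) ^ k = 1
      rw [(d.mem_CJ.1 x.2).mul_pow, h, hn, pow_succ, pow_mul, pow_two, d.jJ_sq, one_pow, one_mul,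
        d.jJ_sq]

theorem commute_t_of_odd {x : d.CJ} (hx : Odd (orderOf (x : G))) (h : Commute (d.πJ x) d.tb) :
    Commute (x : G) d.t := by
  rcases d.lift_commute_tb h with h' | h'
  · exact mul_inv_eq_iff_eq_mul.1 h'
  · obtain ⟨n, hn⟩ := hx
    have hxJ := d.mem_CJ.1 x.2
    have hs' : (x : G) * d.φ S8 * (x : G)⁻¹ = d.t := by
      have e : d.φ S8 = d.t * d.φ J8 := by rw [d.t_eq, ← map_mul, J8_eq.2]
      rw [e]
      calc (x : G) * (d.t * d.φ J8) * (x : G)⁻¹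
          = ((x : G) * d.t * (x : G)⁻¹) * ((x : G) * d.φ J8 * (x : G)⁻¹) := by group
        _ = d.φ S8 * d.φ J8 := by rw [h', hxJ.eq, mul_inv_cancel_right]
        _ = d.t := by rw [e, mul_assoc, d.jJ_sq, mul_one]
    have h2 : Commute ((x : G) ^ 2) d.t := mul_inv_eq_iff_eq_mul.1 (by
      rw [pow_two, show (x : G) * (x : G) * d.t * ((x : G) * (x : G))⁻¹
        = (x : G) * ((x : G) * d.t * (x : G)⁻¹) * (x : G)⁻¹ by group, h', hs'])
    have e : (x : G) = ((x : G) ^ 2) ^ (n + 1) := by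
      rw [← pow_mul, show 2 * (n + 1) = (2 * n + 1) + 1 by ring, pow_succ, ← hn, pow_orderOf_eq_one,
        one_mul]
    rw [e]
    exact h2.pow_left _

theorem nilpotent_case (N : Subgroup d.HJ) (hN : N.Normal) (hnil : Group.IsNilpotent N)
    (hcop : (Nat.card N).Coprime 3)
    (hq : Nat.card (d.HJ ⧸ N) = 3 ∨ Nonempty (d.HJ ⧸ N ≃* Equiv.Perm (Fin 3))) :
    ∀ g : d.CJ, (g : G) ∈ d.G0 := by
  have := hN
  have hNy : d.yb ∉ N := fun h => by
    have h' := Subgroup.orderOf_dvd_natCard N h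
    rw [d.orderOf_yb] at h'
    exact (Nat.prime_three.coprime_iff_not_dvd.1 hcop.symm) h'
  have hq6 : Nat.card (d.HJ ⧸ N) ∣ 6 := by
    rcases hq with h | ⟨⟨e⟩⟩
    · rw [h]; decide
    · rw [Nat.card_congr e.toEquiv, Nat.card_perm, Nat.card_fin]; decide
  set p := QuotientGroup.mk' N with hp
  obtain ⟨hc1, hc2, hc3⟩ := d.yb_conj
  have htbN : d.tb ∈ N := by
    rw [← QuotientGroup.eq_one_iff (N := N)]
    show p d.tb = 1
    have hsq : p d.tb * p d.tb = 1 := by rw [← map_mul, d.tb_sq.1, map_one]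
    rcases hq with h | ⟨⟨e⟩⟩
    · have h3 : orderOf (p d.tb) ∣ 3 := h ▸ orderOf_dvd_natCard _
      have h2 : orderOf (p d.tb) ∣ 2 := orderOf_dvd_of_pow_eq_one (by rw [pow_two, hsq])
      exact orderOf_eq_one_iff.1 (Nat.dvd_one.1 (Nat.dvd_gcd h2 h3))
    · refine e.injective (Eq.trans ?_ (map_one e).symm)
      refine perm_three_facts _ (e (p d.yb)) (by rw [← map_mul, hsq, map_one]) ?_
      simp only [← map_inv, ← map_mul]
      rw [show d.tb * (d.yb * d.tb * d.yb⁻¹) * (d.yb * (d.yb * d.tb * d.yb⁻¹) * d.yb⁻¹) = 1 by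
        rw [hc2, hc3, ← d.tb_sq.2.2.2.2, mul_assoc, mul_assoc, d.tb_sq.2.1, mul_one, d.tb_sq.1],
        map_one, map_one]
  have hwbN' : d.wb' ∈ N := hc2 ▸ hN.conj_mem _ htbN _
  have hwbN : d.wb ∈ N := hc3 ▸ hN.conj_mem _ hwbN' _
  -- elements of odd order of `N` are trivial
  have hodd : ∀ m ∈ N, Odd (orderOf m) → m = 1 := by
    have hcomm : ∀ m ∈ N, Odd (orderOf m) → Commute m d.tb := fun m hm ho => by
      have := hnil
      have h := CN.commute_of_isNilpotent (G := N) (a := ⟨m, hm⟩) (b := ⟨d.tb, htbN⟩)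
        (by
          rw [← Subgroup.orderOf_coe, ← Subgroup.orderOf_coe]
          exact Nat.Coprime.coprime_dvd_right
            (orderOf_dvd_of_pow_eq_one (by rw [pow_two]; exact d.tb_sq.1))
            (Nat.coprime_two_right.2 ho))
      exact congrArg Subtype.val h.eq
    have hinv : ∀ m ∈ N, Odd (orderOf m) → d.uJ * m * d.uJ⁻¹ = m⁻¹ := by
      intro m hm ho
      obtain ⟨x, rfl, hx⟩ := d.exists_odd_lift ho
      have ht := d.commute_t_of_odd hx (hcomm _ hm ho)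
      have h := d.odd_inverted ht (d.commute_S_of ht (d.mem_CJ.1 x.2)) hx
      rw [uJ, ← map_inv, ← map_mul, ← map_mul, ← map_inv]
      refine congrArg _ (Subtype.ext ?_)
      simp only [Subgroup.coe_mul, Subgroup.coe_inv, coe_cj, ← d.u_eq]
      exact h
    intro m hm ho
    have hm' := hN.conj_mem _ hm d.yb⁻¹
    rw [inv_inv] at hm'
    have ho' : Odd (orderOf (d.yb⁻¹ * m * d.yb)) := by
      have := orderOf_conj_eq d.yb⁻¹ m
      rw [inv_inv] at this
      rwa [this]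
    have h1 : (d.yb * d.uJ * d.yb⁻¹) * m * (d.yb * d.uJ * d.yb⁻¹)⁻¹ = m⁻¹ := by
      calc (d.yb * d.uJ * d.yb⁻¹) * m * (d.yb * d.uJ * d.yb⁻¹)⁻¹
          = d.yb * (d.uJ * (d.yb⁻¹ * m * d.yb) * d.uJ⁻¹) * d.yb⁻¹ := by group
        _ = d.yb * (d.yb⁻¹ * m * d.yb)⁻¹ * d.yb⁻¹ := by rw [hinv _ hm' ho']
        _ = m⁻¹ := by group
    have hprod : d.uJ * (d.yb * d.uJ * d.yb⁻¹) = d.yb := by
      unfold uJ yb
      rw [← map_inv, ← map_mul, ← map_mul, ← map_mul]
      refine congrArg _ (Subtype.ext ?_)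
      simp only [Subgroup.coe_mul, Subgroup.coe_inv, coe_cj]
      rw [← map_inv, ← map_mul, ← map_mul, ← map_mul]
      exact congrArg _ (Subtype.ext (imgs_injective (by decide +kernel)))
    have h2 : d.yb * m * d.yb⁻¹ = m := by
      calc d.yb * m * d.yb⁻¹
          = d.uJ * (d.yb * d.uJ * d.yb⁻¹) * m * (d.uJ * (d.yb * d.uJ * d.yb⁻¹))⁻¹ := by rw [hprod]
        _ = d.uJ * ((d.yb * d.uJ * d.yb⁻¹) * m * (d.yb * d.uJ * d.yb⁻¹)⁻¹) * d.uJ⁻¹ := by group
        _ = (d.uJ * m * d.uJ⁻¹)⁻¹ := by rw [h1]; group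
        _ = m := by rw [hinv m hm ho, inv_inv]
    have hmem : m ∈ Subgroup.centralizer (Subgroup.zpowers d.yb : Set d.HJ) :=
      Subgroup.mem_centralizer_iff.2 fun k hk => by
        obtain ⟨l, rfl⟩ := hk
        exact ((show Commute d.yb m from mul_inv_eq_iff_eq_mul.1 h2).zpow_left l).eq
    rw [d.cent_yb] at hmem
    have h3 : orderOf m ∣ 3 := by
      exact (Subgroup.orderOf_dvd_natCard _ hmem).trans
        (dvd_of_eq ((Nat.card_zpowers _).trans d.orderOf_yb))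
    exact orderOf_eq_one_iff.1 (Nat.eq_one_of_dvd_coprimes hcop (Subgroup.orderOf_dvd_natCard N hm) h3)
  have h2N : IsPGroup 2 N := fun a => by
    obtain ⟨k, l, hl, he⟩ := Nat.exists_eq_two_pow_mul_odd (orderOf_pos (a : d.HJ)).ne'
    refine ⟨k, Subtype.ext ?_⟩
    refine hodd _ (a ^ 2 ^ k).2 (hl.of_dvd_nat (orderOf_dvd_of_pow_eq_one ?_))
    show (((a ^ 2 ^ k : N) : d.HJ)) ^ l = 1
    rw [SubmonoidClass.coe_pow, ← pow_mul, ← he, pow_orderOf_eq_one]
  have hR : d.NoR := by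
    intro r ht hs ho
    let x : d.CJ := ⟨r, d.mem_CJ.2 (d.commute_J_of ht hs)⟩
    have hx : Odd (orderOf (d.πJ x)) :=
      ho.of_dvd_nat ((orderOf_map_dvd d.πJ x).trans (dvd_of_eq (orderOf_submonoid x).symm))
    have h6 : d.πJ x ^ 6 = 1 := by
      refine hodd _ ?_ (hx.of_dvd_nat (orderOf_pow_dvd _))
      rw [← QuotientGroup.eq_one_iff (N := N)]
      show p (d.πJ x ^ 6) = 1
      rw [map_pow]
      exact orderOf_dvd_iff_pow_eq_one.1 ((orderOf_dvd_natCard _).trans hq6)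
    have h12 : r ^ 12 = 1 := by
      rw [← map_pow, d.πJ_eq_one_iff] at h6
      rw [show r ^ 12 = (r ^ 6) ^ 2 by rw [← pow_mul]]
      rcases h6 with e | e <;> rw [show r ^ 6 = _ from e, pow_two]
      · exact one_mul 1
      · exact d.jJ_sq
    have h3 : orderOf r ∣ 3 := by
      have hc : (orderOf r).Coprime 4 :=
        Nat.Coprime.pow_right 2 (Nat.coprime_two_right.2 ho)
      exact hc.dvd_of_dvd_mul_left (orderOf_dvd_of_pow_eq_one (n := 4 * 3) h12)
    rcases (Nat.dvd_prime Nat.prime_three).1 h3 with e | e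
    · exact orderOf_eq_one_iff.1 e
    · exact absurd e (d.no_three ht hs)
  have hC : ∀ m ∈ N, Commute m d.tb → m ∈ d.EJ := fun m hm hc => d.pow_two_mem_EJ hR hN h2N hm hc
  have hyinv : d.yb⁻¹ = d.yb * d.yb := inv_eq_of_mul_eq_one_right (by
    rw [← mul_assoc, ← pow_two, ← pow_succ, show 2 + 1 = 3 from rfl, ← d.orderOf_yb, pow_orderOf_eq_one])
  have hEinv : ∀ m ∈ d.EJ, d.yb⁻¹ * m * d.yb ∈ d.EJ := fun m hm => by
    have h := d.EJ_conj_yb (d.EJ_conj_yb hm)
    rw [show d.yb * (d.yb * m * d.yb⁻¹) * d.yb⁻¹ = d.yb * d.yb * m * (d.yb * d.yb)⁻¹ by group,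
      ← hyinv, inv_inv] at h
    exact h
  have hNE : N ≤ d.EJ := by
    by_contra hle
    have := h2N.isNilpotent
    have hlt : (d.EJ).subgroupOf N < ⊤ :=
      lt_top_iff_ne_top.2 fun e => hle (Subgroup.subgroupOf_eq_top.1 e)
    obtain ⟨n, hn, hnE⟩ := SetLike.exists_of_lt (Group.normalizerCondition_of_isNilpotent (G := N) _ hlt)
    refine hnE ?_
    show (n : d.HJ) ∈ d.EJ
    have hmove : ∀ v, v ∈ d.EJ → v ∈ N → (n : d.HJ) * v * (n : d.HJ)⁻¹ ∈ d.EJ := fun v hv hvN =>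
      (Subgroup.mem_normalizer_iff.1 hn ⟨v, hvN⟩).1 hv
    have TTwb : d.TT d.wb := by
      have h := (d.TT_tb.conj d d.yb⁻¹)
      rwa [inv_inv, show d.yb⁻¹ * d.tb * d.yb = d.wb by rw [← hc1]; group] at h
    have TTwb' : d.TT d.wb' := hc2 ▸ d.TT_tb.conj d d.yb
    have i1 := d.TT_mem_EJ (d.TT_tb.conj d n) (hmove _ d.tb_mem_EJ htbN)
    have i2 := d.TT_mem_EJ (TTwb.conj d n) (hmove _ d.wb_mem_EJ hwbN)
    have i3 := d.TT_mem_EJ (TTwb'.conj d n) (hmove _ d.wb'_mem_EJ hwbN')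
    have inj : ∀ v v' : d.HJ, (n : d.HJ) * v * (n : d.HJ)⁻¹ = (n : d.HJ) * v' * (n : d.HJ)⁻¹ → v = v' :=
      fun v v' h => mul_left_cancel (mul_right_cancel h)
    have fix1 : (n : d.HJ) * d.tb * (n : d.HJ)⁻¹ = d.tb → (n : d.HJ) ∈ d.EJ := fun h =>
      hC _ n.2 (mul_inv_eq_iff_eq_mul.1 h)
    have fix2 : (n : d.HJ) * d.wb * (n : d.HJ)⁻¹ = d.wb → (n : d.HJ) ∈ d.EJ := fun h => by
      have hc : Commute (d.yb * (n : d.HJ) * d.yb⁻¹) d.tb := by
        refine mul_inv_eq_iff_eq_mul.1 ?_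
        conv_lhs => rw [← hc1]
        calc _ = d.yb * ((n : d.HJ) * d.wb * (n : d.HJ)⁻¹) * d.yb⁻¹ := by group
          _ = d.tb := by rw [h, hc1]
      simpa [mul_assoc] using hEinv _ (hC _ (hN.conj_mem _ n.2 _) hc)
    have fix3 : (n : d.HJ) * d.wb' * (n : d.HJ)⁻¹ = d.wb' → (n : d.HJ) ∈ d.EJ := fun h => by
      have e : d.yb * d.yb * d.wb' * (d.yb * d.yb)⁻¹ = d.tb := by
        rw [← hc1, ← hc3]; group
      have hc : Commute (d.yb * d.yb * (n : d.HJ) * (d.yb * d.yb)⁻¹) d.tb := by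
        refine mul_inv_eq_iff_eq_mul.1 ?_
        conv_lhs => rw [← e]
        calc _ = d.yb * d.yb * ((n : d.HJ) * d.wb' * (n : d.HJ)⁻¹) * (d.yb * d.yb)⁻¹ := by group
          _ = d.tb := by rw [h, e]
      simpa [mul_assoc] using hEinv _ (hEinv _ (hC _ (hN.conj_mem _ n.2 _) hc))
    have cycle : ∀ a b : d.HJ, (n : d.HJ) * d.tb * (n : d.HJ)⁻¹ = a →
        (n : d.HJ) * a * (n : d.HJ)⁻¹ = b → (n : d.HJ) * b * (n : d.HJ)⁻¹ = d.tb →
        (n : d.HJ) ∈ d.EJ := fun a b ha hb hc => by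
      have h3 : Commute ((n : d.HJ) ^ 3) d.tb := mul_inv_eq_iff_eq_mul.1 (by
        calc (n : d.HJ) ^ 3 * d.tb * ((n : d.HJ) ^ 3)⁻¹
            = (n : d.HJ) * ((n : d.HJ) * ((n : d.HJ) * d.tb * (n : d.HJ)⁻¹) * (n : d.HJ)⁻¹)
              * (n : d.HJ)⁻¹ := by simp only [pow_succ, pow_zero, one_mul]; group
          _ = d.tb := by rw [ha, hb, hc])
      obtain ⟨k, hk⟩ := h2N n
      have hk' : (n : d.HJ) ^ 2 ^ k = 1 := congrArg Subtype.val hk
      have hgcd := Nat.gcd_eq_gcd_ab 3 (2 ^ k)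
      rw [show Nat.gcd 3 (2 ^ k) = 1 from Nat.Coprime.pow_right k (by decide)] at hgcd
      rw [← zpow_one (n : d.HJ), show (1 : ℤ) = _ from hgcd, zpow_add, zpow_mul, zpow_mul,
        zpow_natCast, zpow_natCast, hk', one_zpow, mul_one]
      exact d.EJ.zpow_mem (hC _ (N.pow_mem n.2 3) h3) _
    rcases i1 with h1 | h1 | h1
    · exact fix1 h1
    · rcases i2 with h2' | h2' | h2'
      · refine fix3 ?_
        rcases i3 with h3' | h3' | h3'
        · exact absurd (inj _ _ (h3'.trans h2'.symm)) d.wb_ne_wb'.symm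
        · exact absurd (inj _ _ (h3'.trans h1.symm)) d.wb_ne_tb.2
        · exact h3'
      · exact absurd (inj _ _ (h2'.trans h1.symm)) d.wb_ne_tb.1
      · rcases i3 with h3' | h3' | h3'
        · exact cycle _ _ h1 h2' h3'
        · exact absurd (inj _ _ (h3'.trans h1.symm)) d.wb_ne_tb.2
        · exact fix3 h3'
    · rcases i3 with h3' | h3' | h3'
      · refine fix2 ?_
        rcases i2 with h2' | h2' | h2'
        · exact absurd (inj _ _ (h2'.trans h3'.symm)) d.wb_ne_wb'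
        · exact h2'
        · exact absurd (inj _ _ (h2'.trans h1.symm)) d.wb_ne_tb.1
      · rcases i2 with h2' | h2' | h2'
        · exact cycle _ _ h1 h3' h2'
        · exact fix2 h2'
        · exact absurd (inj _ _ (h2'.trans h1.symm)) d.wb_ne_tb.1
      · exact absurd (inj _ _ (h3'.trans h1.symm)) d.wb_ne_tb.2
  -- the quotient is generated by the images of `yb` and `uJ`
  refine d.forall_mem_G0 fun g => ?_
  have hy3 : orderOf (p d.yb) = 3 := by
    refine orderOf_eq_prime ?_ fun e => hNy ((QuotientGroup.eq_one_iff _).1 e)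
    rw [← map_pow, ← d.orderOf_yb, pow_orderOf_eq_one, map_one]
  have hu2 : orderOf (p d.uJ) = 2 := by
    refine orderOf_eq_prime ?_ fun e => d.uJ_not_mem_EJ (hNE ((QuotientGroup.eq_one_iff _).1 e))
    rw [← map_pow, show d.uJ ^ 2 = 1 by
      rw [uJ, ← map_pow, d.πJ_eq_one_iff, SubmonoidClass.coe_pow, coe_cj, pow_two, ← map_mul, U8_sq,
        map_one]
      exact Or.inl rfl, map_one]
  have hW : ((d.WJ).map p) = ⊤ := by
    refine Subgroup.eq_top_of_le_card _ (Nat.le_of_dvd Nat.card_pos (hq6.trans ?_))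
    refine Nat.Coprime.mul_dvd_of_dvd_of_dvd (m := 2) (n := 3) (by decide) ?_ ?_
    · exact hu2 ▸ Subgroup.orderOf_dvd_natCard _ ⟨_, d.cj_mem_WJ U8_J8, rfl⟩
    · exact hy3 ▸ Subgroup.orderOf_dvd_natCard _ ⟨_, d.cj_mem_WJ Y8_J8, rfl⟩
  have hle : N ≤ d.WJ := hNE.trans d.EJ_le_WJ
  obtain ⟨w, hw, he⟩ := (hW ▸ Subgroup.mem_top (p g) : p g ∈ (d.WJ).map p)
  have h1 : w⁻¹ * g ∈ N := by
    rw [← QuotientGroup.eq_one_iff (N := N)]
    show p (w⁻¹ * g) = 1
    rw [map_mul, map_inv, he, inv_mul_cancel]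
  have := d.WJ.mul_mem hw (hle h1)
  rwa [mul_inv_cancel_left] at this

theorem five_case (N : Subgroup d.HJ) (hN : N.Normal) (hab : IsMulCommutative N)
    (hsq : ∀ n ∈ N, n ^ 2 = 1) (e : d.HJ ⧸ N ≃* alternatingGroup (Fin 5)) : False := by
  have := hN
  let θ : d.HJ →* alternatingGroup (Fin 5) := e.toMonoidHom.comp (QuotientGroup.mk' N)
  have hθ : ∀ m, θ m = 1 ↔ m ∈ N := fun m => by
    show e (QuotientGroup.mk' N m) = 1 ↔ _
    rw [MulEquiv.map_eq_one_iff, QuotientGroup.mk'_apply, QuotientGroup.eq_one_iff]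
  have hsurj : Function.Surjective θ := e.surjective.comp (QuotientGroup.mk'_surjective N)
  have hsimple : IsSimpleGroup (alternatingGroup (Fin 5)) := alternatingGroup.isSimpleGroup (by simp)
  have h60 : Nat.card (alternatingGroup (Fin 5)) = 60 := by
    have h2 := two_mul_nat_card_alternatingGroup (α := Fin 5)
    rw [Nat.card_perm, Nat.card_fin, show Nat.factorial 5 = 120 by decide] at h2
    omega
  have h2N : IsPGroup 2 N := fun a => ⟨1, Subtype.ext (by rw [pow_one]; exact hsq _ a.2)⟩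
  have hodd1 : ∀ m ∈ N, Odd (orderOf m) → m = 1 := fun m hm ho =>
    orderOf_eq_one_iff.1 (Nat.eq_one_of_dvd_coprimes (Nat.coprime_two_right.2 ho) dvd_rfl
      (orderOf_dvd_of_pow_eq_one (hsq m hm)))
  obtain ⟨hc1, hc2, hc3⟩ := d.yb_conj
  obtain ⟨ht2, hw2, hwt, hut, htw⟩ := d.tb_sq
  by_cases htN : d.tb ∈ N
  · have hcomm : ∀ m ∈ N, Commute m d.tb := fun m hm => by
      have := hab.is_comm.comm ⟨m, hm⟩ ⟨d.tb, htN⟩
      exact congrArg Subtype.val this
    set CN := Subgroup.centralizer (N : Set d.HJ) with hCN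
    have hCNn : CN.Normal := inferInstance
    have hCNle : CN ≤ N := by
      intro m hm
      rcases (hCNn.map θ hsurj).eq_bot_or_eq_top with h | h
      · exact (hθ m).1 (Subgroup.mem_bot.1 (h ▸ ⟨m, hm, rfl⟩ : θ m ∈ (⊥ : Subgroup _)))
      · exfalso
        obtain ⟨y, hy, hye⟩ := (h ▸ Subgroup.mem_top (θ d.yb) : θ d.yb ∈ CN.map θ)
        have hyN : y⁻¹ * d.yb ∈ N := (hθ _).1 (by rw [map_mul, map_inv, hye, inv_mul_cancel])
        have h1 : Commute y d.tb := (Subgroup.mem_centralizer_iff.1 hy _ htN).symm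
        exact d.tb_not_commute_yb (by
          have := h1.mul_left (hcomm _ hyN)
          rwa [mul_inv_cancel_left] at this)
    have hR : d.NoR := by
      intro r ht hs ho
      let x : d.CJ := ⟨r, d.mem_CJ.2 (d.commute_J_of ht hs)⟩
      have hrN : ∀ n ∈ N, Commute n (d.πJ x) := by
        intro n hn
        obtain ⟨y, rfl⟩ := QuotientGroup.mk'_surjective _ n
        have hyJ := d.mem_CJ.1 y.2
        set r' : G := (y : G) * r * (y : G)⁻¹ with hr'
        have hr'o : Odd (orderOf r') := by rw [hr', orderOf_conj_eq]; exact ho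
        have hr'ts : Commute r' d.t ∧ Commute r' (d.φ S8) := by
          have c1 : Commute r' ((y : G) * d.t * (y : G)⁻¹) := by
            have := ht.map (MulAut.conj (y : G))
            simpa only [MulAut.conj_apply] using this
          have c2 : Commute r' (d.φ J8) := by
            have := (d.commute_J_of ht hs).map (MulAut.conj (y : G))
            simp only [MulAut.conj_apply] at this
            rwa [hyJ.eq, mul_inv_cancel_right] at this
          rcases d.lift_commute_tb (hcomm _ hn) with h' | h' <;> rw [h'] at c1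
          · exact ⟨c1, d.commute_S_of c1 c2⟩
          · refine ⟨?_, c1⟩
            have := c1.mul_right c2
            rwa [show d.φ S8 * d.φ J8 = d.t by
              rw [d.t_eq, ← map_mul]
              exact congrArg _ (Subtype.ext (imgs_injective (by decide +kernel)))] at this
        let yr : d.CJ := y * x * y⁻¹ * x⁻¹
        have hyrN : d.πJ yr ∈ N := by
          rw [map_mul, map_mul, map_mul, map_inv, map_inv,
            show d.πJ y * d.πJ x * (d.πJ y)⁻¹ * (d.πJ x)⁻¹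
              = d.πJ y * (d.πJ x * (d.πJ y)⁻¹ * (d.πJ x)⁻¹) by group]
          exact N.mul_mem hn (hN.conj_mem _ (N.inv_mem hn) _)
        have h4 : (r' * r⁻¹) ^ 4 = 1 := by
          have := hsq _ hyrN
          rw [← map_pow, d.πJ_eq_one_iff, SubmonoidClass.coe_pow] at this
          rw [show (r' * r⁻¹) ^ 4 = ((r' * r⁻¹) ^ 2) ^ 2 by rw [← pow_mul],
            show r' * r⁻¹ = ((yr : d.CJ) : G) from rfl]
          rcases this with e | e <;> rw [e, pow_two]
          · exact one_mul 1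
          · exact d.jJ_sq
        let rc : d.CT := ⟨r, d.mem_CT.2 ht⟩
        let rc' : d.CT := ⟨r', d.mem_CT.2 hr'ts.1⟩
        have hOT : d.πT (rc' * rc⁻¹) = 1 := by
          refine d.OT_pow (n := 2) ?_ ?_
          · rw [map_mul, map_inv]
            exact d.OT.mul_mem (d.odd_mem_OT hr'ts.1 hr'ts.2 hr'o) (d.OT.inv_mem (d.odd_mem_OT ht hs ho))
          · rw [← map_pow, show (rc' * rc⁻¹) ^ 2 ^ 2 = 1 from Subtype.ext h4, map_one]
        rcases d.πT_eq_one_iff.1 hOT with h' | h'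
        · refine mul_inv_eq_iff_eq_mul.1 ?_
          rw [← map_inv, ← map_mul, ← map_mul]
          exact congrArg _ (Subtype.ext (mul_inv_eq_one.1 h'))
        · exfalso
          have e : r' = d.t * r := mul_inv_eq_iff_eq_mul.1 h'
          obtain ⟨a, ha⟩ := ho
          have h1 : r' ^ orderOf r = 1 := by
            rw [hr', conj_pow, pow_orderOf_eq_one, mul_one, mul_inv_cancel]
          rw [e, (show Commute d.t r from ht.symm).mul_pow, pow_orderOf_eq_one, mul_one, ha, pow_succ,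
            pow_mul, pow_two, d.t_sq, one_pow, one_mul] at h1
          exact d.map_ne_one (by decide +kernel : tP ≠ 1) h1
      have hx : d.πJ x ∈ N := hCNle (Subgroup.mem_centralizer_iff.2 fun n hn => (hrN n hn).eq)
      have h1 := hodd1 _ hx (ho.of_dvd_nat ((orderOf_map_dvd d.πJ x).trans (dvd_of_eq (orderOf_submonoid x).symm)))
      rcases d.πJ_eq_one_iff.1 h1 with e | e
      · exact e
      · exfalso
        obtain ⟨a, ha⟩ := ho
        have := pow_orderOf_eq_one r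
        rw [ha, show r = d.φ J8 from e, pow_succ, pow_mul, pow_two, d.jJ_sq, one_pow, one_mul,
          ← map_one d.φ] at this
        exact absurd (congrArg (fun g : A8 => imgs (g : Perm (Fin 8))) (d.φ_inj this)) (by decide +kernel)
    have hNE : N ≤ d.EJ := fun m hm => d.pow_two_mem_EJ hR hN h2N hm (hcomm m hm)
    -- the centralizer of `tb` has index at most three
    set C := Subgroup.centralizer ({d.tb} : Set d.HJ) with hC
    have hTT : ∀ g : d.HJ, g * d.tb * g⁻¹ = d.tb ∨ g * d.tb * g⁻¹ = d.wb ∨ g * d.tb * g⁻¹ = d.wb' :=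
      fun g => d.TT_mem_EJ (d.TT_tb.conj d g) (hNE (hN.conj_mem _ htN g))
    let f : d.HJ ⧸ C → ({d.tb, d.wb, d.wb'} : Set d.HJ) := fun q => ⟨q.out * d.tb * q.out⁻¹, by
      simpa using hTT q.out⟩
    have hf : Function.Injective f := by
      intro a b hab
      have h : a.out * d.tb * a.out⁻¹ = b.out * d.tb * b.out⁻¹ := congrArg Subtype.val hab
      refine a.out_eq'.symm.trans (((QuotientGroup.eq (s := C)).2 ?_).trans b.out_eq')
      refine Subgroup.mem_centralizer_singleton_iff.2 ?_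
      calc a.out⁻¹ * b.out * d.tb = a.out⁻¹ * (b.out * d.tb * b.out⁻¹) * b.out := by group
        _ = a.out⁻¹ * (a.out * d.tb * a.out⁻¹) * b.out := by rw [h]
        _ = d.tb * (a.out⁻¹ * b.out) := by group
    have hidx : C.index ≤ 3 := by
      refine (Nat.card_le_card_of_injective f hf).trans ?_
      rw [Nat.card_coe_set_eq]
      refine (Set.ncard_insert_le _ _).trans (Nat.succ_le_succ ?_)
      exact (Set.ncard_insert_le _ _).trans (by rw [Set.ncard_singleton])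
    have hker : θ.ker ≤ C := fun m hm =>
      Subgroup.mem_centralizer_singleton_iff.2 (hcomm m ((hθ m).1 hm)).eq
    have hidx' : (C.map θ).index ≤ 3 := by
      rw [C.index_map_eq hsurj hker]; exact hidx
    have htop : C.map θ = ⊤ := by
      rcases (Subgroup.normalCore_normal (C.map θ)).eq_bot_or_eq_top with h | h
      · exfalso
        let q := MulAction.toPermHom (alternatingGroup (Fin 5)) (alternatingGroup (Fin 5) ⧸ C.map θ)
        have hq : Function.Injective q := by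
          rw [← MonoidHom.ker_eq_bot_iff, ← Subgroup.normalCore_eq_ker, h]
        have hle := Nat.card_le_card_of_injective q hq
        rw [h60, Nat.card_perm] at hle
        have hfac := Nat.factorial_le hidx'
        have : Nat.factorial 3 = 6 := by decide
        change 60 ≤ (C.map θ).index.factorial at hle
        omega
      · exact top_le_iff.1 (h ▸ Subgroup.normalCore_le _)
    obtain ⟨c, hc, hce⟩ := (htop ▸ Subgroup.mem_top (θ d.yb) : θ d.yb ∈ C.map θ)
    have hy : c⁻¹ * d.yb ∈ θ.ker := by rw [MonoidHom.mem_ker, map_mul, map_inv, hce, inv_mul_cancel]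
    have : d.yb ∈ C := by simpa using C.mul_mem hc (hker hy)
    exact d.tb_not_commute_yb (Subgroup.mem_centralizer_singleton_iff.1 this)
  · have hwN : d.wb ∉ N := fun h => htN (hc1 ▸ hN.conj_mem _ h _)
    have hw'N : d.wb' ∉ N := fun h => hwN (hc3 ▸ hN.conj_mem _ h _)
    have ha1 : θ d.tb ≠ 1 := fun h => htN ((hθ _).1 h)
    have hb1 : θ d.wb ≠ 1 := fun h => hwN ((hθ _).1 h)
    have hba : θ d.wb ≠ θ d.tb := fun h => hw'N ((hθ _).1 (by
      rw [← htw, map_mul, h, ← map_mul, ht2, map_one]))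
    have hfour : ∀ m, Commute m d.tb → θ m = 1 ∨ θ m = θ d.tb ∨ θ m = θ d.wb ∨ θ m = θ d.tb * θ d.wb :=
      fun m hm => alt_five_cent _ _ _ (by rw [← map_mul, ht2, map_one]) ha1
        (by rw [← map_mul, hw2, map_one]) hb1 hba (by rw [← map_mul, hwt, map_mul])
        (by rw [← map_mul, hm.eq, map_mul])
    have hR : d.NoR := by
      intro r ht hs ho
      let x : d.CJ := ⟨r, d.mem_CJ.2 (d.commute_J_of ht hs)⟩
      have hxt : Commute (d.πJ x) d.tb := by
        refine Commute.map (Subtype.ext ?_) d.πJ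
        show r * d.φ T8 = d.φ T8 * r
        rw [← d.t_eq]; exact ht.eq
      have hsq' : ∀ v : alternatingGroup (Fin 5), v = 1 ∨ v = θ d.tb ∨ v = θ d.wb ∨
          v = θ d.tb * θ d.wb → v ^ 2 = 1 := by
        rintro v (rfl | rfl | rfl | rfl)
        · exact one_pow 2
        · rw [pow_two, ← map_mul, ht2, map_one]
        · rw [pow_two, ← map_mul, hw2, map_one]
        · rw [pow_two, ← map_mul, ← map_mul, show d.tb * d.wb * (d.tb * d.wb) = 1 by
            rw [mul_assoc, ← mul_assoc d.wb, hwt, mul_assoc, hw2, mul_one, ht2], map_one]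
      have hxo : Odd (orderOf (d.πJ x)) :=
        ho.of_dvd_nat ((orderOf_map_dvd d.πJ x).trans (dvd_of_eq (orderOf_submonoid x).symm))
      have hθx : θ (d.πJ x) = 1 := orderOf_eq_one_iff.1 (Nat.eq_one_of_dvd_coprimes
        (Nat.coprime_two_right.2 hxo) (orderOf_map_dvd θ _)
        (orderOf_dvd_of_pow_eq_one (hsq' _ (hfour _ hxt))))
      have h1 := hodd1 _ ((hθ _).1 hθx) hxo
      rcases d.πJ_eq_one_iff.1 h1 with e | e
      · exact e
      · exfalso
        obtain ⟨a, ha⟩ := ho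
        have := pow_orderOf_eq_one r
        rw [ha, show r = d.φ J8 from e, pow_succ, pow_mul, pow_two, d.jJ_sq, one_pow, one_mul,
          ← map_one d.φ] at this
        exact absurd (congrArg (fun g : A8 => imgs (g : Perm (Fin 8))) (d.φ_inj this)) (by decide +kernel)
    refine d.uJ_not_mem_EJ ?_
    obtain ⟨v, hv, hvt, huv⟩ : ∃ v ∈ d.EJ, Commute v d.tb ∧ θ d.uJ = θ v := by
      rcases hfour _ hut with h | h | h | h
      · exact ⟨1, d.EJ.one_mem, Commute.one_left _, by rw [h, map_one]⟩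
      · exact ⟨_, d.tb_mem_EJ, Commute.refl _, h⟩
      · exact ⟨_, d.wb_mem_EJ, hwt, h⟩
      · exact ⟨_, d.EJ.mul_mem d.tb_mem_EJ d.wb_mem_EJ,
          (Commute.refl _).mul_left hwt, by rw [h, map_mul]⟩
    have hm : v⁻¹ * d.uJ ∈ N := (hθ _).1 (by rw [map_mul, map_inv, huv, inv_mul_cancel])
    have hmE := d.pow_two_mem_EJ hR hN h2N hm (hvt.inv_left.mul_left hut)
    simpa using d.EJ.mul_mem hv hmE

theorem card_case (e : d.HJ ≃* Matrix.ProjectiveSpecialLinearGroup (Fin 2) (ZMod 7)) : False := by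
  have : Fact (Nat.Prime 2) := ⟨Nat.prime_two⟩
  have : Fact (Nat.Prime 7) := ⟨by norm_num⟩
  have hcard : Nat.card d.HJ = 168 := by
    rw [Nat.card_congr e.toEquiv, GLOrder.card_PSL_two, Nat.card_zmod]
    norm_num
  have h2E : IsPGroup 2 d.EJ := fun a => by
    obtain ⟨x, q, hq, hx, he⟩ := d.mem_EJ.1 a.2
    refine ⟨6, Subtype.ext ?_⟩
    show (a : d.HJ) ^ 2 ^ 6 = 1
    rw [← he, ← map_pow, d.πJ_eq_one_iff, SubmonoidClass.coe_pow, hx, ← map_pow,
      show q ^ 2 ^ 6 = 1 from qList_pow q hq, map_one]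
    exact Or.inl rfl
  obtain ⟨n, hn⟩ := IsPGroup.iff_card.1 h2E
  have h16 : 16 ≤ Nat.card d.EJ := by
    have hl : ∀ i : Fin repImg.length, ∃ x : d.CJ, ∃ q ∈ qList,
        (x : G) = d.φ q ∧ imgs (q : Perm (Fin 8)) = repImg[i] := by
      intro i
      have hm := repImg_facts.2.1 _ (List.getElem_mem i.2)
      rw [memL, List.any_eq_true] at hm
      obtain ⟨l, hl, he⟩ := hm
      rw [← qImg_eq, List.mem_map] at hl
      obtain ⟨q, hq, rfl⟩ := hl
      exact ⟨d.cj q (qList_J q hq), q, hq, rfl, (eqL_eq he).symm⟩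
    choose x q hq hxq hqi using hl
    let f : Fin repImg.length → d.EJ := fun i => ⟨d.πJ (x i), d.mem_EJ.2 ⟨x i, q i, hq i, hxq i, rfl⟩⟩
    have hf : Function.Injective f := by
      intro i j hij
      have h := d.πJ_eq_iff.1 (congrArg Subtype.val hij)
      rw [hxq, hxq] at h
      rcases h with h | h
      · have h' := congrArg (fun g : A8 => imgs (g : Perm (Fin 8))) (d.φ_inj h)
        simp only [hqi] at h'
        exact Fin.ext ((repImg_facts.1.getElem_inj_iff).1 h')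
      · exfalso
        rw [← map_mul] at h
        have h' := congrArg (fun g : A8 => imgs (g : Perm (Fin 8))) (d.φ_inj h)
        simp only [hqi, Subgroup.coe_mul, ← compL_imgs, img_J] at h'
        exact repImg_facts.2.2 _ (List.getElem_mem j.2) (h' ▸ List.getElem_mem i.2)
    have := Nat.card_le_card_of_injective f hf
    rwa [Nat.card_fin, show repImg.length = 16 by decide +kernel] at this
  have hdvd : 2 ^ n ∣ 168 := hn ▸ hcard ▸ Subgroup.card_subgroup_dvd_card _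
  rw [hn] at h16
  have h4 : 4 ≤ n := by
    by_contra hlt
    interval_cases n <;> norm_num at h16
  have := (pow_dvd_pow 2 h4).trans hdvd
  norm_num at this

/-- The centralizer of `(0 1)(2 3)(4 5)(6 7)` lies in the image of `A₈`. -/
theorem centJ_le {g : G} (hg : Commute g (d.φ J8)) : g ∈ d.G0 := by
  rcases S3331.result (Subgroup.zpowers d.yb) (by rw [Nat.card_zpowers, d.orderOf_yb]) d.cent_yb with
    ⟨N, hN, hnil, hcop, hq⟩ | ⟨N, hN, hab, hsq, ⟨e⟩⟩ | ⟨⟨e⟩⟩
  · exact d.nilpotent_case N hN hnil hcop hq ⟨g, d.mem_CJ.2 hg⟩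
  · exact (d.five_case N hN hab hsq e).elim
  · exact (d.card_case e).elim

end Ext

end Cfsg.Agent.AltEightThree
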