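/-
The recognition of `A₈` from the three-local configuration.
-/
import Cfsg.Agent.Lib.AltEightThree.CentJ
import Cfsg.Agent.Lib.Involution.StronglyEmbedded

set_option autoImplicit false
set_option maxRecDepth 100000
set_option synthInstance.maxSize 4000
set_option synthInstance.maxHeartbeats 400000
set_option linter.unusedSectionVars false

namespace Cfsg.Agent.AltEightThree

namespace Ext

variable {G : Type*} [Group G] [Finite G] (d : Ext G)

theorem cent_T8_le {g : G} (h : Commute g (d.φ T8)) : g ∈ d.G0 :=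
  d.centT_le (fun _ hg => d.centJ_le hg) (by rwa [d.t_eq])

theorem G0_eq_top : d.G0 = ⊤ := by
  by_contra hne
  have hT : orderOf (d.φ T8) = 2 := d.t_eq ▸ d.orderOf_t
  have hJ : orderOf (d.φ J8) = 2 := by
    refine orderOf_eq_prime (by rw [pow_two, d.jJ_sq]) fun e => ?_
    exact absurd (congrArg (fun g : A8 => imgs (g : Equiv.Perm (Fin 8)))
      (d.φ_inj (e.trans (map_one d.φ).symm))) (by decide +kernel)
  have hse : Cfsg.IsStronglyEmbedded d.G0 := by
    refine Involution.isStronglyEmbedded_iff_forall.2 ⟨hne, ?_, fun g t ht htH hg => ?_⟩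
    · exact even_iff_two_dvd.2 (hT ▸ Subgroup.orderOf_dvd_natCard d.G0 ⟨T8, rfl⟩)
    obtain ⟨π, rfl⟩ := htH
    obtain ⟨π', hπ'⟩ := hg
    have hsq : ∀ a : A8, orderOf (d.φ a) = 2 → a * a = 1 ∧ a ≠ 1 := by
      intro a ha
      refine ⟨d.φ_inj (by rw [map_mul, map_one, ← pow_two, ← ha, pow_orderOf_eq_one]), ?_⟩
      rintro rfl
      rw [map_one, orderOf_one] at ha
      norm_num at ha
    obtain ⟨h2, h1⟩ := hsq π ht
    obtain ⟨h2', h1'⟩ := hsq π' (by rw [hπ', orderOf_conj_eq]; exact ht)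
    have hc : IsConj (d.φ π) (d.φ π') := isConj_iff.2 ⟨g, hπ'.symm⟩
    have key : ∀ K : A8, (∀ x, Commute x (d.φ K) → x ∈ d.G0) → IsConj K π → IsConj K π' → g ∈ d.G0 := by
      intro K hK hp hq
      obtain ⟨p, rfl⟩ := isConj_iff.1 hp
      obtain ⟨q, rfl⟩ := isConj_iff.1 hq
      simp only [map_mul, map_inv] at hπ'
      have hcm : Commute ((d.φ q)⁻¹ * g * d.φ p) (d.φ K) := by
        calc (d.φ q)⁻¹ * g * d.φ p * d.φ K
            = (d.φ q)⁻¹ * (g * (d.φ p * d.φ K * (d.φ p)⁻¹) * g⁻¹) * g * d.φ p := by group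
          _ = (d.φ q)⁻¹ * (d.φ q * d.φ K * (d.φ q)⁻¹) * g * d.φ p := by rw [hπ']
          _ = d.φ K * ((d.φ q)⁻¹ * g * d.φ p) := by group
      have := d.G0.mul_mem (d.G0.mul_mem ⟨q, rfl⟩ (hK _ hcm)) (d.G0.inv_mem ⟨p, rfl⟩)
      rwa [show d.φ q * ((d.φ q)⁻¹ * g * d.φ p) * (d.φ p)⁻¹ = g by group] at this
    rcases isConj_class h2 h1 with ⟨hp, -⟩ | ⟨hp, -⟩ <;>
      rcases isConj_class h2' h1' with ⟨hq, -⟩ | ⟨hq, -⟩
    · exact key T8 (fun _ h => d.cent_T8_le h) hp hq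
    · refine absurd ?_ d.not_isConj_t_J
      rw [d.t_eq]
      exact ((d.isConj_of_A8 hp).trans hc).trans (d.isConj_of_A8 hq).symm
    · refine absurd ?_ d.not_isConj_t_J
      rw [d.t_eq]
      exact ((d.isConj_of_A8 hq).trans hc.symm).trans (d.isConj_of_A8 hp).symm
    · exact key J8 (fun _ h => d.centJ_le h) hp hq
  refine d.not_isConj_t_J ?_
  rw [d.t_eq]
  exact Involution.isConj_involutions hse hT hJ

end Ext

/-- A finite group with the configuration is isomorphic to `A₈`. -/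
theorem Cfg.nonempty_mulEquiv {G : Type*} [Group G] [Finite G] (c : Cfg G) :
    Nonempty (G ≃* alternatingGroup (Fin 8)) := by
  obtain ⟨d⟩ := c.exists_ext
  exact ⟨(MulEquiv.ofBijective d.φ ⟨d.φ_inj, MonoidHom.range_eq_top.1 d.G0_eq_top⟩).symm⟩

end Cfsg.Agent.AltEightThree
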