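/-
The configuration from the normalizers of a subgroup of order three and of a Sylow three-subgroup.
-/
import Cfsg.Agent.Lib.AltEightThree.Local

set_option autoImplicit false
set_option maxRecDepth 100000
set_option synthInstance.maxSize 4000
set_option synthInstance.maxHeartbeats 400000
set_option linter.unusedSectionVars false

namespace Cfsg.Agent.AltEightThree

/-- The nine elements of `⟨zP⟩ × ⟨wP⟩`. -/
def nineList : List Pairs :=
  [1, zP, zP * zP, wP, zP * wP, zP * zP * wP, wP * wP, zP * (wP * wP), zP * zP * (wP * wP)]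

/-- The normalizer of `⟨zP⟩ × ⟨wP⟩`. -/
def InNine (x : Pairs) : Prop := x * zP * x⁻¹ ∈ nineList ∧ x * wP * x⁻¹ ∈ nineList

instance : DecidablePred InNine := fun x => by unfold InNine; infer_instance

theorem order_three_normal : ∀ x : Pairs, x ^ 3 = 1 → x ≠ 1 →
    (∀ g ∈ [wP, fP], g * x * g⁻¹ = x ∨ g * x * g⁻¹ = x⁻¹) → x = zP ∨ x = zP⁻¹ := by
  decide +kernel

theorem order_three_conj : ∀ x : Pairs, x ^ 3 = 1 → x * zP = zP * x →
    x ∉ [1, zP, zP * zP] → ∃ g : Pairs, (g * zP * g⁻¹ = zP ∨ g * zP * g⁻¹ = zP⁻¹) ∧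
      ∃ i < 3, ∃ k < 3, k ≠ 0 ∧ g * x * g⁻¹ = zP ^ i * wP ^ k := by
  decide +kernel

theorem conj_zP : ∀ x : Pairs, x * zP * x⁻¹ = zP ∨ x * zP * x⁻¹ = zP⁻¹ := by decide +kernel

theorem card_inNine : Fintype.card {x : Pairs // InNine x} = 36 := by decide +kernel

theorem nine_zw : ∀ x : Pairs, InNine x → x * (zP * wP) = zP * wP * x → x * x = 1 → x = 1 := by
  decide +kernel

theorem nine_fixed : ∀ d ∈ nineList, (hP * d * hP⁻¹ = d ∨ hP * d * hP⁻¹ = d⁻¹) →
    d ∈ [1, zP, zP * zP] ∨ d = wP ∨ d = wP⁻¹ := by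
  decide +kernel

theorem nine_lines : ∀ d ∈ nineList, d ∉ [1, zP, zP * zP] → d ≠ wP → d ≠ wP⁻¹ →
    ∃ h : Pairs, InNine h ∧ h * (zP * wP) * h⁻¹ = d := by
  decide +kernel

theorem nine_partner : ∀ x : Pairs, InNine x → x * zP * x⁻¹ = zP⁻¹ → x * wP = wP * x → x * x = 1 →
    ∃ m < 3, zP ^ m * x * (zP ^ m)⁻¹ = bP := by
  decide +kernel

theorem nine_mem : zP ∈ nineList ∧ wP ∈ nineList ∧ InNine hP ∧ InNine aP ∧
    aP * zP * aP⁻¹ = zP ∧ aP * wP * aP⁻¹ = wP⁻¹ ∧ aP * aP = 1 := by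
  decide +kernel

variable {G : Type*} [Group G] [Finite G]

/-- The configuration from the normalizer of `D` of order `72` and an element of `D` with
centralizer of order `18`. -/
theorem nonempty_cfg (D : Subgroup G) (ψ : Pairs →* G) (hinj : Function.Injective ψ)
    (hrange : ∀ g : G, g * ψ zP * g⁻¹ = ψ zP ∨ g * ψ zP * g⁻¹ = (ψ zP)⁻¹ → g ∈ ψ.range)
    (hz : ψ zP ∈ D) (hw : ψ wP ∈ D) (hD : Nat.card D = 9) (hN : Nat.card (Subgroup.normalizer (D : Set G)) = 72)
    {y : G} (hy : y ∈ D) (hyn : ∀ c, Commute c y → ∀ v ∈ D, c * v * c⁻¹ ∈ D)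
    (hycard : Nat.card (Subgroup.centralizer ({y} : Set G)) = 18) (h27 : ¬ 27 ∣ Nat.card G) :
    Nonempty (Cfg G) := by
  classical
  have hnine : ∀ v, v ∈ D ↔ ∃ x ∈ nineList, ψ x = v := by
    have hmem : ∀ x ∈ nineList, ψ x ∈ D := by
      intro x hx
      simp only [nineList, List.mem_cons, List.not_mem_nil, or_false] at hx
      rcases hx with rfl | rfl | rfl | rfl | rfl | rfl | rfl | rfl | rfl <;>
        (try simp only [map_mul, map_one]) <;>
        first
        | exact D.one_mem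
        | assumption
        | (repeat' first | assumption | apply D.mul_mem)
    intro v
    refine ⟨fun hv => ?_, fun ⟨x, hx, he⟩ => he ▸ hmem x hx⟩
    let f : Fin 9 → D := fun i =>
      ⟨ψ (nineList[i.val]'(lt_of_lt_of_eq i.2 rfl)), hmem _ (List.getElem_mem _)⟩
    have hf : Function.Injective f := by
      intro a b hab
      have h := hinj (congrArg Subtype.val hab)
      have hnd : nineList.Nodup := by decide +kernel
      exact Fin.ext (hnd.getElem_inj_iff.1 h)
    obtain ⟨i, hi⟩ := (hf.bijective_of_nat_card_le (by rw [hD, Nat.card_fin])).2 ⟨v, hv⟩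
    exact ⟨_, List.getElem_mem _, congrArg Subtype.val hi⟩
  have hDnorm : ∀ g : G, g * ψ zP * g⁻¹ ∈ D → g * ψ wP * g⁻¹ ∈ D →
      g ∈ Subgroup.normalizer (D : Set G) := by
    intro g h1 h2
    refine Subgroup.mem_normalizer_fintype fun v hv => ?_
    obtain ⟨x, hx, rfl⟩ := (hnine v).1 hv
    show (MulAut.conj g) (ψ x) ∈ D
    simp only [nineList, List.mem_cons, List.not_mem_nil, or_false] at hx
    have h1' : (MulAut.conj g) (ψ zP) ∈ D := h1
    have h2' : (MulAut.conj g) (ψ wP) ∈ D := h2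
    rcases hx with rfl | rfl | rfl | rfl | rfl | rfl | rfl | rfl | rfl <;>
      (try simp only [map_mul, map_one]) <;>
      first
      | exact D.one_mem
      | assumption
      | (repeat' first | assumption | apply D.mul_mem)
  have hin : ∀ x : Pairs, ψ x ∈ Subgroup.normalizer (D : Set G) ↔ InNine x := by
    intro x
    have key : ∀ v, ψ x * ψ v * (ψ x)⁻¹ ∈ D ↔ x * v * x⁻¹ ∈ nineList := by
      intro v
      rw [← map_inv, ← map_mul, ← map_mul, hnine]
      exact ⟨fun ⟨u, hu, he⟩ => hinj he ▸ hu, fun h => ⟨_, h, rfl⟩⟩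
    constructor
    · intro h
      exact ⟨(key zP).1 ((Subgroup.mem_normalizer_iff.1 h _).1 hz),
        (key wP).1 ((Subgroup.mem_normalizer_iff.1 h _).1 hw)⟩
    · rintro ⟨h1, h2⟩
      exact hDnorm _ ((key zP).2 h1) ((key wP).2 h2)
  set N := Subgroup.normalizer (D : Set G) with hNdef
  set M := ψ.range.subgroupOf N with hM
  have hMcard : Nat.card M = 36 := by
    have e : Nat.card M = Nat.card {x : Pairs // InNine x} := by
      refine (Nat.card_eq_of_bijective
        (fun x : {x : Pairs // InNine x} => (⟨⟨ψ x.1, (hin _).2 x.2⟩, ⟨x.1, rfl⟩⟩ : M)) ⟨?_, ?_⟩).symm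
      · intro a b h
        exact Subtype.ext (hinj (congrArg (fun m : M => ((m : N) : G)) h))
      · rintro ⟨⟨g, hg⟩, x, hx⟩
        have hx' : ψ x = g := hx
        exact ⟨⟨x, (hin x).1 (hx' ▸ hg)⟩, Subtype.ext (Subtype.ext hx')⟩
    rw [e, Nat.card_eq_fintype_card, card_inNine]
  have hidx : M.index = 2 := by
    have := M.card_mul_index
    rw [hMcard, hN] at this
    omega
  have hMn : M.Normal := Subgroup.normal_of_index_eq_two hidx
  have htrans : ∀ (g : G), g ∈ N → g ∉ ψ.range →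
      g * ψ zP * g⁻¹ = ψ wP ∨ g * ψ zP * g⁻¹ = (ψ wP)⁻¹ := by
    intro g hg hgr
    have hgz : g * ψ zP * g⁻¹ ∈ D := (Subgroup.mem_normalizer_iff.1 hg _).1 hz
    obtain ⟨d, hd, hde⟩ := (hnine _).1 hgz
    obtain ⟨hh, -⟩ : InNine hP ∧ True := ⟨nine_mem.2.2.1, trivial⟩
    have hm : ((⟨g, hg⟩ : N)⁻¹ * ⟨ψ hP, (hin _).2 hh⟩ * ⟨g, hg⟩) ∈ M :=
      hMn.conj_mem' _ ⟨hP, rfl⟩ _
    obtain ⟨x, hx⟩ := hm
    have hx' : ψ x = g⁻¹ * ψ hP * g := hx
    have hc : hP * d * hP⁻¹ = d ∨ hP * d * hP⁻¹ = d⁻¹ := by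
      have e : ψ hP * ψ d * (ψ hP)⁻¹ = g * (ψ x * ψ zP * (ψ x)⁻¹) * g⁻¹ := by
        rw [hde, hx']; group
      rcases conj_zP x with h | h
      · refine Or.inl (hinj ?_)
        rw [map_mul, map_mul, map_inv, e, ← map_inv, ← map_mul, ← map_mul, h, hde]
      · refine Or.inr (hinj ?_)
        rw [map_mul, map_mul, map_inv, e, ← map_inv ψ x, ← map_mul, ← map_mul, h, map_inv, map_inv, hde]
        group
    rcases nine_fixed d hd hc with h | h | h
    · exfalso
      simp only [List.mem_cons, List.not_mem_nil, or_false] at h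
      rcases h with rfl | rfl | rfl
      · rw [map_one, eq_comm, conj_eq_one_iff, ← map_one ψ] at hde
        exact absurd (hinj hde) (by decide +kernel)
      · exact hgr (hrange g (Or.inl hde.symm))
      · exact hgr (hrange g (Or.inr (by rw [← hde, ← map_inv]; exact congrArg ψ (by decide +kernel))))
    · exact Or.inl (by rw [← hde, h])
    · exact Or.inr (by rw [← hde, h, map_inv])
  obtain ⟨g, hgN, hgr⟩ : ∃ g, g ∈ N ∧ g ∉ ψ.range := by
    by_contra hall
    push Not at hall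
    have htop : M = ⊤ := eq_top_iff.2 fun m _ => hall m m.2
    rw [htop, Subgroup.index_top] at hidx
    norm_num at hidx
  have hfive : ∀ v : G, IsConj (ψ zP) v → Nat.card (Subgroup.centralizer ({v} : Set G)) ≠ 18 := by
    intro v hv h18
    obtain ⟨q, rfl⟩ := isConj_iff.1 hv
    have h5 : orderOf (q * ψ fP * q⁻¹) = 5 := by
      rw [orderOf_conj_eq, orderOf_injective _ hinj]
      exact orderOf_eq_prime (p := 5) (hp := ⟨by norm_num⟩) (by decide +kernel) (by decide +kernel)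
    have hc : Commute (ψ fP) (ψ zP) := Commute.map (show Commute fP zP from (by decide +kernel : fP * zP = zP * fP)) ψ
    have hm : q * ψ fP * q⁻¹ ∈ Subgroup.centralizer ({q * ψ zP * q⁻¹} : Set G) := by
      rw [Subgroup.mem_centralizer_singleton_iff]
      have := hc.map (MulAut.conj q)
      simp only [MulAut.conj_apply] at this
      exact this
    have := Subgroup.orderOf_dvd_natCard _ hm
    rw [h5, h18] at this
    norm_num at this
  obtain ⟨d, hd, rfl⟩ := (hnine y).1 hy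
  have hzinv : IsConj (ψ zP) (ψ zP)⁻¹ := isConj_iff.2 ⟨ψ hP, by
    rw [← map_inv, ← map_inv, ← map_mul, ← map_mul, show hP * zP * hP⁻¹ = zP⁻¹ by decide +kernel]⟩
  have hwconj : IsConj (ψ zP) (ψ wP) ∧ IsConj (ψ zP) (ψ wP)⁻¹ := by
    rcases htrans g hgN hgr with h | h
    · refine ⟨isConj_iff.2 ⟨g, h⟩, hzinv.trans (isConj_iff.2 ⟨g, ?_⟩)⟩
      rw [← h]; group
    · refine ⟨hzinv.trans (isConj_iff.2 ⟨g, ?_⟩), isConj_iff.2 ⟨g, h⟩⟩
      rw [← inv_inv (ψ wP), ← h]; group
  have hd1 : d ∉ [1, zP, zP * zP] := by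
    intro h
    simp only [List.mem_cons, List.not_mem_nil, or_false] at h
    rcases h with rfl | rfl | rfl
    · have h' : Nat.card (Subgroup.centralizer ({ψ (1 : Pairs)} : Set G)) = Nat.card G := by
        rw [map_one, Subgroup.centralizer_eq_top_iff_subset.2 (by simp), Subgroup.card_top]
      rw [h'] at hycard
      have := Subgroup.card_subgroup_dvd_card N
      rw [hN, hycard] at this
      norm_num at this
    · exact hfive _ (IsConj.refl _) hycard
    · rw [show ψ (zP * zP) = (ψ zP)⁻¹ by rw [← map_inv]; exact congrArg ψ (by decide +kernel)] at hycard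
      exact hfive _ hzinv hycard
  obtain ⟨h, hh, hhd⟩ := nine_lines d hd hd1
    (fun e => hfive _ (e ▸ hwconj.1) hycard)
    (fun e => hfive _ (by rw [e, map_inv]; exact hwconj.2) hycard)
  have hhN : ψ h ∈ N := (hin h).2 hh
  have hconj : ψ d = ψ h * ψ (zP * wP) * (ψ h)⁻¹ := by rw [← map_inv, ← map_mul, ← map_mul, hhd]
  have hcardzw : Nat.card (Subgroup.centralizer ({ψ (zP * wP)} : Set G)) = 18 := by
    rw [← hycard]
    refine Nat.card_congr (Equiv.subtypeEquiv (MulAut.conj (ψ h)).toEquiv fun v => ?_)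
    simp only [Subgroup.mem_centralizer_singleton_iff, MulEquiv.toEquiv_eq_coe, EquivLike.coe_coe,
      MulAut.conj_apply, hconj]
    constructor
    · intro hv
      have := (show Commute v (ψ (zP * wP)) from hv).map (MulAut.conj (ψ h))
      simp only [MulAut.conj_apply] at this
      exact this
    · intro hv
      have := (show Commute _ _ from hv).map (MulAut.conj (ψ h)⁻¹)
      simp only [MulAut.conj_apply, inv_inv] at this
      simpa [mul_assoc] using this.eq
  have hzwN : ∀ v, Commute v (ψ (zP * wP)) → v ∈ N := by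
    intro v hv
    have hv' : Commute (ψ h * v * (ψ h)⁻¹) (ψ d) := by
      rw [hconj]
      have := hv.map (MulAut.conj (ψ h))
      simpa only [MulAut.conj_apply] using this
    have : ψ h * v * (ψ h)⁻¹ ∈ N :=
      Subgroup.mem_normalizer_fintype fun u hu => hyn _ hv' u hu
    have := N.mul_mem (N.mul_mem (N.inv_mem hhN) this) hhN
    simpa [mul_assoc] using this
  have : Fact (Nat.Prime 2) := ⟨Nat.prime_two⟩
  obtain ⟨⟨i, hi⟩, hi2⟩ := exists_prime_orderOf_dvd_card'
    (G := Subgroup.centralizer ({ψ (zP * wP)} : Set G)) 2 (by rw [hcardzw]; norm_num)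
  rw [← orderOf_submonoid] at hi2
  have hi2' : i * i = 1 := by rw [← pow_two, ← hi2, pow_orderOf_eq_one]
  have hiinv : i⁻¹ = i := inv_eq_of_mul_eq_one_right hi2'
  have hic : Commute i (ψ (zP * wP)) := Subgroup.mem_centralizer_singleton_iff.1 hi
  have hiN := hzwN i hic
  have hir : i ∉ ψ.range := by
    rintro ⟨x, hx⟩
    have h1 : x = 1 := nine_zw x ((hin x).1 (hx ▸ hiN))
      (hinj (by rw [map_mul, map_mul ψ _ x, hx]; exact hic.eq))
      (hinj (by rw [map_mul, map_one, hx, hi2']))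
    rw [h1, map_one] at hx
    change orderOf i = 2 at hi2
    rw [← hx, orderOf_one] at hi2
    norm_num at hi2
  have hzw : i * ψ zP * i⁻¹ * (i * ψ wP * i⁻¹) = ψ zP * ψ wP := by
    rw [← map_mul]
    calc i * ψ zP * i⁻¹ * (i * ψ wP * i⁻¹) = i * ψ (zP * wP) * i⁻¹ := by rw [map_mul]; group
      _ = _ := by rw [hic.eq, mul_inv_cancel_right]
  have hiz : i * ψ zP * i = ψ wP ∧ i * ψ wP * i = ψ zP := by
    rw [hiinv] at hzw
    rcases htrans i hiN hir with h1 | h1 <;> rw [hiinv] at h1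
    · refine ⟨h1, ?_⟩
      rw [← h1]
      calc i * (i * ψ zP * i) * i = (i * i) * ψ zP * (i * i) := by group
        _ = ψ zP := by rw [hi2', one_mul, mul_one]
    · exfalso
      have h2 : i * ψ wP * i = (ψ zP)⁻¹ := by
        have hw' : ψ wP = i * (ψ zP)⁻¹ * i := by
          rw [← inv_inv (ψ wP), ← h1, mul_inv_rev, mul_inv_rev, hiinv, mul_assoc]
        rw [hw']
        calc i * (i * (ψ zP)⁻¹ * i) * i = (i * i) * (ψ zP)⁻¹ * (i * i) := by group
          _ = _ := by rw [hi2', one_mul, mul_one]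
      rw [h1, h2, ← map_inv, ← map_inv, ← map_mul, ← map_mul] at hzw
      exact absurd (hinj hzw) (by decide +kernel)
  obtain ⟨hzm, hwm, -, haN, haz, haw, ha2⟩ := nine_mem
  have ha1 : (⟨i, hiN⟩ : N) * ⟨ψ aP, (hin _).2 haN⟩ * (⟨i, hiN⟩ : N)⁻¹ ∈ M :=
    hMn.conj_mem _ ⟨aP, rfl⟩ _
  obtain ⟨x, hx⟩ := ha1
  have hx' : ψ x = i * ψ aP * i := by
    have : ψ x = i * ψ aP * i⁻¹ := hx
    rwa [hiinv] at this
  have hci : ∀ p q : G, i * (p * q) * i = (i * p * i) * (i * q * i) := fun p q => by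
    calc i * (p * q) * i = i * p * 1 * q * i := by group
      _ = _ := by rw [← hi2']; group
  have hxinv : (i * ψ aP * i)⁻¹ = i * (ψ aP)⁻¹ * i := by
    rw [mul_inv_rev, mul_inv_rev, hiinv, mul_assoc]
  obtain ⟨m, -, hm⟩ := nine_partner x
    ((hin x).1 (hx' ▸ (N.mul_mem (N.mul_mem hiN ((hin _).2 haN)) hiN)))
    (hinj (by
      rw [map_mul, map_mul, map_inv, map_inv, hx', hxinv, ← hiz.2, ← hci, ← hci, ← map_inv, ← map_mul,
        ← map_mul, haw, map_inv]
      rw [hiz.2, eq_inv_iff_mul_eq_one, ← hiz.2, ← hci, inv_mul_cancel, mul_one, hi2']))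
    (hinj (by
      rw [map_mul, map_mul, hx', ← hiz.1, ← hci, ← hci, ← map_mul, ← map_mul,
        show aP * zP = zP * aP by decide +kernel]))
    (hinj (by rw [map_mul, map_one, hx', ← hci, ← map_mul, ha2, map_one, mul_one, hi2']))
  refine ⟨{
    ψ := ψ
    inj := hinj
    mem_range := hrange
    j := ψ zP ^ m * i * (ψ zP ^ m)⁻¹
    j_sq := by
      calc _ = ψ zP ^ m * (i * i) * (ψ zP ^ m)⁻¹ := by group
        _ = 1 := by rw [hi2', mul_one, mul_inv_cancel]
    j_z := ?_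
    j_a := ?_
    card_zw := hcardzw
    not27 := h27 }⟩
  · have hc : (ψ zP ^ m)⁻¹ * ψ zP * ψ zP ^ m = ψ zP := by
      rw [mul_assoc, ← (Commute.self_pow (ψ zP) m).eq.symm, inv_mul_cancel_left]
    calc ψ zP ^ m * i * (ψ zP ^ m)⁻¹ * ψ zP * (ψ zP ^ m * i * (ψ zP ^ m)⁻¹)
        = ψ zP ^ m * (i * ((ψ zP ^ m)⁻¹ * ψ zP * ψ zP ^ m) * i) * (ψ zP ^ m)⁻¹ := by group
      _ = ψ zP ^ m * ψ wP * (ψ zP ^ m)⁻¹ := by rw [hc, hiz.1]
      _ = ψ wP := by
        rw [((Commute.map (show Commute zP wP from (by decide +kernel : zP * wP = wP * zP)) ψ).pow_left m).eq, mul_inv_cancel_right]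
  · have hc : (ψ zP ^ m)⁻¹ * ψ aP * ψ zP ^ m = ψ aP := by
      rw [mul_assoc, ← ((Commute.map (show Commute zP aP from (by decide +kernel : zP * aP = aP * zP)) ψ).pow_left m).eq,
        inv_mul_cancel_left]
    calc ψ zP ^ m * i * (ψ zP ^ m)⁻¹ * ψ aP * (ψ zP ^ m * i * (ψ zP ^ m)⁻¹)
        = ψ zP ^ m * (i * ((ψ zP ^ m)⁻¹ * ψ aP * ψ zP ^ m) * i) * (ψ zP ^ m)⁻¹ := by group
      _ = ψ bP := by rw [hc, ← hx', ← map_pow, ← map_inv, ← map_mul, ← map_mul, hm]

end Cfsg.Agent.AltEightThree
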